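import Mathlib
import Cfsg.Agent.GTwoFour.Tools

section


/-!
# Counting homomorphisms to `±1` (THEOREM BETA, step (5) and (8))

* `card_hom_le`: a finite group has at most `|A|` homomorphisms to `ℤˣ`.
* `relIndex_le`: a pairing `b : X × P → ±1`, multiplicative in `P`, trivial on `K`, with
  left kernel inside `Z` : `|X : Z ∩ X| ≤ |P : K ∩ P|`.
* `exists_rep`: if moreover `|P : K ∩ P| ≤ |X : Z ∩ X|`, every character of `P` which kills
  `K ∩ P` is `b x` for some `x ∈ X`.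
-/

namespace Cfsg.Agent.Omega.NO1.Beta

open Subgroup

/-- A finite group has at most `|A|` homomorphisms into `{1, -1}`. -/
theorem card_hom_le (A : Type*) [Group A] [Finite A] : Nat.card (A →* ℤˣ) ≤ Nat.card A := by
  classical
  have := Fintype.ofFinite A
  let j : (A →* ℤˣ) → (A →* ℚ) := fun f => ((Int.castRingHom ℚ : ℤ →* ℚ).comp
    (Units.coeHom ℤ)).comp f
  have hj : Function.Injective j := by
    intro f g hfg
    ext a
    have h1 := DFunLike.congr_fun hfg a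
    have h2 : (((f a : ℤˣ) : ℤ) : ℚ) = (((g a : ℤˣ) : ℤ) : ℚ) := h1
    exact_mod_cast h2
  have hli := linearIndependent_monoidHom A ℚ
  have hli' : LinearIndependent ℚ (fun f : A →* ℤˣ => (⇑(j f) : A → ℚ)) :=
    hli.comp j hj
  have hfin : Finite (A →* ℤˣ) := hli'.finite
  have := Fintype.ofFinite (A →* ℤˣ)
  have hc := hli'.fintype_card_le_finrank
  rw [Module.finrank_fintype_fun_eq_card] at hc
  rwa [Nat.card_eq_fintype_card, Nat.card_eq_fintype_card]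

/-- The characters of `P` which kill `K`. -/
theorem card_kill_le {P : Type*} [Group P] [Finite P] (K : Subgroup P) [hK : K.Normal] :
    Nat.card {g : P →* ℤˣ // K ≤ g.ker} ≤ K.index := by
  classical
  have hfin : Finite (P ⧸ K →* ℤˣ) := by
    have : Finite ℤˣ := inferInstance
    exact DFunLike.finite _
  have h := card_hom_le (P ⧸ K)
  refine le_trans (Nat.card_le_card_of_injective
    (fun g : {g : P →* ℤˣ // K ≤ g.ker} => (QuotientGroup.lift K g.1 g.2 : P ⧸ K →* ℤˣ)) ?_) h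
  intro g g' hgg
  apply Subtype.ext
  ext a
  have := DFunLike.congr_fun hgg (QuotientGroup.mk a)
  simpa using congrArg (fun u : ℤˣ => (u : ℤ)) this

variable {G : Type*} [Group G]

section

variable {X P Z K : Subgroup G} (b : G → G → ℤˣ)

/-- The character of `P` attached to an `x`. -/
private def chr (hb : ∀ x ∈ X, ∀ y ∈ P, ∀ y' ∈ P, b x (y * y') = b x y * b x y') (x : X) :
    P →* ℤˣ :=
  MonoidHom.mk' (fun y => b x y) (fun y y' => hb x x.2 y y.2 y' y'.2)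

private def chrK (hb : ∀ x ∈ X, ∀ y ∈ P, ∀ y' ∈ P, b x (y * y') = b x y * b x y')
    (hk : ∀ x ∈ X, ∀ k ∈ P, k ∈ K → b x k = 1) (x : X) :
    {g : P →* ℤˣ // K.subgroupOf P ≤ g.ker} :=
  ⟨chr b hb x, fun k hkk => hk x x.2 k k.2 hkk⟩

private theorem normal_of (hKP : ∀ y ∈ P, ∀ k ∈ P, k ∈ K → y * k * y⁻¹ ∈ K) :
    (K.subgroupOf P).Normal :=
  ⟨fun k hk y => by
    have := hKP y y.2 k k.2 hk
    simpa [mem_subgroupOf] using this⟩

private noncomputable def inj (hb : ∀ x ∈ X, ∀ y ∈ P, ∀ y' ∈ P, b x (y * y') = b x y * b x y')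
    (hk : ∀ x ∈ X, ∀ k ∈ P, k ∈ K → b x k = 1) (q : X ⧸ Z.subgroupOf X) :
    {g : P →* ℤˣ // K.subgroupOf P ≤ g.ker} :=
  chrK b hb hk q.out

private theorem inj_injective
    (hb : ∀ x ∈ X, ∀ y ∈ P, ∀ y' ∈ P, b x (y * y') = b x y * b x y')
    (hk : ∀ x ∈ X, ∀ k ∈ P, k ∈ K → b x k = 1)
    (hx : ∀ x ∈ X, ∀ x' ∈ X, (∀ y ∈ P, b x y = b x' y) → x⁻¹ * x' ∈ Z) :
    Function.Injective (inj (Z := Z) b hb hk) := by
  intro q q' hqq
  have h1 : (q.out : X)⁻¹ * q'.out ∈ Z.subgroupOf X := by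
    rw [mem_subgroupOf]
    apply hx _ q.out.2 _ q'.out.2
    intro y hy
    have h2 := congrArg Subtype.val hqq
    have h3 := DFunLike.congr_fun h2 (⟨y, hy⟩ : P)
    exact h3
  have h2 : (QuotientGroup.mk q.out : X ⧸ Z.subgroupOf X) = QuotientGroup.mk q'.out :=
    QuotientGroup.eq.2 h1
  rwa [QuotientGroup.out_eq', QuotientGroup.out_eq'] at h2

/-- **The pairing inequality.** -/
theorem relIndex_le [Finite G] (hKP : ∀ y ∈ P, ∀ k ∈ P, k ∈ K → y * k * y⁻¹ ∈ K)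
    (hb : ∀ x ∈ X, ∀ y ∈ P, ∀ y' ∈ P, b x (y * y') = b x y * b x y')
    (hk : ∀ x ∈ X, ∀ k ∈ P, k ∈ K → b x k = 1)
    (hx : ∀ x ∈ X, ∀ x' ∈ X, (∀ y ∈ P, b x y = b x' y) → x⁻¹ * x' ∈ Z) :
    Z.relIndex X ≤ K.relIndex P := by
  have := normal_of hKP
  have hf : Finite {g : P →* ℤˣ // K.subgroupOf P ≤ g.ker} := by
    have : Finite (P →* ℤˣ) := DFunLike.finite _
    infer_instance
  exact le_trans (Nat.card_le_card_of_injective _ (inj_injective b hb hk hx))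
    (card_kill_le (K.subgroupOf P))

/-- **Every character is represented.** -/
theorem exists_rep [Finite G] (hKP : ∀ y ∈ P, ∀ k ∈ P, k ∈ K → y * k * y⁻¹ ∈ K)
    (hb : ∀ x ∈ X, ∀ y ∈ P, ∀ y' ∈ P, b x (y * y') = b x y * b x y')
    (hk : ∀ x ∈ X, ∀ k ∈ P, k ∈ K → b x k = 1)
    (hx : ∀ x ∈ X, ∀ x' ∈ X, (∀ y ∈ P, b x y = b x' y) → x⁻¹ * x' ∈ Z)
    (hle : K.relIndex P ≤ Z.relIndex X)
    (g : G → ℤˣ) (hg : ∀ y ∈ P, ∀ y' ∈ P, g (y * y') = g y * g y')
    (hgk : ∀ k ∈ P, k ∈ K → g k = 1) :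
    ∃ x ∈ X, ∀ y ∈ P, b x y = g y := by
  have := normal_of hKP
  have hf : Finite {g : P →* ℤˣ // K.subgroupOf P ≤ g.ker} := by
    have : Finite (P →* ℤˣ) := DFunLike.finite _
    infer_instance
  have hinj := inj_injective b hb hk hx
  have hcard : Nat.card {g : P →* ℤˣ // K.subgroupOf P ≤ g.ker} ≤
      Nat.card (X ⧸ Z.subgroupOf X) := le_trans (card_kill_le (K.subgroupOf P)) hle
  have hbij : Function.Bijective (inj (Z := Z) b hb hk) :=
    (Nat.bijective_iff_injective_and_card _).2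
      ⟨hinj, le_antisymm (Nat.card_le_card_of_injective _ hinj) hcard⟩
  obtain ⟨q, hq⟩ := hbij.2 ⟨MonoidHom.mk' (fun y : P => g y) (fun y y' => hg y y.2 y' y'.2),
    fun k hkk => hgk k k.2 hkk⟩
  refine ⟨q.out, q.out.2, fun y hy => ?_⟩
  exact DFunLike.congr_fun (congrArg Subtype.val hq) (⟨y, hy⟩ : P)

end

/-- A character of a nontrivial elementary abelian 2-group. -/
theorem exists_char [Finite G] {R : Subgroup G} (hne : R ≠ ⊥) (hc : ∀ a ∈ R, ∀ b ∈ R, a * b = b * a)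
    (hs : ∀ a ∈ R, a * a = 1) :
    ∃ χ : G → ℤˣ, (∀ a ∈ R, ∀ b ∈ R, χ (a * b) = χ a * χ b) ∧ ∃ r ∈ R, χ r ≠ 1 := by
  classical
  obtain ⟨r, hr⟩ : ∃ r : R, r ≠ 1 := by
    by_contra hcon
    push Not at hcon
    exact hne ((eq_bot_iff_forall _).2 fun x hx => by
      simpa using congrArg Subtype.val (hcon ⟨x, hx⟩))
  let _ : CommGroup R :=
    { (inferInstance : Group R) with
      mul_comm := fun a b => Subtype.ext (hc a a.2 b b.2) }
  obtain ⟨φ, hφ⟩ := CommGroup.exists_apply_ne_one_of_hasEnoughRootsOfUnity (R : Type _) ℂ hr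
  have h2 : ∀ a : R, φ a = 1 ∨ φ a = -1 := by
    intro a
    have h3 : a * a = 1 := Subtype.ext (hs a a.2)
    have h4 : φ a * φ a = 1 := by rw [← map_mul, h3, map_one]
    have h5 : ((φ a : ℂˣ) : ℂ) * ((φ a : ℂˣ) : ℂ) = 1 := by
      rw [← Units.val_mul, h4, Units.val_one]
    rcases mul_self_eq_one_iff.1 h5 with h | h
    · left; exact Units.ext h
    · right; exact Units.ext (by simpa using h)
  refine ⟨fun a => if h : a ∈ R then (if φ ⟨a, h⟩ = 1 then 1 else -1) else 1, ?_, r, r.2, ?_⟩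
  · intro a ha b hb
    have hab : a * b ∈ R := R.mul_mem ha hb
    have hm : φ ⟨a * b, hab⟩ = φ ⟨a, ha⟩ * φ ⟨b, hb⟩ := by
      rw [← map_mul]; rfl
    have hne1 : (-1 : ℂˣ) ≠ 1 := by
      intro h
      have := congrArg (Units.val) h
      norm_num at this
    simp only [dif_pos ha, dif_pos hb, dif_pos hab, hm]
    rcases h2 ⟨a, ha⟩ with h | h <;> rcases h2 ⟨b, hb⟩ with h' | h' <;> simp [h, h', hne1]
  · simp only [dif_pos r.2]
    rw [if_neg (by simpa using hφ)]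
    decide

end Cfsg.Agent.Omega.NO1.Beta

end

section


/-!
# THEOREM BETA, part E: the module of hermitian `2 × 2`-matrices

`Co K σ M V`: coordinates on `V = O₄⁻(q)` = the hermitian `2 × 2`-matrices over `K`, `|K| = q²`, `M ≤ N(V)` induces
a group on `V` in which `SL₂(K)` (acting by `X ↦ A X A^*`) is normal.

* `d.R0` the singular point `(x, 0, 0)`, `d.Roo` the singular point `(0, 0, z)`, `d.E0 = d.R0^⊥` `(x, y, 0)`;
* `d.cj g`: the coordinates moved by `g ∈ M`;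
* `d.two_trans`: `M` is doubly transitive on the singular points.
-/

set_option autoImplicit false
set_option linter.unusedVariables false
set_option linter.unusedSectionVars false

open Subgroup
open scoped Pointwise

namespace Cfsg.Agent.Omega.NO1.Beta.Inst

section conj

variable {G : Type*} [Group G]

/-- conjugate subgroup `c H c⁻¹` -/
abbrev cj (c : G) (H : Subgroup G) : Subgroup G := MulAut.conj c • H

theorem mem_cj {c x : G} {H : Subgroup G} : x ∈ cj c H ↔ c⁻¹ * x * c ∈ H := by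
  rw [cj, Subgroup.mem_pointwise_smul_iff_inv_smul_mem, ← map_inv, MulAut.smul_def, MulAut.conj_apply,
    inv_inv]

theorem conj_mem_cj {c x : G} {H : Subgroup G} (h : x ∈ H) : c * x * c⁻¹ ∈ cj c H := by
  rw [mem_cj]
  have : c⁻¹ * (c * x * c⁻¹) * c = x := by group
  rwa [this]

theorem cj_mul (c d : G) (H : Subgroup G) : cj (c * d) H = cj c (cj d H) := by
  rw [cj, map_mul, mul_smul]

@[simp] theorem cj_one (H : Subgroup G) : cj 1 H = H := by simp [cj]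

theorem cj_inv_cj (c : G) (H : Subgroup G) : cj c⁻¹ (cj c H) = H := by
  rw [← cj_mul, inv_mul_cancel, cj_one]

theorem cj_cj_inv (c : G) (H : Subgroup G) : cj c (cj c⁻¹ H) = H := by
  rw [← cj_mul, mul_inv_cancel, cj_one]

theorem cj_mono {c : G} {H K : Subgroup G} (h : H ≤ K) : cj c H ≤ cj c K := by
  intro x hx
  rw [mem_cj] at hx ⊢
  exact h hx

theorem card_cj (c : G) (H : Subgroup G) : Nat.card (cj c H) = Nat.card H := by
  exact (Nat.card_congr (Subgroup.equivSMul (MulAut.conj c) H).toEquiv).symm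

theorem mem_normalizer_iff_cj {c : G} {H : Subgroup G} : c ∈ normalizer (H : Set G) ↔ cj c H = H := by
  constructor
  · intro h
    ext x
    rw [mem_cj]
    have := (mem_normalizer_iff.mp h (c⁻¹ * x * c))
    have h2 : c * (c⁻¹ * x * c) * c⁻¹ = x := by group
    rw [h2] at this
    exact this
  · intro h
    rw [mem_normalizer_iff]
    intro x
    constructor
    · intro hx
      have := conj_mem_cj (c := c) hx
      rwa [h] at this
    · intro hx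
      have : c * x * c⁻¹ ∈ cj c H := by rw [h]; exact hx
      rw [mem_cj] at this
      have h2 : c⁻¹ * (c * x * c⁻¹) * c = x := by group
      rwa [h2] at this

theorem cj_normalizer (c : G) (H : Subgroup G) :
    cj c (normalizer (H : Set G)) = normalizer ((cj c H : Subgroup G) : Set G) := by
  ext x
  rw [mem_cj, mem_normalizer_iff_cj, mem_normalizer_iff_cj]
  rw [cj_mul, cj_mul]
  constructor
  · intro h
    have := congrArg (cj c) h
    rwa [cj_cj_inv] at this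
  · intro h
    rw [h, cj_inv_cj]

end conj

/-- Coordinates on `V = O₄⁻(q)`. -/
structure Co {G : Type*} [Group G] (K : Type*) [Field K] (σ : K ≃+* K) (M V : Subgroup G) where
  e : G → Matrix (Fin 2) (Fin 2) K
  herm : ∀ v ∈ V, ((e v).map σ).transpose = e v
  mul : ∀ v ∈ V, ∀ w ∈ V, e (v * w) = e v + e w
  surj : ∀ X : Matrix (Fin 2) (Fin 2) K, (X.map σ).transpose = X → ∃ v ∈ V, e v = X
  ker : ∀ v ∈ V, e v = 0 → v = 1
  nor : M ≤ normalizer (V : Set G)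
  lift : ∀ A : Matrix.SpecialLinearGroup (Fin 2) K, ∃ g ∈ M, ∀ v ∈ V,
    e (g * v * g⁻¹) = A.1 * e v * (A.1.map σ).transpose
  norm : ∀ g ∈ M, ∀ h ∈ M, ∀ A : Matrix.SpecialLinearGroup (Fin 2) K,
    (∀ v ∈ V, e (h * v * h⁻¹) = A.1 * e v * (A.1.map σ).transpose) →
      ∃ B : Matrix.SpecialLinearGroup (Fin 2) K,
        ∀ v ∈ V, e (g * h * g⁻¹ * v * (g * h * g⁻¹)⁻¹) = B.1 * e v * (B.1.map σ).transpose
  inv : ∀ x, σ (σ x) = x
  nt : ∃ x, σ x ≠ x

namespace Co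

variable {G : Type*} [Group G] {K : Type*} [Field K] {σ : K ≃+* K} {M V : Subgroup G}

section basic

variable (d : Co K σ M V)

def X (v : G) : K := d.e v 0 0

def Y (v : G) : K := d.e v 0 1

def Z (v : G) : K := d.e v 1 1

theorem e10 {v : G} (hv : v ∈ V) : d.e v 1 0 = σ (d.Y v) := by
  have h := congrFun (congrFun (d.herm v hv) 1) 0
  simpa [Y] using h.symm

theorem sX {v : G} (hv : v ∈ V) : σ (d.X v) = d.X v := by
  have h := congrFun (congrFun (d.herm v hv) 0) 0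
  simpa [X] using h

theorem sZ {v : G} (hv : v ∈ V) : σ (d.Z v) = d.Z v := by
  have h := congrFun (congrFun (d.herm v hv) 1) 1
  simpa [Z] using h

theorem X_mul {v w : G} (hv : v ∈ V) (hw : w ∈ V) : d.X (v * w) = d.X v + d.X w := by
  simp [X, d.mul v hv w hw]

theorem Y_mul {v w : G} (hv : v ∈ V) (hw : w ∈ V) : d.Y (v * w) = d.Y v + d.Y w := by
  simp [Y, d.mul v hv w hw]

theorem Z_mul {v w : G} (hv : v ∈ V) (hw : w ∈ V) : d.Z (v * w) = d.Z v + d.Z w := by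
  simp [Z, d.mul v hv w hw]

theorem e_one : d.e 1 = 0 := by
  have h := d.mul 1 V.one_mem 1 V.one_mem
  rw [mul_one] at h
  exact left_eq_add.mp h

@[simp] theorem X_one : d.X 1 = 0 := by simp [X, d.e_one]

@[simp] theorem Y_one : d.Y 1 = 0 := by simp [Y, d.e_one]

@[simp] theorem Z_one : d.Z 1 = 0 := by simp [Z, d.e_one]

theorem e_inv {v : G} (hv : v ∈ V) : d.e v⁻¹ = - d.e v := by
  have h := d.mul v hv v⁻¹ (V.inv_mem hv)
  rw [mul_inv_cancel, d.e_one] at h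
  exact (neg_eq_of_add_eq_zero_right h.symm).symm

theorem e_inj {v w : G} (hv : v ∈ V) (hw : w ∈ V) (h : d.e v = d.e w) : v = w := by
  have h1 : d.e (v * w⁻¹) = 0 := by
    rw [d.mul v hv _ (V.inv_mem hw), d.e_inv hw, h, add_neg_cancel]
  exact mul_inv_eq_one.mp (d.ker _ (V.mul_mem hv (V.inv_mem hw)) h1)

theorem ext {v w : G} (hv : v ∈ V) (hw : w ∈ V) (hX : d.X v = d.X w) (hY : d.Y v = d.Y w)
    (hZ : d.Z v = d.Z w) : v = w := by
  apply d.e_inj hv hw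
  ext i j
  fin_cases i <;> fin_cases j
  · exact hX
  · exact hY
  · change d.e v 1 0 = d.e w 1 0
    rw [d.e10 hv, d.e10 hw, hY]
  · exact hZ

theorem exists_v (x y z : K) (hx : σ x = x) (hz : σ z = z) :
    ∃ v ∈ V, d.X v = x ∧ d.Y v = y ∧ d.Z v = z := by
  obtain ⟨v, hv, he⟩ := d.surj !![x, y; σ y, z] (by
    ext i j
    fin_cases i <;> fin_cases j <;> simp [hx, hz, d.inv])
  exact ⟨v, hv, by simp [X, he], by simp [Y, he], by simp [Z, he]⟩

include d in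
theorem comm {v w : G} (hv : v ∈ V) (hw : w ∈ V) : v * w = w * v := by
  apply d.e_inj (V.mul_mem hv hw) (V.mul_mem hw hv)
  rw [d.mul v hv w hw, d.mul w hw v hv, add_comm]

include d in
theorem sq [CharP K 2] {v : G} (hv : v ∈ V) : v * v = 1 := by
  apply d.ker _ (V.mul_mem hv hv)
  rw [d.mul v hv v hv]
  ext i j
  simp [CharTwo.add_self_eq_zero]

include d in
theorem inv_eq [CharP K 2] {v : G} (hv : v ∈ V) : v⁻¹ = v := inv_eq_of_mul_eq_one_left (d.sq hv)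

/-- `g` acts on `V` as `X ↦ A X A^*`. -/
def Act (g : G) (A : Matrix (Fin 2) (Fin 2) K) : Prop :=
  ∀ v ∈ V, d.e (g * v * g⁻¹) = A * d.e v * (A.map σ).transpose

variable {d}

theorem conj_mem {g v : G} (hg : g ∈ normalizer (V : Set G)) (hv : v ∈ V) : g * v * g⁻¹ ∈ V :=
  (mem_normalizer_iff.mp hg v).mp hv

theorem conj_mem' (d : Co K σ M V) {g v : G} (hg : g ∈ M) (hv : v ∈ V) : g * v * g⁻¹ ∈ V :=
  conj_mem (d.nor hg) hv

theorem Act.mul {g h : G} {A B : Matrix (Fin 2) (Fin 2) K} (hg : d.Act g A) (hh : d.Act h B)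
    (hM : h ∈ M) : d.Act (g * h) (A * B) := by
  intro v hv
  have h1 : g * h * v * (g * h)⁻¹ = g * (h * v * h⁻¹) * g⁻¹ := by group
  rw [h1, hg _ (d.conj_mem' hM hv), hh v hv, Matrix.map_mul, Matrix.transpose_mul]
  simp only [Matrix.mul_assoc]

theorem act_one : d.Act 1 1 := by
  intro v hv
  simp

theorem Act.inv {g : G} {A : Matrix.SpecialLinearGroup (Fin 2) K} (hg : d.Act g A.1) (hM : g ∈ M) :
    d.Act g⁻¹ (A⁻¹).1 := by
  intro v hv
  have h1 := hg (g⁻¹ * v * g⁻¹⁻¹) (d.conj_mem' (M.inv_mem hM) hv)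
  have h2 : g * (g⁻¹ * v * g⁻¹⁻¹) * g⁻¹ = v := by group
  rw [h2] at h1
  have h3 : (A⁻¹).1 * A.1 = 1 := by
    rw [← Matrix.SpecialLinearGroup.coe_mul, inv_mul_cancel, Matrix.SpecialLinearGroup.coe_one]
  have h4 : (A.1.map σ).transpose * ((A⁻¹).1.map σ).transpose = 1 := by
    rw [← Matrix.transpose_mul, ← Matrix.map_mul, h3]
    simp
  rw [h1]
  simp only [Matrix.mul_assoc]
  rw [h4, Matrix.mul_one, ← Matrix.mul_assoc, h3, Matrix.one_mul]

theorem Act.congr {g h : G} {A : Matrix (Fin 2) (Fin 2) K} (hg : d.Act g A)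
    (hc : ∀ v ∈ V, h * v * h⁻¹ = g * v * g⁻¹) : d.Act h A := by
  intro v hv
  rw [hc v hv]
  exact hg v hv

/-- two elements acting as the same matrix -/
theorem Act.eq {g h : G} {A : Matrix (Fin 2) (Fin 2) K} (hg : d.Act g A) (hh : d.Act h A)
    (hgM : g ∈ M) (hhM : h ∈ M) {v : G} (hv : v ∈ V) : g * v * g⁻¹ = h * v * h⁻¹ := by
  apply d.e_inj (d.conj_mem' hgM hv) (d.conj_mem' hhM hv)
  rw [hg v hv, hh v hv]

theorem Act.X {g : G} {A : Matrix (Fin 2) (Fin 2) K} (hg : d.Act g A) {v : G} (hv : v ∈ V) :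
    d.X (g * v * g⁻¹) = (A 0 0 * d.X v + A 0 1 * σ (d.Y v)) * σ (A 0 0) +
      (A 0 0 * d.Y v + A 0 1 * d.Z v) * σ (A 0 1) := by
  have h := congrFun (congrFun (hg v hv) 0) 0
  simp only [Matrix.mul_apply, Fin.sum_univ_two, Matrix.transpose_apply, Matrix.map_apply] at h
  rw [d.e10 hv] at h
  exact h

theorem Act.Y {g : G} {A : Matrix (Fin 2) (Fin 2) K} (hg : d.Act g A) {v : G} (hv : v ∈ V) :
    d.Y (g * v * g⁻¹) = (A 0 0 * d.X v + A 0 1 * σ (d.Y v)) * σ (A 1 0) +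
      (A 0 0 * d.Y v + A 0 1 * d.Z v) * σ (A 1 1) := by
  have h := congrFun (congrFun (hg v hv) 0) 1
  simp only [Matrix.mul_apply, Fin.sum_univ_two, Matrix.transpose_apply, Matrix.map_apply] at h
  rw [d.e10 hv] at h
  exact h

theorem Act.Z {g : G} {A : Matrix (Fin 2) (Fin 2) K} (hg : d.Act g A) {v : G} (hv : v ∈ V) :
    d.Z (g * v * g⁻¹) = (A 1 0 * d.X v + A 1 1 * σ (d.Y v)) * σ (A 1 0) +
      (A 1 0 * d.Y v + A 1 1 * d.Z v) * σ (A 1 1) := by
  have h := congrFun (congrFun (hg v hv) 1) 1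
  simp only [Matrix.mul_apply, Fin.sum_univ_two, Matrix.transpose_apply, Matrix.map_apply] at h
  rw [d.e10 hv] at h
  exact h

/-- `g` acts trivially -/
theorem act_one_iff {g : G} (hM : g ∈ M) : d.Act g 1 ↔ g ∈ centralizer (V : Set G) := by
  rw [mem_centralizer_iff]
  constructor
  · intro h v hv
    have h1 : g * v * g⁻¹ = v := by
      have := h.eq act_one hM M.one_mem hv
      simpa using this
    have h2 : g * v * g⁻¹ * g = v * g := by rw [h1]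
    rw [inv_mul_cancel_right] at h2
    exact h2.symm
  · intro h v hv
    have h1 : g * v * g⁻¹ = v := by
      rw [← h v hv, mul_inv_cancel_right]
    rw [h1]
    simp

end basic

/-! ### special elements -/

/-- upper unitriangular -/
def u (a : K) : Matrix.SpecialLinearGroup (Fin 2) K := ⟨!![1, a; 0, 1], by simp⟩

/-- lower unitriangular -/
def l (a : K) : Matrix.SpecialLinearGroup (Fin 2) K := ⟨!![1, 0; a, 1], by simp⟩

/-- diagonal -/
def h (t : K) (ht : t ≠ 0) : Matrix.SpecialLinearGroup (Fin 2) K :=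
  ⟨!![t, 0; 0, t⁻¹], by simp [ht]⟩

/-- Weyl element -/
def w [CharP K 2] : Matrix.SpecialLinearGroup (Fin 2) K :=
  ⟨!![0, 1; 1, 0], by simp [Matrix.det_fin_two, CharTwo.neg_eq]⟩

section two

variable [CharP K 2] (d : Co K σ M V)

theorem u_X {g : G} {a : K} (hg : d.Act g (u a).1) {v : G} (hv : v ∈ V) :
    d.X (g * v * g⁻¹) = d.X v + a * σ (d.Y v) + d.Y v * σ a + a * σ a * d.Z v := by
  rw [hg.X hv]
  simp [u]
  ring

theorem u_Y {g : G} {a : K} (hg : d.Act g (u a).1) {v : G} (hv : v ∈ V) :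
    d.Y (g * v * g⁻¹) = d.Y v + a * d.Z v := by
  rw [hg.Y hv]
  simp [u]

theorem u_Z {g : G} {a : K} (hg : d.Act g (u a).1) {v : G} (hv : v ∈ V) :
    d.Z (g * v * g⁻¹) = d.Z v := by
  rw [hg.Z hv]
  simp [u]

theorem u_of {g : G} {a : K} (hM : g ∈ M)
    (hX : ∀ v ∈ V, d.X (g * v * g⁻¹) = d.X v + a * σ (d.Y v) + d.Y v * σ a + a * σ a * d.Z v)
    (hY : ∀ v ∈ V, d.Y (g * v * g⁻¹) = d.Y v + a * d.Z v)
    (hZ : ∀ v ∈ V, d.Z (g * v * g⁻¹) = d.Z v) : d.Act g (u a).1 := by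
  obtain ⟨k, hk, hka⟩ := d.lift (u a)
  have hka' : d.Act k (u a).1 := hka
  apply hka'.congr
  intro v hv
  apply d.ext (d.conj_mem' hM hv) (d.conj_mem' hk hv)
  · rw [hX v hv, d.u_X hka' hv]
  · rw [hY v hv, d.u_Y hka' hv]
  · rw [hZ v hv, d.u_Z hka' hv]

theorem u_mul (a b : K) : (u a * u b : Matrix.SpecialLinearGroup (Fin 2) K) = u (a + b) := by
  apply Subtype.ext
  rw [Matrix.SpecialLinearGroup.coe_mul]
  ext i j
  fin_cases i <;> fin_cases j <;> simp [u, Matrix.mul_apply, Fin.sum_univ_two, add_comm]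

theorem u_zero : (u 0 : Matrix.SpecialLinearGroup (Fin 2) K) = 1 := by
  apply Subtype.ext
  ext i j
  fin_cases i <;> fin_cases j <;> simp [u]

theorem u_inv (a : K) : (u a : Matrix.SpecialLinearGroup (Fin 2) K)⁻¹ = u a := by
  rw [inv_eq_iff_mul_eq_one, u_mul, CharTwo.add_self_eq_zero, u_zero]

theorem u_inj {a b : K} (h : (u a : Matrix.SpecialLinearGroup (Fin 2) K).1 = (u b).1) : a = b := by
  have := congrFun (congrFun h 0) 1
  simpa [u] using this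

/-- the action is faithful -/
theorem act_faithful {g : G} {A B : Matrix.SpecialLinearGroup (Fin 2) K} (hA : d.Act g A.1)
    (hB : d.Act g B.1) (hM : g ∈ M) : A = B := by
  have h1 : d.Act 1 (B⁻¹ * A).1 := by
    have h2 := (hB.inv hM).mul hA hM
    rw [inv_mul_cancel] at h2
    exact h2
  set C := B⁻¹ * A with hC
  obtain ⟨v1, hv1, a1, a2, a3⟩ := d.exists_v 1 0 0 (map_one σ) (map_zero σ)
  obtain ⟨v2, hv2, b1, b2, b3⟩ := d.exists_v 0 0 1 (map_zero σ) (map_one σ)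
  have c1 := h1.Z hv1
  have c2 := h1.X hv2
  have c3 := h1.X hv1
  have hdet := C.2
  rw [Matrix.det_fin_two] at hdet
  simp only [one_mul, inv_one, mul_one, a1, a2, a3, b1, b2, b3, map_zero, mul_zero, add_zero,
    zero_add, zero_mul] at c1 c2 c3
  have e1 : C.1 1 0 = 0 := by
    rcases mul_eq_zero.mp c1.symm with h | h
    · exact h
    · exact (map_eq_zero σ).mp h
  have e2 : C.1 0 1 = 0 := by
    rcases mul_eq_zero.mp c2.symm with h | h
    · exact h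
    · exact (map_eq_zero σ).mp h
  rw [e1, e2, mul_zero, sub_zero] at hdet
  -- `(0, y, 0)` is fixed for all `y`, so `a σ d = 1`
  obtain ⟨v3, hv3, f1, f2, f3⟩ := d.exists_v 0 1 0 (map_zero σ) (map_zero σ)
  have c4 := h1.Y hv3
  simp only [one_mul, inv_one, mul_one, f1, f2, f3, e1, e2, map_zero, mul_zero, add_zero,
    zero_add, zero_mul] at c4
  have g1 : σ (C.1 0 0) = σ (C.1 1 1) := by
    have ha : C.1 0 0 ≠ 0 := by
      intro h0
      rw [h0, zero_mul] at hdet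
      exact zero_ne_one hdet
    exact mul_left_cancel₀ ha (c3.symm.trans c4)
  have g2 : C.1 0 0 = C.1 1 1 := σ.injective g1
  have g3 : C.1 0 0 = 1 := by
    rw [← g2] at hdet
    have : (C.1 0 0 - 1) * (C.1 0 0 - 1) = 0 := by
      have h2 : (2 : K) = 0 := CharTwo.two_eq_zero
      linear_combination hdet - C.1 0 0 * h2 + h2
    exact sub_eq_zero.mp (mul_self_eq_zero.mp this)
  have g4 : C = 1 := by
    apply Subtype.ext
    ext i j
    fin_cases i <;> fin_cases j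
    · simpa using g3
    · simpa using e2
    · simpa using e1
    · simpa [← g2] using g3
  rw [hC, inv_mul_eq_one] at g4
  exact g4.symm

theorem u_comm_l (a b : K) (A : Matrix.SpecialLinearGroup (Fin 2) K) (ha : a ≠ 0)
    (h : A * u a = u a * A) : ∃ b, A = u b := by
  have h1 := congrArg Subtype.val h
  rw [Matrix.SpecialLinearGroup.coe_mul, Matrix.SpecialLinearGroup.coe_mul] at h1
  have h2 := congrFun (congrFun h1 0) 0
  have h3 := congrFun (congrFun h1 0) 1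
  simp [u, Matrix.mul_apply, Fin.sum_univ_two] at h2 h3
  have e1 : A.1 1 0 = 0 := by
    rcases h2 with h | h
    · exact absurd h ha
    · exact h
  have e2 : A.1 0 0 = A.1 1 1 := by
    have : a * (A.1 0 0 - A.1 1 1) = 0 := by
      have h4 : A.1 0 0 * a + A.1 0 1 = A.1 0 1 + a * A.1 1 1 := h3
      linear_combination h4
    rcases mul_eq_zero.mp this with h | h
    · exact absurd h ha
    · exact sub_eq_zero.mp h
  have hdet := A.2
  rw [Matrix.det_fin_two, e1, mul_zero, sub_zero, ← e2] at hdet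
  have e3 : A.1 0 0 = 1 := by
    have : (A.1 0 0 - 1) * (A.1 0 0 - 1) = 0 := by
      have h2 : (2 : K) = 0 := CharTwo.two_eq_zero
      linear_combination hdet - A.1 0 0 * h2 + h2
    exact sub_eq_zero.mp (mul_self_eq_zero.mp this)
  refine ⟨A.1 0 1, ?_⟩
  apply Subtype.ext
  ext i j
  fin_cases i <;> fin_cases j
  · simpa [u] using e3
  · simp [u]
  · simpa [u] using e1
  · simpa [u, ← e2] using e3

/-- an involution of `SL₂(K)` is conjugate to some `u b`, by `1` or by `u κ w` -/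
theorem invol_cases (B : Matrix.SpecialLinearGroup (Fin 2) K) (h1 : B * B = 1) (h2 : B ≠ 1) :
    (∃ b, b ≠ 0 ∧ B = u b) ∨ ∃ κ b, b ≠ 0 ∧ B = (u κ * w) * u b * (u κ * w)⁻¹ := by
  have h3 := congrArg Subtype.val h1
  rw [Matrix.SpecialLinearGroup.coe_mul, Matrix.SpecialLinearGroup.coe_one] at h3
  have m00 := congrFun (congrFun h3 0) 0
  have m01 := congrFun (congrFun h3 0) 1
  have m10 := congrFun (congrFun h3 1) 0
  have m11 := congrFun (congrFun h3 1) 1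
  simp [Matrix.mul_apply, Fin.sum_univ_two] at m00 m01 m10 m11
  have hdet := B.2
  rw [Matrix.det_fin_two] at hdet
  set a := B.1 0 0 with ha
  set b := B.1 0 1 with hb
  set c := B.1 1 0 with hc
  set e := B.1 1 1 with he
  have t2 : (2 : K) = 0 := CharTwo.two_eq_zero
  have h00 : a * a + b * c = 1 := m00
  have h01 : a * b + b * e = 0 := m01
  have h10 : c * a + e * c = 0 := m10
  have h11 : c * b + e * e = 1 := m11
  have hd : a * e - b * c = 1 := hdet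
  have hae : a = e := by
    by_contra hne
    have hne' : a + e ≠ 0 := by
      intro h0
      apply hne
      have : a = -e := eq_neg_of_add_eq_zero_left h0
      rw [this, CharTwo.neg_eq]
    have p1 : a * (a + e) = 0 := by linear_combination h00 + hd + t2
    have p2 : b * (a + e) = 0 := by linear_combination h01
    have p3 : c * (a + e) = 0 := by linear_combination h10
    have q1 := (mul_eq_zero.mp p1).resolve_right hne'
    have q2 := (mul_eq_zero.mp p2).resolve_right hne'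
    rw [q1, q2] at h00
    simp at h00
  by_cases hc0 : c = 0
  · left
    have ha1 : a = 1 := by
      have : (a - 1) * (a - 1) = 0 := by
        rw [hc0, mul_zero, add_zero] at h00
        linear_combination h00 - a * t2 + t2
      exact sub_eq_zero.mp (mul_self_eq_zero.mp this)
    refine ⟨b, ?_, ?_⟩
    · intro hb0
      apply h2
      apply Subtype.ext
      ext i j
      fin_cases i <;> fin_cases j
      · simpa using ha.symm.trans ha1
      · simpa using hb.symm.trans hb0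
      · simpa using hc.symm.trans hc0
      · simpa using he.symm.trans (hae.symm.trans ha1)
    · apply Subtype.ext
      ext i j
      fin_cases i <;> fin_cases j
      · simpa [u] using ha.symm.trans ha1
      · simpa [u] using hb.symm
      · simpa [u] using hc.symm.trans hc0
      · simpa [u] using he.symm.trans (hae.symm.trans ha1)
  · right
    refine ⟨(1 + a) / c, c, hc0, ?_⟩
    have e1 : (u ((1 + a) / c) * w : Matrix.SpecialLinearGroup (Fin 2) K)⁻¹ = w * u ((1 + a) / c) := by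
      rw [inv_eq_iff_mul_eq_one]
      apply Subtype.ext
      simp only [Matrix.SpecialLinearGroup.coe_mul, Matrix.SpecialLinearGroup.coe_one]
      ext i j
      fin_cases i <;> fin_cases j <;>
        simp [u, w, Matrix.mul_apply, Fin.sum_univ_two, CharTwo.add_self_eq_zero]
    rw [e1]
    have f1 : (1 + a) / c * c = 1 + a := div_mul_cancel₀ _ hc0
    apply Subtype.ext
    simp only [Matrix.SpecialLinearGroup.coe_mul]
    ext i j
    fin_cases i <;> fin_cases j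
    · simp [u, w, Matrix.mul_apply, Fin.sum_univ_two]
      change a = (1 + a) / c * c + 1
      rw [f1]
      linear_combination (-1 : K) * t2
    · simp [u, w, Matrix.mul_apply, Fin.sum_univ_two]
      change b = (1 + a) / c + ((1 + a) / c * c + 1) * ((1 + a) / c)
      rw [f1]
      field_simp
      linear_combination h00 - t2 * (1 + 2 * a + a ^ 2)
    · simp [u, w, Matrix.mul_apply, Fin.sum_univ_two]
      exact hc.symm
    · simp [u, w, Matrix.mul_apply, Fin.sum_univ_two]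
      change e = 1 + c * ((1 + a) / c)
      rw [mul_comm c, f1, ← hae]
      linear_combination (-1 : K) * t2

/-! ### points -/

/-- the singular point `(x, 0, 0)` -/
def R0 (d : Co K σ M V) : Subgroup G where
  carrier := {v | v ∈ V ∧ d.Y v = 0 ∧ d.Z v = 0}
  one_mem' := ⟨V.one_mem, d.Y_one, d.Z_one⟩
  mul_mem' := by
    rintro a b ⟨ha, ha1, ha2⟩ ⟨hb, hb1, hb2⟩
    exact ⟨V.mul_mem ha hb, by rw [d.Y_mul ha hb, ha1, hb1, add_zero],
      by rw [d.Z_mul ha hb, ha2, hb2, add_zero]⟩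
  inv_mem' := by
    rintro a ⟨ha, ha1, ha2⟩
    rw [d.inv_eq ha]
    exact ⟨ha, ha1, ha2⟩

/-- the singular point `(0, 0, z)` -/
def Roo (d : Co K σ M V) : Subgroup G where
  carrier := {v | v ∈ V ∧ d.X v = 0 ∧ d.Y v = 0}
  one_mem' := ⟨V.one_mem, d.X_one, d.Y_one⟩
  mul_mem' := by
    rintro a b ⟨ha, ha1, ha2⟩ ⟨hb, hb1, hb2⟩
    exact ⟨V.mul_mem ha hb, by rw [d.X_mul ha hb, ha1, hb1, add_zero],
      by rw [d.Y_mul ha hb, ha2, hb2, add_zero]⟩
  inv_mem' := by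
    rintro a ⟨ha, ha1, ha2⟩
    rw [d.inv_eq ha]
    exact ⟨ha, ha1, ha2⟩

/-- `R0^⊥` : `(x, y, 0)` -/
def E0 (d : Co K σ M V) : Subgroup G where
  carrier := {v | v ∈ V ∧ d.Z v = 0}
  one_mem' := ⟨V.one_mem, d.Z_one⟩
  mul_mem' := by
    rintro a b ⟨ha, ha1⟩ ⟨hb, hb1⟩
    exact ⟨V.mul_mem ha hb, by rw [d.Z_mul ha hb, ha1, hb1, add_zero]⟩
  inv_mem' := by
    rintro a ⟨ha, ha1⟩
    rw [d.inv_eq ha]
    exact ⟨ha, ha1⟩

theorem mem_R0 {v : G} : v ∈ d.R0 ↔ v ∈ V ∧ d.Y v = 0 ∧ d.Z v = 0 := Iff.rfl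

theorem mem_Roo {v : G} : v ∈ d.Roo ↔ v ∈ V ∧ d.X v = 0 ∧ d.Y v = 0 := Iff.rfl

theorem mem_E0 {v : G} : v ∈ d.E0 ↔ v ∈ V ∧ d.Z v = 0 := Iff.rfl

theorem R0_le_E0 : d.R0 ≤ d.E0 := fun v hv => ⟨hv.1, hv.2.2⟩

theorem R0_le : d.R0 ≤ V := fun v hv => hv.1

theorem Roo_le : d.Roo ≤ V := fun v hv => hv.1

theorem E0_le : d.E0 ≤ V := fun v hv => hv.1

include d in
/-- the trace is onto -/
theorem exists_tr (x : K) (hx : σ x = x) (b : K) (hb : b ≠ 0) : ∃ y, b * σ y + y * σ b = x := by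
  obtain ⟨k, hk⟩ := d.nt
  have hsb : σ b ≠ 0 := by
    intro h0
    exact hb ((map_eq_zero σ).mp h0)
  have ht : k + σ k ≠ 0 := by
    intro h0
    apply hk
    have : σ k = -k := eq_neg_of_add_eq_zero_right h0
    rw [this, CharTwo.neg_eq]
  refine ⟨x * (k + σ k)⁻¹ * k * (σ b)⁻¹, ?_⟩
  have e1 : σ (k + σ k) = k + σ k := by rw [map_add, d.inv, add_comm]
  rw [map_mul, map_mul, map_mul, map_inv₀, e1, hx, map_inv₀, d.inv]
  field_simp
  ring

/-- `C_V(U₀) = R0` -/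
theorem mem_R0_of_fix {v : G} (hv : v ∈ V)
    (hf : ∀ a : K, a ≠ 0 → ∀ g ∈ M, d.Act g (u a).1 → g * v * g⁻¹ = v) : v ∈ d.R0 := by
  obtain ⟨g1, hg1, h1⟩ := d.lift (u 1)
  have f1 := hf 1 one_ne_zero g1 hg1 h1
  have f2 := d.u_Y h1 hv
  rw [f1, one_mul] at f2
  have hZ : d.Z v = 0 := left_eq_add.mp f2
  refine ⟨hv, ?_, hZ⟩
  by_contra hY
  obtain ⟨a, ha⟩ := d.exists_tr 1 (map_one σ) _ hY
  have ha0 : a ≠ 0 := by
    rintro rfl
    simp at ha
  obtain ⟨g2, hg2, h2⟩ := d.lift (u a)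
  have f3 := hf a ha0 g2 hg2 h2
  have f4 := d.u_X h2 hv
  rw [f3, hZ, mul_zero, add_zero, add_assoc] at f4
  have f5 : a * σ (d.Y v) + d.Y v * σ a = 0 := left_eq_add.mp f4
  rw [add_comm, f5] at ha
  exact zero_ne_one ha

theorem fix_of_mem_R0 {v : G} (hv : v ∈ d.R0) {a : K} {g : G} (hM : g ∈ M) (hg : d.Act g (u a).1) :
    g * v * g⁻¹ = v := by
  apply d.ext (d.conj_mem' hM hv.1) hv.1
  · rw [d.u_X hg hv.1, hv.2.1, hv.2.2]; simp
  · rw [d.u_Y hg hv.1, hv.2.1, hv.2.2]; simp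
  · rw [d.u_Z hg hv.1]

end two

/-! ### moving the coordinates -/

section mv

variable [CharP K 2] (d : Co K σ M V)

/-- the coordinates moved by `g ∈ M` -/
def mv (g : G) (hg : g ∈ M) : Co K σ M V where
  e := fun v => d.e (g⁻¹ * v * g⁻¹⁻¹)
  herm := fun v hv => d.herm _ (d.conj_mem' (M.inv_mem hg) hv)
  mul := fun v hv w hw => by
    have h1 : g⁻¹ * (v * w) * g⁻¹⁻¹ = (g⁻¹ * v * g⁻¹⁻¹) * (g⁻¹ * w * g⁻¹⁻¹) := by group
    rw [h1]
    exact d.mul _ (d.conj_mem' (M.inv_mem hg) hv) _ (d.conj_mem' (M.inv_mem hg) hw)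
  surj := fun X hX => by
    obtain ⟨v, hv, he⟩ := d.surj X hX
    refine ⟨g * v * g⁻¹, d.conj_mem' hg hv, ?_⟩
    have h1 : g⁻¹ * (g * v * g⁻¹) * g⁻¹⁻¹ = v := by group
    rw [h1, he]
  ker := fun v hv h0 => by
    have h1 := d.ker _ (d.conj_mem' (M.inv_mem hg) hv) h0
    have h2 : v = g * (g⁻¹ * v * g⁻¹⁻¹) * g⁻¹ := by group
    rw [h2, h1]; group
  nor := d.nor
  lift := fun A => by
    obtain ⟨h, hh, ha⟩ := d.lift A
    refine ⟨g * h * g⁻¹, M.mul_mem (M.mul_mem hg hh) (M.inv_mem hg), ?_⟩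
    intro v hv
    have h1 := ha _ (d.conj_mem' (M.inv_mem hg) hv)
    have h2 : g⁻¹ * (g * h * g⁻¹ * v * (g * h * g⁻¹)⁻¹) * g⁻¹⁻¹ = h * (g⁻¹ * v * g⁻¹⁻¹) * h⁻¹ := by group
    rw [h2]
    exact h1
  norm := fun m hm h hh A hA => by
    have hgi := M.inv_mem hg
    have h1 : ∀ v ∈ V, d.e ((g⁻¹ * h * g) * v * (g⁻¹ * h * g)⁻¹) =
        A.1 * d.e v * (A.1.map σ).transpose := by
      intro v hv
      have h2 := hA _ (d.conj_mem' hg hv)
      have h3 : g⁻¹ * (h * (g * v * g⁻¹) * h⁻¹) * g⁻¹⁻¹ = (g⁻¹ * h * g) * v * (g⁻¹ * h * g)⁻¹ := by group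
      have h4 : g⁻¹ * (g * v * g⁻¹) * g⁻¹⁻¹ = v := by group
      rw [h3, h4] at h2
      exact h2
    obtain ⟨B, hB⟩ := d.norm (g⁻¹ * m * g) (M.mul_mem (M.mul_mem hgi hm) hg) (g⁻¹ * h * g)
      (M.mul_mem (M.mul_mem hgi hh) hg) A h1
    refine ⟨B, fun v hv => ?_⟩
    have h5 := hB _ (d.conj_mem' hgi hv)
    have h6 : g⁻¹ * (m * h * m⁻¹ * v * (m * h * m⁻¹)⁻¹) * g⁻¹⁻¹ =
      g⁻¹ * m * g * (g⁻¹ * h * g) * (g⁻¹ * m * g)⁻¹ * (g⁻¹ * v * g⁻¹⁻¹) *
        (g⁻¹ * m * g * (g⁻¹ * h * g) * (g⁻¹ * m * g)⁻¹)⁻¹ := by group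
    rw [h6]
    exact h5
  inv := d.inv
  nt := d.nt

theorem mv_act {g : G} (hg : g ∈ M) {h : G} {A : Matrix (Fin 2) (Fin 2) K} :
    (d.mv g hg).Act h A ↔ d.Act (g⁻¹ * h * g) A := by
  constructor
  · intro H v hv
    have h2 := H _ (d.conj_mem' hg hv)
    have h3 : g⁻¹ * (h * (g * v * g⁻¹) * h⁻¹) * g⁻¹⁻¹ = (g⁻¹ * h * g) * v * (g⁻¹ * h * g)⁻¹ := by group
    have h4 : g⁻¹ * (g * v * g⁻¹) * g⁻¹⁻¹ = v := by group
    change d.e (g⁻¹ * (h * (g * v * g⁻¹) * h⁻¹) * g⁻¹⁻¹) =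
      A * d.e (g⁻¹ * (g * v * g⁻¹) * g⁻¹⁻¹) * (A.map σ).transpose at h2
    rw [h3, h4] at h2
    exact h2
  · intro H v hv
    have h2 := H _ (d.conj_mem' (M.inv_mem hg) hv)
    have h3 : g⁻¹ * h * g * (g⁻¹ * v * g⁻¹⁻¹) * (g⁻¹ * h * g)⁻¹ = g⁻¹ * (h * v * h⁻¹) * g⁻¹⁻¹ := by group
    rw [h3] at h2
    exact h2

theorem mv_R0 {g : G} (hg : g ∈ M) : (d.mv g hg).R0 = cj g d.R0 := by
  ext v
  rw [mem_cj]
  constructor
  · rintro ⟨h1, h2, h3⟩
    have := d.conj_mem' (M.inv_mem hg) h1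
    rw [inv_inv] at this
    refine ⟨this, ?_, ?_⟩
    · simpa [Y, mv] using h2
    · simpa [Z, mv] using h3
  · rintro ⟨h1, h2, h3⟩
    have := d.conj_mem' hg h1
    have e1 : g * (g⁻¹ * v * g) * g⁻¹ = v := by group
    rw [e1] at this
    refine ⟨this, ?_, ?_⟩
    · simpa [Y, mv] using h2
    · simpa [Z, mv] using h3

theorem mv_Roo {g : G} (hg : g ∈ M) : (d.mv g hg).Roo = cj g d.Roo := by
  ext v
  rw [mem_cj]
  constructor
  · rintro ⟨h1, h2, h3⟩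
    have := d.conj_mem' (M.inv_mem hg) h1
    rw [inv_inv] at this
    refine ⟨this, ?_, ?_⟩
    · simpa [X, mv] using h2
    · simpa [Y, mv] using h3
  · rintro ⟨h1, h2, h3⟩
    have := d.conj_mem' hg h1
    have e1 : g * (g⁻¹ * v * g) * g⁻¹ = v := by group
    rw [e1] at this
    refine ⟨this, ?_, ?_⟩
    · simpa [X, mv] using h2
    · simpa [Y, mv] using h3

theorem mv_E0 {g : G} (hg : g ∈ M) : (d.mv g hg).E0 = cj g d.E0 := by
  ext v
  rw [mem_cj]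
  constructor
  · rintro ⟨h1, h2⟩
    have := d.conj_mem' (M.inv_mem hg) h1
    rw [inv_inv] at this
    refine ⟨this, ?_⟩
    simpa [Z, mv] using h2
  · rintro ⟨h1, h2⟩
    have := d.conj_mem' hg h1
    have e1 : g * (g⁻¹ * v * g) * g⁻¹ = v := by group
    rw [e1] at this
    refine ⟨this, ?_⟩
    simpa [Z, mv] using h2

end mv

/-! ### `M` is doubly transitive on the points -/

section trans

variable [CharP K 2] (d : Co K σ M V)

include d in
theorem cen_conj {g c : G} (hg : g ∈ M) (hc : c ∈ centralizer (V : Set G)) :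
    g * c * g⁻¹ ∈ centralizer (V : Set G) := by
  rw [mem_centralizer_iff] at hc ⊢
  intro v hv
  have h1 := d.conj_mem' (M.inv_mem hg) hv
  have h2 := hc _ h1
  calc v * (g * c * g⁻¹) = g * ((g⁻¹ * v * g⁻¹⁻¹) * c) * g⁻¹ := by group
    _ = g * (c * (g⁻¹ * v * g⁻¹⁻¹)) * g⁻¹ := by rw [h2]
    _ = g * c * g⁻¹ * v := by group

include d in
theorem conj_congr {g x y : G} (hg : g ∈ M) (h : ∀ v ∈ V, x * v * x⁻¹ = y * v * y⁻¹) {v : G} (hv : v ∈ V) :
    (g * x * g⁻¹) * v * (g * x * g⁻¹)⁻¹ = (g * y * g⁻¹) * v * (g * y * g⁻¹)⁻¹ := by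
  have h1 := h _ (d.conj_mem' (M.inv_mem hg) hv)
  calc (g * x * g⁻¹) * v * (g * x * g⁻¹)⁻¹ = g * (x * (g⁻¹ * v * g⁻¹⁻¹) * x⁻¹) * g⁻¹ := by group
    _ = g * (y * (g⁻¹ * v * g⁻¹⁻¹) * y⁻¹) * g⁻¹ := by rw [h1]
    _ = _ := by group

theorem exists_act (A : Matrix.SpecialLinearGroup (Fin 2) K) : ∃ g ∈ M, d.Act g A.1 := d.lift A

theorem conj_act {g k : G} (hg : g ∈ M) (hk : k ∈ M) {A : Matrix.SpecialLinearGroup (Fin 2) K}
    (hA : d.Act k A.1) : ∃ B : Matrix.SpecialLinearGroup (Fin 2) K, d.Act (g * k * g⁻¹) B.1 :=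
  d.norm g hg k hk A hA

theorem Act.mulS {d : Co K σ M V} {g k : G} {A B : Matrix.SpecialLinearGroup (Fin 2) K} (hg : d.Act g A.1)
    (hk : d.Act k B.1) (hM : k ∈ M) : d.Act (g * k) (A * B).1 := hg.mul hk hM

theorem one_ne_u {a : K} (ha : a ≠ 0) : (u a : Matrix.SpecialLinearGroup (Fin 2) K) ≠ 1 := by
  intro h
  rw [← u_zero] at h
  exact ha (u_inj (congrArg Subtype.val h))

theorem case_one [Finite G] {g g1 : G} (hg : g ∈ M) (hg1 : g1 ∈ M) (h1 : d.Act g1 (u 1).1) {b : K}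
    (hb : b ≠ 0) (h2 : d.Act (g * g1 * g⁻¹) (u b).1) : cj g d.R0 = d.R0 := by
  have hM : ∀ {x : G}, x ∈ M → g * x * g⁻¹ ∈ M := fun hx => M.mul_mem (M.mul_mem hg hx) (M.inv_mem hg)
  have hle : d.R0 ≤ cj g d.R0 := by
    intro v hv
    rw [mem_cj]
    have hv' : g⁻¹ * v * g ∈ V := by
      have := d.conj_mem' (M.inv_mem hg) hv.1
      rwa [inv_inv] at this
    apply d.mem_R0_of_fix hv'
    intro a ha h hh hact
    obtain ⟨B, hB⟩ := d.conj_act hg hh hact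
    have k1 : d.Act (g * (h * g1) * g⁻¹) (B * u b).1 := by
      have := hB.mulS h2 (hM hg1)
      have e : g * h * g⁻¹ * (g * g1 * g⁻¹) = g * (h * g1) * g⁻¹ := by group
      rwa [e] at this
    have k2 : d.Act (g * (g1 * h) * g⁻¹) (u b * B).1 := by
      have := h2.mulS hB (hM hh)
      have e : g * g1 * g⁻¹ * (g * h * g⁻¹) = g * (g1 * h) * g⁻¹ := by group
      rwa [e] at this
    have k3 : d.Act (h * g1) (u (a + 1)).1 := by
      rw [← u_mul]; exact hact.mulS h1 hg1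
    have k4 : d.Act (g1 * h) (u (a + 1)).1 := by
      rw [add_comm, ← u_mul]; exact h1.mulS hact hh
    have k5 : ∀ v ∈ V, (g1 * h) * v * (g1 * h)⁻¹ = (h * g1) * v * (h * g1)⁻¹ := fun v hv =>
      k4.eq k3 (M.mul_mem hg1 hh) (M.mul_mem hh hg1) hv
    have k6 : d.Act (g * (h * g1) * g⁻¹) (u b * B).1 :=
      k2.congr fun v hv => (d.conj_congr hg k5 hv).symm
    have k7 : B * u b = u b * B := d.act_faithful k1 k6 (hM (M.mul_mem hh hg1))
    obtain ⟨b', rfl⟩ := u_comm_l b 0 B hb k7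
    have k8 := d.fix_of_mem_R0 hv (hM hh) hB
    calc h * (g⁻¹ * v * g) * h⁻¹ = g⁻¹ * (g * h * g⁻¹ * v * (g * h * g⁻¹)⁻¹) * g := by group
      _ = g⁻¹ * v * g := by rw [k8]
  exact (Subgroup.eq_of_le_of_card_ge hle (by rw [card_cj])).symm

/-- `w` interchanges `R0` and `Roo` -/
theorem w_R0 {k : G} (hk : k ∈ M) (h : d.Act k (w : Matrix.SpecialLinearGroup (Fin 2) K).1) :
    cj k d.R0 = d.Roo := by
  have w1 : (w * w : Matrix.SpecialLinearGroup (Fin 2) K) = 1 := by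
    apply Subtype.ext
    simp only [Matrix.SpecialLinearGroup.coe_mul, Matrix.SpecialLinearGroup.coe_one]
    ext i j
    fin_cases i <;> fin_cases j <;> simp [w, Matrix.mul_apply, Fin.sum_univ_two]
  have w2 : (w : Matrix.SpecialLinearGroup (Fin 2) K)⁻¹ = w := inv_eq_of_mul_eq_one_left w1
  ext v
  rw [mem_cj]
  constructor
  · rintro ⟨h1, h2, h3⟩
    have hv := d.conj_mem' hk h1
    have e1 : k * (k⁻¹ * v * k) * k⁻¹ = v := by group
    have f1 := h.X h1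
    have f2 := h.Y h1
    rw [e1, h2, h3] at f1 f2
    rw [e1] at hv
    simp [w] at f1 f2
    exact ⟨hv, f1, f2⟩
  · rintro ⟨h1, h2, h3⟩
    have h' := h.inv hk
    rw [w2] at h'
    have hv := d.conj_mem' (M.inv_mem hk) h1
    have f1 := h'.Y h1
    have f2 := h'.Z h1
    rw [h2, h3] at f1 f2
    rw [inv_inv] at hv f1 f2
    simp [w] at f1 f2
    exact ⟨hv, f1, f2⟩

theorem R0_ne_Roo : d.R0 ≠ d.Roo := by
  intro h
  obtain ⟨v, hv, h1, h2, h3⟩ := d.exists_v 1 0 0 (map_one σ) (map_zero σ)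
  have h4 : v ∈ d.R0 := ⟨hv, h2, h3⟩
  rw [h] at h4
  have h5 := h4.2.1
  rw [h1] at h5
  exact one_ne_zero h5

/-- **double transitivity** -/
theorem two_trans [Finite G] {g : G} (hg : g ∈ M) (hne : cj g d.R0 ≠ d.R0) :
    ∃ κ : K, ∀ k ∈ M, d.Act k (u κ).1 → cj g d.R0 = cj k d.Roo := by
  obtain ⟨g1, hg1, h1⟩ := d.exists_act (u 1)
  obtain ⟨B, hB⟩ := d.conj_act hg hg1 h1
  have hM : g * g1 * g⁻¹ ∈ M := M.mul_mem (M.mul_mem hg hg1) (M.inv_mem hg)
  have hcM : ∀ {x : G}, x ∈ M → (x ∈ centralizer (V : Set G) ↔ d.Act x 1) := fun hx => (act_one_iff hx).symm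
  have hB1 : B ≠ 1 := by
    intro h0
    have h2 : g * g1 * g⁻¹ ∈ centralizer (V : Set G) := by
      rw [hcM hM]
      rw [h0] at hB
      exact hB
    have h3 := d.cen_conj (M.inv_mem hg) h2
    have h4 : g⁻¹ * (g * g1 * g⁻¹) * g⁻¹⁻¹ = g1 := by group
    rw [h4, hcM hg1] at h3
    have h5 : d.Act g1 (1 : Matrix.SpecialLinearGroup (Fin 2) K).1 := h3
    exact one_ne_u one_ne_zero (d.act_faithful h1 h5 hg1)
  have hB2 : B * B = 1 := by
    have h2 : d.Act (g1 * g1) (1 : Matrix.SpecialLinearGroup (Fin 2) K).1 := by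
      have := h1.mulS h1 hg1
      rwa [u_mul, CharTwo.add_self_eq_zero, u_zero] at this
    have h3 : g1 * g1 ∈ centralizer (V : Set G) := (hcM (M.mul_mem hg1 hg1)).mpr h2
    have h4 := d.cen_conj hg h3
    have hM2 : g * (g1 * g1) * g⁻¹ ∈ M := M.mul_mem (M.mul_mem hg (M.mul_mem hg1 hg1)) (M.inv_mem hg)
    have h5 : d.Act (g * (g1 * g1) * g⁻¹) (1 : Matrix.SpecialLinearGroup (Fin 2) K).1 := (hcM hM2).mp h4
    have h6 := hB.mulS hB hM
    have e : g * g1 * g⁻¹ * (g * g1 * g⁻¹) = g * (g1 * g1) * g⁻¹ := by group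
    rw [e] at h6
    exact d.act_faithful h6 h5 hM2
  rcases invol_cases B hB2 hB1 with ⟨b, hb, rfl⟩ | ⟨κ, b, hb, hBeq⟩
  · exact absurd (d.case_one hg hg1 h1 hb hB) hne
  · refine ⟨κ, fun k hk hka => ?_⟩
    obtain ⟨m, hm, hma⟩ := d.exists_act w
    have hkm : k * m ∈ M := M.mul_mem hk hm
    have hact : d.Act (k * m) (u κ * w).1 := hka.mulS hma hm
    have h2 : d.Act (((k * m)⁻¹ * g) * g1 * ((k * m)⁻¹ * g)⁻¹) (u b).1 := by
      have h3 := ((hact.inv hkm).mulS hB hM).mulS hact hkm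
      have e : (k * m)⁻¹ * (g * g1 * g⁻¹) * (k * m) = ((k * m)⁻¹ * g) * g1 * ((k * m)⁻¹ * g)⁻¹ := by group
      rw [e, hBeq] at h3
      have e2 : (u κ * w)⁻¹ * ((u κ * w) * u b * (u κ * w)⁻¹) * (u κ * w) = u b := by group
      rwa [e2] at h3
    have h4 := d.case_one (M.mul_mem (M.inv_mem hkm) hg) hg1 h1 hb h2
    rw [cj_mul] at h4
    have h5 := congrArg (cj (k * m)) h4
    rw [cj_cj_inv, cj_mul, d.w_R0 hm hma] at h5
    exact h5

end trans

end Co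

end Cfsg.Agent.Omega.NO1.Beta.Inst

end

section


/-!
# THEOREM BETA, part E: step (1)

`Co.cover`: a 2-subgroup `X ≤ M ∩ N(R₀)`, `X ≰ C(V)`, normalised by the elements acting as `U₀` and as a set of
diagonal elements irreducible on `U₀`, induces exactly `U₀`.
-/

set_option autoImplicit false
set_option linter.unusedVariables false
set_option linter.unusedSectionVars false

open Subgroup
open scoped Pointwise

namespace Cfsg.Agent.Omega.NO1.Beta.Inst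

namespace Co

variable {G : Type*} [Group G] {K : Type*} [Field K] {σ : K ≃+* K} {M V : Subgroup G}
variable [CharP K 2] (d : Co K σ M V)

theorem pow_two_pow_eq_one {c : K} {n : ℕ} (h : c ^ 2 ^ n = 1) : c = 1 := by
  have h1 : (c - 1) ^ 2 ^ n = 0 := by
    rw [sub_pow_char_pow, h, one_pow, sub_self]
  exact sub_eq_zero.mp (pow_eq_zero_iff (pow_ne_zero n two_ne_zero) |>.mp h1)

theorem Act.pow {d : Co K σ M V} {g : G} {A : Matrix.SpecialLinearGroup (Fin 2) K} (h : d.Act g A.1) (hM : g ∈ M)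
    (n : ℕ) : d.Act (g ^ n) (A ^ n).1 := by
  induction n with
  | zero => rw [pow_zero, pow_zero]; exact act_one
  | succ n ih => rw [pow_succ, pow_succ]; exact ih.mulS h hM

theorem upper_pow (A : Matrix.SpecialLinearGroup (Fin 2) K) (h : A.1 1 0 = 0) (n : ℕ) :
    (A ^ n).1 1 0 = 0 ∧ (A ^ n).1 0 0 = (A.1 0 0) ^ n := by
  induction n with
  | zero => simp
  | succ n ih =>
    rw [pow_succ, Matrix.SpecialLinearGroup.coe_mul]
    simp only [Matrix.mul_apply, Fin.sum_univ_two]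
    rw [h, ih.1, ih.2]
    simp [pow_succ]

/-- a 2-element acting as an element of `SL₂(K)` and fixing `R0` acts as an element of `U₀` -/
theorem upper {g : G} (hg : g ∈ M) {A : Matrix.SpecialLinearGroup (Fin 2) K} (hA : d.Act g A.1)
    (hR : cj g d.R0 = d.R0) {n : ℕ} (hn : g ^ 2 ^ n = 1) : ∃ a, A = u a := by
  obtain ⟨v, hv, h1, h2, h3⟩ := d.exists_v 1 0 0 (map_one σ) (map_zero σ)
  have h4 : v ∈ d.R0 := ⟨hv, h2, h3⟩
  have h5 : g * v * g⁻¹ ∈ d.R0 := by rw [← hR]; exact conj_mem_cj h4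
  have h6 := hA.Z hv
  rw [h5.2.2, h1, h2, h3] at h6
  simp only [map_zero, mul_zero, mul_one, add_zero, zero_mul] at h6
  have e1 : A.1 1 0 = 0 := by
    rcases mul_eq_zero.mp h6.symm with h | h
    · exact h
    · exact (map_eq_zero σ).mp h
  have h7 := hA.pow hg (2 ^ n)
  rw [hn] at h7
  have h8 : A ^ 2 ^ n = 1 := d.act_faithful h7 act_one M.one_mem
  have h9 := (upper_pow A e1 (2 ^ n)).2
  rw [h8] at h9
  have e2 : A.1 0 0 = 1 := pow_two_pow_eq_one (n := n) (by rw [← h9]; simp)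
  have hdet := A.2
  rw [Matrix.det_fin_two, e1, mul_zero, sub_zero, e2, one_mul] at hdet
  refine ⟨A.1 0 1, ?_⟩
  apply Subtype.ext
  ext i j
  fin_cases i <;> fin_cases j
  · simpa [u] using e2
  · simp [u]
  · simpa [u] using e1
  · simpa [u] using hdet

/-- `g` commutes with `U₀` modulo `C(V)` -/
def Cen (g : G) : Prop := ∀ a : K, ∀ k ∈ M, d.Act k (u a).1 → d.Act (g * k * g⁻¹) (u a).1

variable {d}

theorem Cen.R0_mem {g : G} (h : d.Cen g) (hg : g ∈ M) {v : G} (hv : v ∈ d.R0) : g * v * g⁻¹ ∈ d.R0 := by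
  apply d.mem_R0_of_fix (d.conj_mem' hg hv.1)
  intro a ha k hk hka
  have h1 := h a k hk hka
  have hM : g * k * g⁻¹ ∈ M := M.mul_mem (M.mul_mem hg hk) (M.inv_mem hg)
  rw [hka.eq h1 hk hM (d.conj_mem' hg hv.1)]
  have h2 := d.fix_of_mem_R0 hv hk hka
  calc g * k * g⁻¹ * (g * v * g⁻¹) * (g * k * g⁻¹)⁻¹ = g * (k * v * k⁻¹) * g⁻¹ := by group
    _ = g * v * g⁻¹ := by rw [h2]

theorem Cen.R0_eq [Finite G] {g : G} (h : d.Cen g) (hg : g ∈ M) : cj g d.R0 = d.R0 := by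
  refine Subgroup.eq_of_le_of_card_ge ?_ (by rw [card_cj])
  intro v hv
  rw [mem_cj] at hv
  have := h.R0_mem hg hv
  have e : g * (g⁻¹ * v * g) * g⁻¹ = v := by group
  rwa [e] at this

theorem u_R0 [Finite G] {k : G} {κ : K} (hk : k ∈ M) (hka : d.Act k (u κ).1) : cj k d.R0 = d.R0 := by
  refine Subgroup.eq_of_le_of_card_ge ?_ (by rw [card_cj])
  intro v hv
  rw [mem_cj] at hv
  have := d.fix_of_mem_R0 hv hk hka
  have e : k * (k⁻¹ * v * k) * k⁻¹ = v := by group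
  rw [e] at this
  rw [this]; exact hv

theorem Cen.mul {g g' : G} (h : d.Cen g) (h' : d.Cen g') (hg' : g' ∈ M) : d.Cen (g * g') := by
  intro a k hk hka
  have h1 := h' a k hk hka
  have h2 := h a _ (M.mul_mem (M.mul_mem hg' hk) (M.inv_mem hg')) h1
  have e : g * g' * k * (g * g')⁻¹ = g * (g' * k * g'⁻¹) * g⁻¹ := by group
  rw [e]; exact h2

theorem cen_u {k : G} {κ : K} (hk : k ∈ M) (hka : d.Act k (u κ).1) : d.Cen k⁻¹ := by
  intro a j hj hja
  have h1 := ((hka.inv hk).mulS hja hj).mulS hka hk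
  have e : k⁻¹ * j * k⁻¹⁻¹ = k⁻¹ * j * k := by group
  rw [e]
  have e2 : (u κ)⁻¹ * u a * u κ = (u a : Matrix.SpecialLinearGroup (Fin 2) K) := by
    rw [u_inv, u_mul, u_mul]
    congr 1
    have := CharTwo.add_self_eq_zero κ
    linear_combination this
  rwa [e2] at h1

/-- the vector `(b σ b, b, 0) · z`, as a commutator -/
theorem exists_wb (v : G) (hv : v ∈ d.Roo) {b : K} {k : G} (hk : k ∈ M) (hka : d.Act k (u b).1) :
    v * (k * v * k⁻¹) ∈ V ∧ d.X (v * (k * v * k⁻¹)) = b * σ b * d.Z v ∧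
      d.Y (v * (k * v * k⁻¹)) = b * d.Z v ∧ d.Z (v * (k * v * k⁻¹)) = 0 := by
  have h1 := d.conj_mem' hk hv.1
  refine ⟨V.mul_mem hv.1 h1, ?_, ?_, ?_⟩
  · rw [d.X_mul hv.1 h1, d.u_X hka hv.1, hv.2.1, hv.2.2]
    simp
  · rw [d.Y_mul hv.1 h1, d.u_Y hka hv.1, hv.2.2]
    simp
  · rw [d.Z_mul hv.1 h1, d.u_Z hka hv.1, CharTwo.add_self_eq_zero]

/-- the image under an element commuting with `U₀` -/
theorem Cen.conj_wb {g : G} (h : d.Cen g) (hg : g ∈ M) {v : G} (hv : v ∈ V) {b : K} {k : G} (hk : k ∈ M)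
    (hka : d.Act k (u b).1) :
    g * (v * (k * v * k⁻¹)) * g⁻¹ = (g * v * g⁻¹) * (k * (g * v * g⁻¹) * k⁻¹) := by
  have h1 := h b k hk hka
  have hM : g * k * g⁻¹ ∈ M := M.mul_mem (M.mul_mem hg hk) (M.inv_mem hg)
  have h2 := hka.eq h1 hk hM (d.conj_mem' hg hv)
  rw [h2]
  group

/-- **an element which commutes with `U₀` and fixes `Roo` acts as a scalar** -/
theorem Cen.scalar [Finite G] {g : G} (h : d.Cen g) (hg : g ∈ M) (hoo : cj g d.Roo = d.Roo) :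
    ∃ c : K, (∀ v ∈ V, d.Z (g * v * g⁻¹) = c * d.Z v) ∧ (c = 1 → ∀ v ∈ V, g * v * g⁻¹ = v) := by
  obtain ⟨v1, hv1, x1, y1, z1⟩ := d.exists_v 0 0 1 (map_zero σ) (map_one σ)
  have hv1' : v1 ∈ d.Roo := ⟨hv1, x1, y1⟩
  have hoo' : ∀ v ∈ d.Roo, g * v * g⁻¹ ∈ d.Roo := fun v hv => by
    rw [← hoo]; exact conj_mem_cj hv
  set c := d.Z (g * v1 * g⁻¹) with hc
  have conjmul : ∀ a b : G, g * (a * b) * g⁻¹ = (g * a * g⁻¹) * (g * b * g⁻¹) := fun a b => by group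
  -- the vectors `w b`
  have hw : ∀ b : K, ∃ w ∈ V, d.X w = b * σ b ∧ d.Y w = b ∧ d.Z w = 0 ∧
      d.X (g * w * g⁻¹) = b * σ b * c ∧ d.Y (g * w * g⁻¹) = b * c ∧ d.Z (g * w * g⁻¹) = 0 := by
    intro b
    obtain ⟨k, hk, hka⟩ := d.exists_act (u b)
    obtain ⟨w1, w2, w3, w4⟩ := exists_wb v1 hv1' hk hka
    obtain ⟨w1', w2', w3', w4'⟩ := exists_wb _ (hoo' v1 hv1') hk hka
    refine ⟨_, w1, ?_, ?_, w4, ?_, ?_, ?_⟩
    · rw [w2, z1, mul_one]
    · rw [w3, z1, mul_one]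
    · rw [h.conj_wb hg hv1 hk hka, w2']
    · rw [h.conj_wb hg hv1 hk hka, w3']
    · rw [h.conj_wb hg hv1 hk hka, w4']
  -- (A)
  have hA : ∀ v ∈ V, d.Z v = 0 → d.Y (g * v * g⁻¹) = c * d.Y v ∧ d.Z (g * v * g⁻¹) = 0 := by
    intro v hv hz
    obtain ⟨w, hwV, wx, wy, wz, wx', wy', wz'⟩ := hw (d.Y v)
    have hr : w⁻¹ * v ∈ d.R0 := by
      refine ⟨V.mul_mem (V.inv_mem hwV) hv, ?_, ?_⟩
      · rw [d.inv_eq hwV, d.Y_mul hwV hv, wy, CharTwo.add_self_eq_zero]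
      · rw [d.inv_eq hwV, d.Z_mul hwV hv, wz, hz, add_zero]
    have hr' := h.R0_mem hg hr
    have e1 : v = w * (w⁻¹ * v) := by group
    have hgw := d.conj_mem' hg hwV
    constructor
    · rw [e1, conjmul, d.Y_mul hgw hr'.1, wy', hr'.2.1, add_zero, ← e1, mul_comm]
    · rw [e1, conjmul, d.Z_mul hgw hr'.1, wz', hr'.2.2, add_zero]
  -- (B)
  have hB : ∀ v ∈ d.Roo, d.Z (g * v * g⁻¹) = c * d.Z v := by
    intro v hv
    obtain ⟨k, hk, hka⟩ := d.exists_act (u 1)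
    obtain ⟨w1, w2, w3, w4⟩ := exists_wb v hv hk hka
    obtain ⟨w1', w2', w3', w4'⟩ := exists_wb _ (hoo' v hv) hk hka
    have h1 := (hA _ w1 w4).1
    rw [h.conj_wb hg hv.1 hk hka, w3', w3, one_mul, one_mul] at h1
    exact h1
  -- (C)
  have hC : ∀ v ∈ V, d.Z (g * v * g⁻¹) = c * d.Z v := by
    intro v hv
    obtain ⟨v', hv', x', y', z'⟩ := d.exists_v 0 0 (d.Z v) (map_zero σ) (d.sZ hv)
    have hv'' : v' ∈ d.Roo := ⟨hv', x', y'⟩
    have he : v'⁻¹ * v ∈ V := V.mul_mem (V.inv_mem hv') hv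
    have he2 : d.Z (v'⁻¹ * v) = 0 := by
      rw [d.inv_eq hv', d.Z_mul hv' hv, z', CharTwo.add_self_eq_zero]
    have e1 : v = v' * (v'⁻¹ * v) := by group
    have h1 := (hA _ he he2).2
    have h2 := hB v' hv''
    rw [e1, conjmul, d.Z_mul (d.conj_mem' hg hv') (d.conj_mem' hg he), h1, h2, add_zero, ← e1, z']
  refine ⟨c, hC, ?_⟩
  intro hc1
  rw [hc1] at hA hB hC hw
  -- (D)
  have hD : ∀ v ∈ d.R0, g * v * g⁻¹ = v := by
    intro v hv
    obtain ⟨y, hy⟩ := d.exists_tr (d.X v) (d.sX hv.1) 1 one_ne_zero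
    rw [one_mul, map_one, mul_one] at hy
    obtain ⟨e, he, ex, ey, ez⟩ := d.exists_v 0 y 0 (map_zero σ) (map_zero σ)
    obtain ⟨k, hk, hka⟩ := d.exists_act (u 1)
    have hke := d.conj_mem' hk he
    have e1 : e * (k * e * k⁻¹) = v := by
      apply d.ext (V.mul_mem he hke) hv.1
      · rw [d.X_mul he hke, d.u_X hka he, ex, ey, ez, ← hy]
        simp
      · rw [d.Y_mul he hke, d.u_Y hka he, ey, ez, hv.2.1, mul_zero, add_zero, CharTwo.add_self_eq_zero]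
      · rw [d.Z_mul he hke, d.u_Z hka he, ez, hv.2.2, add_zero]
    rw [← e1, h.conj_wb hg he hk hka]
    have hge := d.conj_mem' hg he
    have hkge := d.conj_mem' hk hge
    have f := hA e he ez
    rw [one_mul] at f
    apply d.ext (V.mul_mem hge hkge) (V.mul_mem he hke)
    · rw [d.X_mul hge hkge, d.X_mul he hke, d.u_X hka he, d.u_X hka hge, f.1, f.2, ez, ex]
      simp only [one_mul, map_one, mul_one, mul_zero, add_zero, zero_add]
      have := CharTwo.add_self_eq_zero (d.X (g * e * g⁻¹))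
      linear_combination this
    · rw [d.Y_mul hge hkge, d.Y_mul he hke, d.u_Y hka he, d.u_Y hka hge, f.1, f.2, ez]
    · rw [d.Z_mul hge hkge, d.Z_mul he hke, d.u_Z hka he, d.u_Z hka hge, f.2, ez]
  intro v hv
  obtain ⟨v', hv', x', y', z'⟩ := d.exists_v 0 0 (d.Z v) (map_zero σ) (d.sZ hv)
  have hv'' : v' ∈ d.Roo := ⟨hv', x', y'⟩
  have g1 : g * v' * g⁻¹ = v' := by
    have h1 := hoo' v' hv''
    apply d.ext h1.1 hv'
    · rw [h1.2.1, x']
    · rw [h1.2.2, y']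
    · rw [hB v' hv'', one_mul]
  have he : v'⁻¹ * v ∈ V := V.mul_mem (V.inv_mem hv') hv
  have he2 : d.Z (v'⁻¹ * v) = 0 := by
    rw [d.inv_eq hv', d.Z_mul hv' hv, z', CharTwo.add_self_eq_zero]
  obtain ⟨w, hwV, wx, wy, wz, wx', wy', wz'⟩ := hw (d.Y (v'⁻¹ * v))
  have g2 : g * w * g⁻¹ = w := by
    apply d.ext (d.conj_mem' hg hwV) hwV
    · rw [wx', wx, mul_one]
    · rw [wy', wy, mul_one]
    · rw [wz', wz]
  have hr : w⁻¹ * (v'⁻¹ * v) ∈ d.R0 := by
    refine ⟨V.mul_mem (V.inv_mem hwV) he, ?_, ?_⟩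
    · rw [d.inv_eq hwV, d.Y_mul hwV he, wy, CharTwo.add_self_eq_zero]
    · rw [d.inv_eq hwV, d.Z_mul hwV he, wz, he2, add_zero]
  have g3 := hD _ hr
  calc g * v * g⁻¹ = (g * v' * g⁻¹) * (g * w * g⁻¹) * (g * (w⁻¹ * (v'⁻¹ * v)) * g⁻¹) := by group
    _ = v' * w * (w⁻¹ * (v'⁻¹ * v)) := by rw [g1, g2, g3]
    _ = v := by group

theorem Roo_eq [Finite G] (d : Co K σ M V) : ∃ m ∈ M, cj m d.R0 = d.Roo := by
  obtain ⟨m, hm, hma⟩ := d.exists_act w
  exact ⟨m, hm, d.w_R0 hm hma⟩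

/-- **a 2-element commuting with `U₀` acts as an element of `U₀`** -/
theorem Cen.act [Finite G] {g : G} (h : d.Cen g) (hg : g ∈ M) {n : ℕ} (hn : g ^ 2 ^ n = 1) :
    ∃ κ, d.Act g (u κ).1 := by
  obtain ⟨m, hm, hmR⟩ := Roo_eq d
  have hne : cj (g * m) d.R0 ≠ d.R0 := by
    rw [cj_mul, hmR]
    intro h0
    have h1 : cj g d.Roo = cj g d.R0 := by rw [h0, h.R0_eq hg]
    have h2 := congrArg (cj g⁻¹) h1
    rw [cj_inv_cj, cj_inv_cj] at h2
    exact d.R0_ne_Roo h2.symm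
  obtain ⟨κ, hκ⟩ := d.two_trans (M.mul_mem hg hm) hne
  obtain ⟨k, hk, hka⟩ := d.exists_act (u κ)
  have h1 := hκ k hk hka
  rw [cj_mul, hmR] at h1
  have hg1 : k⁻¹ * g ∈ M := M.mul_mem (M.inv_mem hk) hg
  have h2 : cj (k⁻¹ * g) d.Roo = d.Roo := by
    rw [cj_mul, h1, cj_inv_cj]
  have h3 : d.Cen (k⁻¹ * g) := (cen_u hk hka).mul h hg
  obtain ⟨c, hc, hc1⟩ := h3.scalar hg1 h2
  -- `Z (g v g⁻¹) = c Z v`
  have h4 : ∀ v ∈ V, d.Z (g * v * g⁻¹) = c * d.Z v := by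
    intro v hv
    have e : g * v * g⁻¹ = k * (k⁻¹ * g * v * (k⁻¹ * g)⁻¹) * k⁻¹ := by group
    rw [e, d.u_Z hka (d.conj_mem' hg1 hv), hc v hv]
  have h5 : ∀ n : ℕ, ∀ v ∈ V, d.Z (g ^ n * v * (g ^ n)⁻¹) = c ^ n * d.Z v := by
    intro n
    induction n with
    | zero => intro v hv; simp
    | succ n ih =>
      intro v hv
      have e : g ^ (n + 1) * v * (g ^ (n + 1))⁻¹ = g ^ n * (g * v * g⁻¹) * (g ^ n)⁻¹ := by
        rw [pow_succ]; group
      rw [e, ih _ (d.conj_mem' hg hv), h4 v hv, pow_succ, mul_assoc]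
  obtain ⟨v1, hv1, x1, y1, z1⟩ := d.exists_v 0 0 1 (map_zero σ) (map_one σ)
  have h6 := h5 (2 ^ n) v1 hv1
  rw [hn, z1, mul_one] at h6
  simp only [one_mul, inv_one, mul_one] at h6
  rw [z1] at h6
  have h7 := hc1 (pow_two_pow_eq_one (n := n) h6.symm)
  refine ⟨κ, hka.congr fun v hv => ?_⟩
  have h8 := h7 v hv
  calc g * v * g⁻¹ = k * (k⁻¹ * g * v * (k⁻¹ * g)⁻¹) * k⁻¹ := by group
    _ = k * v * k⁻¹ := by rw [h8]

/-- the diagonal elements `h t`, `t ∈ T`, are irreducible on `U₀` -/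
def Irr (T : Set K) : Prop :=
  ∀ B : AddSubgroup K, (∀ t ∈ T, ∀ b ∈ B, t * t * b ∈ B) → B ≠ ⊥ → B = ⊤

theorem h_u {t : K} (ht : t ≠ 0) (a : K) :
    h t ht * u a * (h t ht)⁻¹ = (u (t * t * a) : Matrix.SpecialLinearGroup (Fin 2) K) := by
  rw [mul_inv_eq_iff_eq_mul]
  apply Subtype.ext
  simp only [Matrix.SpecialLinearGroup.coe_mul]
  ext i j
  fin_cases i <;> fin_cases j
  · simp [u, h, Matrix.mul_apply, Fin.sum_univ_two]
  · simp [u, h, Matrix.mul_apply, Fin.sum_univ_two]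
    field_simp
  · simp [u, h, Matrix.mul_apply, Fin.sum_univ_two]
  · simp [u, h, Matrix.mul_apply, Fin.sum_univ_two]

/-- **step (1)** -/
theorem cover [Finite G] {X : Subgroup G} (hX2 : IsPGroup 2 X) (hXM : X ≤ M)
    (hXR : ∀ y ∈ X, cj y d.R0 = d.R0) (hne : ¬ X ≤ centralizer (V : Set G))
    {T : Set K} (hT : Irr T) (hT0 : ∀ t ∈ T, t ≠ 0)
    (hU : ∀ g ∈ M, ∀ a, d.Act g (u a).1 → g ∈ normalizer (X : Set G))
    (hTn : ∀ t (ht : t ≠ 0), t ∈ T → ∀ g ∈ M, d.Act g (h t ht).1 → g ∈ normalizer (X : Set G)) :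
    (∀ y ∈ X, ∃ a, d.Act y (u a).1) ∧ ∀ a, ∃ y ∈ X, d.Act y (u a).1 := by
  have hpow : ∀ y ∈ X, ∃ n : ℕ, y ^ 2 ^ n = 1 := by
    intro y hy
    obtain ⟨n, hn⟩ := hX2 ⟨y, hy⟩
    exact ⟨n, by simpa using congrArg Subtype.val hn⟩
  have hgX : ∀ {g : G}, g ∈ normalizer (X : Set G) → ∀ y ∈ X, g * y * g⁻¹ ∈ X := fun hg y hy =>
    (mem_normalizer_iff.mp hg y).mp hy
  have hgX' : ∀ {g : G}, g ∈ normalizer (X : Set G) → ∀ y ∈ X, g⁻¹ * y * g ∈ X := fun hg y hy => by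
    have := hgX (inv_mem hg) y hy
    rwa [inv_inv] at this
  let B : AddSubgroup K :=
    { carrier := {a | ∃ y ∈ X, d.Act y (u a).1}
      zero_mem' := ⟨1, X.one_mem, by rw [u_zero]; exact act_one⟩
      add_mem' := by
        rintro a b ⟨y, hy, hya⟩ ⟨y', hy', hyb⟩
        exact ⟨y * y', X.mul_mem hy hy', by rw [← u_mul]; exact hya.mulS hyb (hXM hy')⟩
      neg_mem' := by
        rintro a ⟨y, hy, hya⟩
        exact ⟨y, hy, by rw [CharTwo.neg_eq]; exact hya⟩ }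
  have memB : ∀ {a : K}, a ∈ B ↔ ∃ y ∈ X, d.Act y (u a).1 := Iff.rfl
  have hBT : ∀ t ∈ T, ∀ b ∈ B, t * t * b ∈ B := by
    intro t ht b hb
    obtain ⟨y, hy, hya⟩ := memB.mp hb
    obtain ⟨g, hg, hga⟩ := d.exists_act (h t (hT0 t ht))
    refine memB.mpr ⟨g * y * g⁻¹, hgX (hTn t (hT0 t ht) ht g hg hga) y hy, ?_⟩
    have h1 := (hga.mulS hya (hXM hy)).mulS (hga.inv hg) (M.inv_mem hg)
    rwa [h_u] at h1
  -- conjugates of `U₀`-elements
  have hup : ∀ y ∈ X, ∀ a, ∀ k ∈ M, d.Act k (u a).1 → ∃ a', a' - a ∈ B ∧ d.Act (y * k * y⁻¹) (u a').1 := by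
    intro y hy a k hk hka
    obtain ⟨A, hA⟩ := d.conj_act (hXM hy) hk hka
    have h1 : y * k * y⁻¹ * k⁻¹ ∈ X := by
      have h2 := X.mul_mem hy (hgX (hU k hk a hka) _ (X.inv_mem hy))
      have e : y * (k * y⁻¹ * k⁻¹) = y * k * y⁻¹ * k⁻¹ := by group
      rwa [e] at h2
    have h3 : d.Act (y * k * y⁻¹ * k⁻¹) (A * u a).1 := by
      have := hA.mulS (hka.inv hk) (M.inv_mem hk)
      rwa [u_inv] at this
    obtain ⟨n, hn⟩ := hpow _ h1
    obtain ⟨b, hb⟩ := d.upper (hXM h1) h3 (hXR _ h1) hn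
    have h4 : A = u (b + a) := by
      have h5 : A * u a * u a = u b * u a := by rw [hb]
      rw [mul_assoc, u_mul, u_mul, CharTwo.add_self_eq_zero, u_zero, mul_one] at h5
      exact h5
    refine ⟨b + a, ?_, by rw [← h4]; exact hA⟩
    rw [add_sub_cancel_right]
    exact memB.mpr ⟨_, h1, by rw [← hb]; exact h3⟩
  have hcase : ∀ y ∈ X, d.Cen y → ∃ a, d.Act y (u a).1 := by
    intro y hy hc
    obtain ⟨n, hn⟩ := hpow y hy
    exact hc.act (hXM hy) hn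
  by_cases hB : B = ⊥
  · exfalso
    apply hne
    intro y hy
    have hc : d.Cen y := by
      intro a k hk hka
      obtain ⟨a', ha', hact⟩ := hup y hy a k hk hka
      rw [hB, AddSubgroup.mem_bot, sub_eq_zero] at ha'
      rw [ha'] at hact
      exact hact
    obtain ⟨κ, hκ⟩ := hcase y hy hc
    have h1 : κ ∈ B := memB.mpr ⟨y, hy, hκ⟩
    rw [hB, AddSubgroup.mem_bot] at h1
    rw [h1, u_zero] at hκ
    exact (act_one_iff (hXM hy)).mp hκ
  · have hBtop := hT B hBT hB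
    have hsecond : ∀ a, ∃ y ∈ X, d.Act y (u a).1 := by
      intro a
      apply memB.mp
      rw [hBtop]
      exact AddSubgroup.mem_top a
    refine ⟨?_, hsecond⟩
    let B2 : AddSubgroup K :=
      { carrier := {a | ∀ y ∈ X, ∀ k ∈ M, d.Act k (u a).1 → d.Act (y * k * y⁻¹) (u a).1}
        zero_mem' := by
          intro y hy k hk hka
          rw [u_zero] at hka ⊢
          have h1 := d.cen_conj (hXM hy) ((act_one_iff hk).mp hka)
          exact (act_one_iff (M.mul_mem (M.mul_mem (hXM hy) hk) (M.inv_mem (hXM hy)))).mpr h1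
        add_mem' := by
          intro a b ha hb y hy k hk hka
          obtain ⟨k1, hk1, hk1a⟩ := d.exists_act (u a)
          obtain ⟨k2, hk2, hk2a⟩ := d.exists_act (u b)
          have h1 : d.Act (k1 * k2) (u (a + b)).1 := by rw [← u_mul]; exact hk1a.mulS hk2a hk2
          have h2 := (ha y hy k1 hk1 hk1a).mulS (hb y hy k2 hk2 hk2a)
            (M.mul_mem (M.mul_mem (hXM hy) hk2) (M.inv_mem (hXM hy)))
          rw [u_mul] at h2
          have e : y * k1 * y⁻¹ * (y * k2 * y⁻¹) = y * (k1 * k2) * y⁻¹ := by group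
          rw [e] at h2
          exact h2.congr fun v hv => d.conj_congr (hXM hy)
            (fun v hv => hka.eq h1 hk (M.mul_mem hk1 hk2) hv) hv
        neg_mem' := by
          intro a ha
          rw [Set.mem_ofPred_eq, CharTwo.neg_eq]
          exact ha }
    have memB2 : ∀ {a : K}, a ∈ B2 ↔ ∀ y ∈ X, ∀ k ∈ M, d.Act k (u a).1 → d.Act (y * k * y⁻¹) (u a).1 :=
      Iff.rfl
    have hB2T : ∀ t ∈ T, ∀ b ∈ B2, t * t * b ∈ B2 := by
      intro t ht b hb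
      rw [memB2] at hb ⊢
      intro y hy k hk hka
      obtain ⟨g, hg, hga⟩ := d.exists_act (h t (hT0 t ht))
      have hgi := M.inv_mem hg
      have h1 : d.Act (g⁻¹ * k * g) (u b).1 := by
        have h2 := ((hga.inv hg).mulS hka hk).mulS hga hg
        rw [← h_u (hT0 t ht)] at h2
        have e : (h t (hT0 t ht))⁻¹ * (h t (hT0 t ht) * u b * (h t (hT0 t ht))⁻¹) * h t (hT0 t ht) =
          (u b : Matrix.SpecialLinearGroup (Fin 2) K) := by group
        rwa [e] at h2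
      have hk' : g⁻¹ * k * g ∈ M := M.mul_mem (M.mul_mem hgi hk) hg
      have hy' := hgX' (hTn t (hT0 t ht) ht g hg hga) y hy
      have h3 := hb _ hy' _ hk' h1
      have hM3 : g⁻¹ * y * g * (g⁻¹ * k * g) * (g⁻¹ * y * g)⁻¹ ∈ M :=
        M.mul_mem (M.mul_mem (hXM hy') hk') (M.inv_mem (hXM hy'))
      have h4 := (hga.mulS h3 hM3).mulS (hga.inv hg) hgi
      rw [h_u] at h4
      have e : g * (g⁻¹ * y * g * (g⁻¹ * k * g) * (g⁻¹ * y * g)⁻¹) * g⁻¹ = y * k * y⁻¹ := by group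
      rwa [e] at h4
    have hB2 : B2 ≠ ⊥ := by
      let X1 : Subgroup G :=
        { carrier := {y | y ∈ X ∧ ∃ a, d.Act y (u a).1}
          one_mem' := ⟨X.one_mem, 0, by rw [u_zero]; exact act_one⟩
          mul_mem' := by
            rintro y y' ⟨hy, a, hya⟩ ⟨hy', b, hyb⟩
            exact ⟨X.mul_mem hy hy', a + b, by rw [← u_mul]; exact hya.mulS hyb (hXM hy')⟩
          inv_mem' := by
            rintro y ⟨hy, a, hya⟩
            exact ⟨X.inv_mem hy, a, by rw [← u_inv]; exact hya.inv (hXM hy)⟩ }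
      have : Fact (Nat.Prime 2) := ⟨Nat.prime_two⟩
      obtain ⟨n, hn, hnC, hnc⟩ := GTwoFour.Tools.exists_fixed_mod (Y := X) (N := X1)
        (M := X ⊓ centralizer (V : Set G)) hX2 (fun y hy => hy.1)
        (by
          rintro y hy n ⟨hn, a, hna⟩
          refine ⟨X.mul_mem (X.mul_mem hy hn) (X.inv_mem hy), ?_⟩
          obtain ⟨a', -, ha'⟩ := hup y hy a n (hXM hn) hna
          exact ⟨a', ha'⟩)
        (by
          intro y hy m hm
          exact mem_inf.mpr ⟨X.mul_mem (X.mul_mem hy hm.1) (X.inv_mem hy), d.cen_conj (hXM hy) hm.2⟩)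
        (by
          obtain ⟨y, hy, hya⟩ := hsecond 1
          refine ⟨y, ⟨hy, 1, hya⟩, fun hc => ?_⟩
          have h1 : d.Act y (1 : Matrix.SpecialLinearGroup (Fin 2) K).1 := (act_one_iff (hXM hy)).mpr hc.2
          exact one_ne_u one_ne_zero (d.act_faithful hya h1 (hXM hy)))
      obtain ⟨hnX, a, hna⟩ := hn
      intro hbot
      have ha : a ∈ B2 := by
        rw [memB2]
        intro y hy k hk hka
        have hyn : y * n * y⁻¹ ∈ M := hXM (X.mul_mem (X.mul_mem hy hnX) (X.inv_mem hy))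
        have h1 : d.Act (y * n * y⁻¹) (u a).1 := by
          have h2 := (hnc y hy).2
          rw [commutatorElement_def] at h2
          have h3 : d.Act (y * n * y⁻¹ * n⁻¹) (1 : Matrix.SpecialLinearGroup (Fin 2) K).1 :=
            (act_one_iff (M.mul_mem hyn (M.inv_mem (hXM hnX)))).mpr h2
          have h4 := h3.mulS hna (hXM hnX)
          rw [one_mul, inv_mul_cancel_right] at h4
          exact h4
        exact h1.congr fun v hv => d.conj_congr (hXM hy)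
          (fun v hv => hka.eq hna hk (hXM hnX) hv) hv
      rw [hbot, AddSubgroup.mem_bot] at ha
      rw [ha, u_zero] at hna
      exact hnC (mem_inf.mpr ⟨hnX, (act_one_iff (hXM hnX)).mp hna⟩)
    have hB2top := hT B2 hB2T hB2
    intro y hy
    apply hcase y hy
    intro a k hk hka
    have : a ∈ B2 := by rw [hB2top]; exact AddSubgroup.mem_top a
    exact memB2.mp this y hy k hk hka

end Co

end Cfsg.Agent.Omega.NO1.Beta.Inst

end

section


/-!
# THEOREM BETA, steps (5)-(8)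

`Pre V R Q S` : what steps (2)-(4) of THEOREM BETA give (`S i = Q* i`, `D i = Q i ⊓ C(S i)`).
-/

namespace Cfsg.Agent.Omega.NO1.Beta

open Subgroup

variable {G : Type*} [Group G] {I : Type*}

/-- The input of steps (5)-(8). -/
structure Pre (V : Subgroup G) (R Q S : I → Subgroup G) : Prop where
  V_comm : ∀ a ∈ V, ∀ b ∈ V, a * b = b * a
  V_sq : ∀ a ∈ V, a * a = 1
  R_le : ∀ i, R i ≤ V
  R_Q : ∀ i, R i ≤ Q i
  RQ : ∀ i, ∀ r ∈ R i, ∀ y ∈ Q i, r * y = y * r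
  ne : ∀ i, R i ≠ ⊥
  two : ∀ i, IsPGroup 2 (Q i)
  Q_V : ∀ i, Q i ≤ normalizer (V : Set G)
  nor : ∀ i, ∀ c ∈ normalizer (R i : Set G), ∀ y ∈ Q i, c * y * c⁻¹ ∈ Q i
  max : ∀ i, ∀ N : Subgroup G, IsPGroup 2 N → N ≤ normalizer (R i : Set G) →
    (∀ c ∈ normalizer (R i : Set G), ∀ y ∈ N, c * y * c⁻¹ ∈ N) → N ≤ Q i
  char2 : ∀ i, centralizer (Q i : Set G) ≤ Q i
  EQs : ∀ i, ∀ y ∈ Q i, y ∉ centralizer (V : Set G) → ∀ r ∈ R i,
    ∃ e ∈ V ⊓ Q i, e⁻¹ * y⁻¹ * e * y = r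
  cenR : ∀ i, ∀ v ∈ V, (∀ y ∈ Q i, v * y = y * v) → v ∈ R i
  cardE : ∀ i, (centralizer (V : Set G)).relIndex (Q i) = (R i).relIndex (V ⊓ Q i)
  alt : ∀ i j, i ≠ j → ∀ b : G → G, (∀ y ∈ Q i, b y ∈ V ⊓ Q i) →
    (∀ y ∈ Q i, ∀ y' ∈ Q i, b (y * y') * (b y * b y')⁻¹ ∈ R i) →
    (∀ y ∈ Q i, b y * y = y * b y) →
    (∀ y ∈ Q i, y ∈ centralizer (V : Set G) → b y ∈ R i) →
    ∃ r ∈ R j, ∀ y ∈ Q i, b y * (y⁻¹ * r⁻¹ * y * r)⁻¹ ∈ R i
  S_cen : ∀ i, ∀ y : G, (∀ c ∈ normalizer (R i : Set G), ∀ e ∈ V ⊓ Q i,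
    (c * e * c⁻¹) * y = y * (c * e * c⁻¹)) → y ∈ centralizer (S i : Set G)
  S_nor : ∀ i, ∀ c ∈ normalizer (R i : Set G), ∀ n ∈ S i, c * n * c⁻¹ ∈ S i
  S_le : ∀ i, S i ≤ Q i
  E_le : ∀ i, V ⊓ Q i ≤ S i
  SQ : ∀ i, ∀ n ∈ S i, ∀ y ∈ Q i, n⁻¹ * y⁻¹ * n * y ∈ R i
  S_sq : ∀ i, ∀ n ∈ S i, n * n ∈ R i
  cover : ∀ i, ∀ y ∈ Q i, ∃ n ∈ S i, y⁻¹ * n ∈ centralizer (V : Set G)
  D_V : ∀ i, Q i ⊓ centralizer (S i : Set G) ≤ centralizer (V : Set G)
  D_comm : ∀ i j, i ≠ j → ∀ a ∈ Q i ⊓ centralizer (S i : Set G),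
    ∀ b ∈ Q j ⊓ centralizer (S j : Set G), a * b = b * a
  D_Q : ∀ i j, i ≠ j → ∀ d ∈ Q j ⊓ centralizer (S j : Set G), d ∈ Q i → d = 1
  D_c : ∀ i j, i ≠ j → ∀ d ∈ Q j ⊓ centralizer (S j : Set G), ∀ n ∈ S i,
    n ∈ centralizer (V : Set G) → d * n = n * d
  D_sq : ∀ i, ∀ d ∈ Q i ⊓ centralizer (S i : Set G), d * d = 1
  D_k : ∀ i j, i ≠ j → ∀ d ∈ Q j ⊓ centralizer (S j : Set G), ∀ y ∈ S i,
    (y⁻¹ * d⁻¹ * y * d) * (y⁻¹ * d⁻¹ * y * d) = 1

namespace Pre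

variable {V : Subgroup G} {R Q S : I → Subgroup G} (h : Pre V R Q S)
include h

theorem cen_iff {A : Subgroup G} {x : G} :
    x ∈ centralizer (A : Set G) ↔ ∀ a ∈ A, a * x = x * a := by
  have _ := h
  rw [mem_centralizer_iff]; rfl

theorem Q_N (i : I) : Q i ≤ normalizer (R i : Set G) := by
  intro y hy
  rw [mem_normalizer_iff]
  intro r
  constructor
  · intro hr
    have := h.RQ i r hr y hy
    rwa [← this, mul_inv_cancel_right]
  · intro hr
    have := h.RQ i _ hr y hy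
    have h2 : y * r * y⁻¹ = r := by
      have h3 : y * (y * r * y⁻¹) = y * (r) := by
        rw [← this]; group
      exact mul_left_cancel h3
    rwa [← h2]

theorem R_cS (i : I) : R i ≤ centralizer (S i : Set G) := by
  intro r hr
  rw [h.cen_iff]
  intro n hn
  exact (h.RQ i r hr n (h.S_le i hn)).symm

/-- `c⁻¹ x c` form of normality. -/
theorem nor' (i : I) {c : G} (hc : c ∈ normalizer (R i : Set G)) {y : G} (hy : y ∈ Q i) :
    c⁻¹ * y * c ∈ Q i := by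
  simpa using h.nor i c⁻¹ (inv_mem hc) y hy

theorem S_nor' (i : I) {c : G} (hc : c ∈ normalizer (R i : Set G)) {y : G} (hy : y ∈ S i) :
    c⁻¹ * y * c ∈ S i := by
  simpa using h.S_nor i c⁻¹ (inv_mem hc) y hy

/-- (5a) -/
theorem val {i : I} {y : G} (hy : y ∈ Q i) (hn : y ∉ centralizer (S i : Set G)) {r : G}
    (hr : r ∈ R i) : ∃ n ∈ S i, n⁻¹ * y⁻¹ * n * y = r := by
  by_contra hcon
  push Not at hcon
  refine hn (h.S_cen i y fun c hc e he => ?_)
  have hy' : c⁻¹ * y * c ∈ Q i := h.nor' i hc hy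
  by_cases hV : c⁻¹ * y * c ∈ centralizer (V : Set G)
  · have := (h.cen_iff.1 hV) e he.1
    have h2 : c * (e * (c⁻¹ * y * c)) * c⁻¹ = c * ((c⁻¹ * y * c) * e) * c⁻¹ := by rw [this]
    calc c * e * c⁻¹ * y = c * (e * (c⁻¹ * y * c)) * c⁻¹ := by group
      _ = _ := h2
      _ = y * (c * e * c⁻¹) := by group
  · exfalso
    have hr' : c⁻¹ * r * c ∈ R i := by
      have := (mem_normalizer_iff.1 (inv_mem hc) r).1 hr
      simpa using this
    obtain ⟨e', he', hee⟩ := h.EQs i _ hy' hV _ hr'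
    refine hcon (c * e' * c⁻¹) (h.S_nor i c hc e' (h.E_le i he')) ?_
    calc (c * e' * c⁻¹)⁻¹ * y⁻¹ * (c * e' * c⁻¹) * y
        = c * (e'⁻¹ * (c⁻¹ * y * c)⁻¹ * e' * (c⁻¹ * y * c)) * c⁻¹ := by group
      _ = c * (c⁻¹ * r * c) * c⁻¹ := by rw [hee]
      _ = r := by group

/-- `V ∩ C(S i) ≤ R i`. -/
theorem V_cS {i : I} {v : G} (hv : v ∈ V) (hc : v ∈ centralizer (S i : Set G)) : v ∈ R i := by
  refine h.cenR i v hv fun y hy => ?_
  obtain ⟨n, hn, hc'⟩ := h.cover i y hy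
  have h1 : n * v = v * n := (h.cen_iff.1 hc) n hn
  have h2 : v * (y⁻¹ * n) = (y⁻¹ * n) * v := (h.cen_iff.1 hc') v hv
  have h3 : v * y⁻¹ = y⁻¹ * v := by
    have : v * y⁻¹ * n = y⁻¹ * v * n := by
      rw [mul_assoc v, h2, mul_assoc y⁻¹ v, ← h1, mul_assoc]
    exact mul_right_cancel this
  calc v * y = y * (y⁻¹ * v) * y := by group
    _ = y * (v * y⁻¹) * y := by rw [h3]
    _ = y * v := by group

/-- `n`-`y` commutators of `Q i` with `S i`, second form. -/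
theorem SQ' {i : I} {x y : G} (hx : x ∈ Q i) (hy : y ∈ S i) :
    x⁻¹ * y⁻¹ * x * y ∈ R i := by
  have := inv_mem (h.SQ i y hy x hx)
  convert this using 1
  group

section

variable {χ : G → ℤˣ} {i : I} (hχ : ∀ a ∈ R i, ∀ b ∈ R i, χ (a * b) = χ a * χ b)
include hχ

theorem chi_one : χ 1 = 1 := by
  have _ := h
  have := hχ 1 (one_mem _) 1 (one_mem _)
  rw [mul_one] at this
  exact (mul_eq_left.1 this.symm)

/-- multiplicativity in the second variable -/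
theorem chi_mul_right {x y y' : G} (hx : x ∈ Q i) (hy : y ∈ S i) (hy' : y' ∈ S i) :
    χ (x⁻¹ * (y * y')⁻¹ * x * (y * y')) =
      χ (x⁻¹ * y⁻¹ * x * y) * χ (x⁻¹ * y'⁻¹ * x * y') := by
  have h1 := h.SQ' hx hy
  have h2 := h.SQ' hx hy'
  have h3 := h.RQ i _ h1 _ (h.S_le i hy')
  have h4 : x⁻¹ * (y * y')⁻¹ * x * (y * y') =
      (x⁻¹ * y'⁻¹ * x * y') * (x⁻¹ * y⁻¹ * x * y) := by
    calc x⁻¹ * (y * y')⁻¹ * x * (y * y')
        = (x⁻¹ * y'⁻¹ * x) * ((x⁻¹ * y⁻¹ * x * y) * y') := by group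
      _ = (x⁻¹ * y'⁻¹ * x) * (y' * (x⁻¹ * y⁻¹ * x * y)) := by rw [h3]
      _ = _ := by group
  rw [h4, hχ _ h2 _ h1, mul_comm]

/-- multiplicativity in the first variable -/
theorem chi_mul_left {x x' y : G} (hx : x ∈ Q i) (hx' : x' ∈ Q i) (hy : y ∈ S i) :
    χ ((x * x')⁻¹ * y⁻¹ * (x * x') * y) =
      χ (x⁻¹ * y⁻¹ * x * y) * χ (x'⁻¹ * y⁻¹ * x' * y) := by
  have h1 := h.SQ' hx hy
  have h2 := h.SQ' hx' hy
  have h3 := h.RQ i _ h1 _ hx'
  have h4 : (x * x')⁻¹ * y⁻¹ * (x * x') * y =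
      (x⁻¹ * y⁻¹ * x * y) * (x'⁻¹ * y⁻¹ * x' * y) := by
    calc (x * x')⁻¹ * y⁻¹ * (x * x') * y
        = x'⁻¹ * ((x⁻¹ * y⁻¹ * x * y) * (y⁻¹ * x' * y)) := by group
      _ = x'⁻¹ * ((x⁻¹ * y⁻¹ * x * y) * x' * (x'⁻¹ * y⁻¹ * x' * y)) := by group
      _ = x'⁻¹ * (x' * (x⁻¹ * y⁻¹ * x * y) * (x'⁻¹ * y⁻¹ * x' * y)) := by rw [h3]
      _ = _ := by group
  rw [h4, hχ _ h1 _ h2]

/-- equal characters : the quotient centralises `S i` -/
theorem cen_of_char {r : G} (hr : r ∈ R i) (hr1 : χ r ≠ 1) {x x' : G} (hx : x ∈ Q i)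
    (hx' : x' ∈ Q i)
    (he : ∀ y ∈ S i, χ (x⁻¹ * y⁻¹ * x * y) = χ (x'⁻¹ * y⁻¹ * x' * y)) :
    x⁻¹ * x' ∈ centralizer (S i : Set G) := by
  by_contra hcon
  have hq : x⁻¹ * x' ∈ Q i := mul_mem (inv_mem hx) hx'
  obtain ⟨n, hn, hnr⟩ := h.val hq hcon (inv_mem hr)
  have h1 := h.chi_mul_left hχ (inv_mem hx) hx' hn
  have h2 := h.chi_mul_left hχ hx (inv_mem hx) hn
  rw [mul_inv_cancel] at h2
  have h3 : (1 : G)⁻¹ * n⁻¹ * 1 * n = 1 := by group
  rw [h3, h.chi_one hχ, he n hn] at h2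
  have h4 : (x⁻¹ * x')⁻¹ * n⁻¹ * (x⁻¹ * x') * n = r := by
    have : (x⁻¹ * x')⁻¹ * n⁻¹ * (x⁻¹ * x') * n =
      (n⁻¹ * (x⁻¹ * x')⁻¹ * n * (x⁻¹ * x'))⁻¹ := by group
    rw [this, hnr, inv_inv]
  rw [h4] at h1
  apply hr1
  rw [h1, mul_comm]
  exact h2.symm

end

variable [Finite G]

/-- (5b) -/
theorem F_le {i : I} {x : G} (hx : x ∈ S i)
    (hc : ∀ c ∈ S i, c ∈ centralizer (V : Set G) → x * c = c * x) :
    ∃ e ∈ V ⊓ Q i, e⁻¹ * x ∈ centralizer (S i : Set G) := by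
  obtain ⟨χ, hχ, r, hr, hr1⟩ := exists_char (h.ne i)
    (fun a ha b hb => h.V_comm a (h.R_le i ha) b (h.R_le i hb))
    (fun a ha => h.V_sq a (h.R_le i ha))
  obtain ⟨e, he, hex⟩ := exists_rep (X := V ⊓ Q i) (P := S i) (Z := R i)
    (K := centralizer (V : Set G)) (fun x y => χ (x⁻¹ * y⁻¹ * x * y))
    (by
      intro y hy k _ hk
      have hyN := h.Q_V i (h.S_le i hy)
      rw [h.cen_iff]
      intro v hv
      have hv' : y⁻¹ * v * y ∈ V := by
        have := (mem_normalizer_iff.1 (inv_mem hyN) v).1 hv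
        simpa using this
      have h1 := (h.cen_iff.1 hk) _ hv'
      calc v * (y * k * y⁻¹) = y * ((y⁻¹ * v * y) * k) * y⁻¹ := by group
        _ = y * (k * (y⁻¹ * v * y)) * y⁻¹ := by rw [h1]
        _ = _ := by group)
    (fun e he y hy y' hy' => h.chi_mul_right hχ he.2 hy hy')
    (by
      intro e he k _ hk
      have h1 := (h.cen_iff.1 hk) e he.1
      have : e⁻¹ * k⁻¹ * e * k = 1 := by
        rw [mul_assoc, h1]; group
      show χ _ = 1
      rw [this, h.chi_one hχ])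
    (fun e he e' he' hee => h.V_cS (mul_mem (inv_mem he.1) he'.1)
      (h.cen_of_char hχ hr hr1 he.2 he'.2 hee))
    (by
      rw [← h.cardE i]
      exact relIndex_le_of_le_right (h.S_le i) (by
        unfold relIndex
        exact index_ne_zero_of_finite))
    (fun y => χ (x⁻¹ * y⁻¹ * x * y))
    (fun y hy y' hy' => h.chi_mul_right hχ (h.S_le i hx) hy hy')
    (by
      intro k hk hkV
      have h1 := hc k hk hkV
      have : x⁻¹ * k⁻¹ * x * k = 1 := by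
        rw [mul_assoc, h1]; group
      rw [this, h.chi_one hχ])
  exact ⟨e, he, h.cen_of_char hχ hr hr1 he.2 (h.S_le i hx) hex⟩

section Six

variable {i j : I} (hij : i ≠ j) {d : G} (hd : d ∈ Q j ⊓ centralizer (S j : Set G))
include hij hd

omit [Finite G] in
theorem d_N : d ∈ normalizer (R i : Set G) := by
  have _ := hij
  have h1 := h.D_V j hd
  rw [mem_normalizer_iff]
  intro r
  constructor
  · intro hr
    have := (h.cen_iff.1 h1) r (h.R_le i hr)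
    rwa [← this, mul_inv_cancel_right]
  · intro hr
    have := (h.cen_iff.1 h1) _ (h.R_le i hr)
    have h2 : d * r * d⁻¹ = r := by
      have h3 : d * (d * r * d⁻¹) = d * r := by
        rw [← this]; group
      exact mul_left_cancel h3
    rwa [← h2]

omit [Finite G] in
theorem k_S {y : G} (hy : y ∈ S i) : y⁻¹ * d⁻¹ * y * d ∈ S i := by
  have h1 := h.S_nor' i (h.d_N hij hd) hy
  have h2 : y⁻¹ * d⁻¹ * y * d = y⁻¹ * (d⁻¹ * y * d) := by group
  rw [h2]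
  exact mul_mem (inv_mem hy) h1

omit [Finite G] in
/-- `k = [y,d]` commutes with `S i ∩ C(V)`. -/
theorem k_comm {y c : G} (hy : y ∈ S i) (hc : c ∈ S i) (hcV : c ∈ centralizer (V : Set G)) :
    (y⁻¹ * d⁻¹ * y * d) * c = c * (y⁻¹ * d⁻¹ * y * d) := by
  set k := y⁻¹ * d⁻¹ * y * d with hk
  have h1 : y⁻¹ * c⁻¹ * y * c ∈ R i := h.SQ i y hy c (h.S_le i hc)
  have h2 := (h.cen_iff.1 (h.D_V j hd)) _ (h.R_le i h1)
  have h3 := h.D_c i j hij d hd c hc hcV
  have hks : k ∈ S i := h.k_S hij hd hy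
  have h4 := h.RQ i _ h1 _ (h.S_le i hks)
  -- [y,c] = [y,c]^d = [yk,c]
  have h5 : y⁻¹ * c⁻¹ * y * c = (y * k)⁻¹ * c⁻¹ * (y * k) * c := by
    have e1 : y⁻¹ * c⁻¹ * y * c = d⁻¹ * (y⁻¹ * c⁻¹ * y * c) * d := by
      rw [mul_assoc d⁻¹, h2]; group
    have e2 : d⁻¹ * c * d = c := by
      rw [mul_assoc, ← h3]; group
    have e3 : y * k = d⁻¹ * y * d := by rw [hk]; group
    have e4 : d⁻¹ * (y⁻¹ * c⁻¹ * y * c) * d =
        (d⁻¹ * y * d)⁻¹ * (d⁻¹ * c * d)⁻¹ * (d⁻¹ * y * d) * (d⁻¹ * c * d) := by group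
    rw [e1, e4, e2, e3]
  have h6 : (y * k)⁻¹ * c⁻¹ * (y * k) * c =
      (y⁻¹ * c⁻¹ * y * c) * (k⁻¹ * c⁻¹ * k * c) := by
    calc (y * k)⁻¹ * c⁻¹ * (y * k) * c
        = k⁻¹ * ((y⁻¹ * c⁻¹ * y * c) * (c⁻¹ * k * c)) := by group
      _ = k⁻¹ * ((y⁻¹ * c⁻¹ * y * c) * k * (k⁻¹ * c⁻¹ * k * c)) := by group
      _ = k⁻¹ * (k * (y⁻¹ * c⁻¹ * y * c) * (k⁻¹ * c⁻¹ * k * c)) := by rw [h4]
      _ = _ := by group
  rw [h6] at h5
  have h7 : k⁻¹ * c⁻¹ * k * c = 1 := by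
    have := h5.symm
    rwa [mul_eq_left] at this
  have h8 : k * c = c * k * (k⁻¹ * c⁻¹ * k * c) := by group
  rw [h8, h7, mul_one]

omit [Finite G] in
theorem k_sq {y : G} (hy : y ∈ S i) :
    (y⁻¹ * d⁻¹ * y * d) * (y⁻¹ * d⁻¹ * y * d) = 1 := h.D_k i j hij d hd y hy

omit [Finite G] in
/-- `k = [y,d]` commutes with `y`. -/
theorem k_y {y : G} (hy : y ∈ S i) :
    (y⁻¹ * d⁻¹ * y * d) * y = y * (y⁻¹ * d⁻¹ * y * d) := by
  set k := y⁻¹ * d⁻¹ * y * d with hk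
  have h1 := h.S_sq i y hy
  have h2 := (h.cen_iff.1 (h.D_V j hd)) _ (h.R_le i h1)
  have h3 : k * k = 1 := h.k_sq hij hd hy
  have e3 : d⁻¹ * y * d = y * k := by rw [hk]; group
  have h4 : y * y = (y * k) * (y * k) := by
    have e1 : y * y = d⁻¹ * (y * y) * d := by
      rw [mul_assoc d⁻¹, h2]; group
    have e4 : d⁻¹ * (y * y) * d = (d⁻¹ * y * d) * (d⁻¹ * y * d) := by group
    rw [e1, e4, e3]
  have h5 : y = k * (y * k) := by
    have : y * y = y * (k * (y * k)) := by rw [h4]; group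
    exact mul_left_cancel this
  calc k * y = k * (k * (y * k)) := by rw [← h5]
    _ = (k * k) * (y * k) := by group
    _ = y * k := by rw [h3, one_mul]

omit [Finite G] in
/-- additivity of `n ↦ [n,d]` -/
theorem k_mul (n n' : G) : (n * n')⁻¹ * d⁻¹ * (n * n') * d =
    (n⁻¹ * d⁻¹ * n * d) * ((n⁻¹ * d⁻¹ * n * d)⁻¹ * n'⁻¹ * (n⁻¹ * d⁻¹ * n * d) * n') *
      (n'⁻¹ * d⁻¹ * n' * d) := by
  have _ := h; have _ := hij; have _ := hd
  group

omit [Finite G] in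
/-- `[n,d]` depends only on `n` modulo `C(V)`. -/
theorem k_congr {n n' : G} (hn : n ∈ S i) (hn' : n' ∈ S i)
    (hc : n⁻¹ * n' ∈ centralizer (V : Set G)) :
    n⁻¹ * d⁻¹ * n * d = n'⁻¹ * d⁻¹ * n' * d := by
  have hm : n⁻¹ * n' ∈ S i := mul_mem (inv_mem hn) hn'
  set m := n⁻¹ * n' with hmdef
  have e : n' = n * m := by rw [hmdef]; group
  have h1 := h.k_comm hij hd hn hm hc
  have h2 := h.D_c i j hij d hd m hm hc
  rw [e, h.k_mul hij hd n m]
  have h3 : m⁻¹ * d⁻¹ * m * d = 1 := by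
    have : m⁻¹ * d⁻¹ * m * d = m⁻¹ * d⁻¹ * (m * d) := by group
    rw [this, ← h2]; group
  have h4 : (n⁻¹ * d⁻¹ * n * d)⁻¹ * m⁻¹ * (n⁻¹ * d⁻¹ * n * d) * m = 1 := by
    have : (n⁻¹ * d⁻¹ * n * d)⁻¹ * m⁻¹ * (n⁻¹ * d⁻¹ * n * d) * m =
      (n⁻¹ * d⁻¹ * n * d)⁻¹ * m⁻¹ * ((n⁻¹ * d⁻¹ * n * d) * m) := by group
    rw [this, h1]; group
  rw [h3, h4, mul_one, mul_one]

/-- (6): every `d ∈ D j` is, modulo `R j`, an element which acts on `S i` modulo `C(S i)`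
trivially. -/
theorem six : ∃ r ∈ R j, ∀ y ∈ S i,
    y⁻¹ * (d * r)⁻¹ * y * (d * r) ∈ centralizer (S i : Set G) := by
  classical
  -- choice of `b`
  have hch : ∀ y : G, ∃ e : G, y ∈ Q i → ∃ n ∈ S i, y⁻¹ * n ∈ centralizer (V : Set G) ∧
      e ∈ V ⊓ Q i ∧ e⁻¹ * (n⁻¹ * d⁻¹ * n * d) ∈ centralizer (S i : Set G) := by
    intro y
    by_cases hy : y ∈ Q i
    · obtain ⟨n, hn, hnV⟩ := h.cover i y hy
      obtain ⟨e, he, hek⟩ := h.F_le (h.k_S hij hd hn) (fun c hc hcV => h.k_comm hij hd hn hc hcV)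
      exact ⟨e, fun _ => ⟨n, hn, hnV, he, hek⟩⟩
    · exact ⟨1, fun hy' => absurd hy' hy⟩
  choose b hb using hch
  obtain ⟨r, hr, hrb⟩ := h.alt i j hij b
    (fun y hy => by
      obtain ⟨n, hn, hnV, he, hek⟩ := hb y hy
      exact he)
    (by
      intro y hy y' hy'
      obtain ⟨n, hn, hnV, he, hek⟩ := hb y hy
      obtain ⟨n', hn', hnV', he', hek'⟩ := hb y' hy'
      obtain ⟨n'', hn'', hnV'', he'', hek''⟩ := hb (y * y') (mul_mem hy hy')
      have hvV : b (y * y') * (b y * b y')⁻¹ ∈ V :=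
        mul_mem he''.1 (inv_mem (mul_mem he.1 he'.1))
      refine h.V_cS hvV ?_
      -- n'' and n n' agree modulo C(V)
      have hcV : (n * n')⁻¹ * n'' ∈ centralizer (V : Set G) := by
        have e1 : (n * n')⁻¹ * n'' =
            (y'⁻¹ * n')⁻¹ * (y'⁻¹ * (y⁻¹ * n)⁻¹ * y') * ((y * y')⁻¹ * n'') := by group
        rw [e1]
        refine mul_mem (mul_mem (inv_mem hnV') ?_) hnV''
        have hyN := h.Q_V i hy'
        rw [h.cen_iff]
        intro v hv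
        have hv' : y' * v * y'⁻¹ ∈ V := (mem_normalizer_iff.1 hyN v).1 hv
        have h1 := (h.cen_iff.1 (inv_mem hnV)) _ hv'
        calc v * (y'⁻¹ * (y⁻¹ * n)⁻¹ * y')
            = y'⁻¹ * ((y' * v * y'⁻¹) * (y⁻¹ * n)⁻¹) * y' := by group
          _ = y'⁻¹ * ((y⁻¹ * n)⁻¹ * (y' * v * y'⁻¹)) * y' := by rw [h1]
          _ = _ := by group
      have hk := h.k_congr hij hd (mul_mem hn hn') hn'' hcV
      rw [← hk, h.k_mul hij hd n n'] at hek''
      set k := n⁻¹ * d⁻¹ * n * d with hkdef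
      set k' := n'⁻¹ * d⁻¹ * n' * d with hk'def
      have hρ : k⁻¹ * n'⁻¹ * k * n' ∈ centralizer (S i : Set G) := by
        apply h.R_cS i
        exact h.SQ i k (h.k_S hij hd hn) n' (h.S_le i hn')
      set ρ := k⁻¹ * n'⁻¹ * k * n' with hρdef
      -- b y b y' b(yy')⁻¹ ...
      have hbS' : b y' ∈ S i := h.E_le i he'
      have hz := (h.cen_iff.1 hek) _ hbS'
      have hzρ := (h.cen_iff.1 (mul_mem hek hρ)) _ hbS'
      -- k = e z, k' = e' z'
      have e2 : (b (y * y'))⁻¹ * (b y * b y') =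
          (b (y * y'))⁻¹ * (k * ρ * k') * ((b y')⁻¹ * k')⁻¹ * ((b y)⁻¹ * k * ρ)⁻¹ := by
        calc (b (y * y'))⁻¹ * (b y * b y')
            = (b (y * y'))⁻¹ * (b y * (b y' * ((b y)⁻¹ * k * ρ))) * ((b y)⁻¹ * k * ρ)⁻¹ := by
              group
          _ = (b (y * y'))⁻¹ * (b y * (((b y)⁻¹ * k * ρ) * b y')) * ((b y)⁻¹ * k * ρ)⁻¹ := by
              rw [hzρ]
          _ = _ := by group
      have e3 : (b (y * y'))⁻¹ * (b y * b y') ∈ centralizer (S i : Set G) := by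
        rw [e2]
        exact mul_mem (mul_mem hek'' (inv_mem hek')) (inv_mem (mul_mem hek hρ))
      have e4 : b (y * y') * (b y * b y')⁻¹ = ((b (y * y'))⁻¹ * (b y * b y'))⁻¹ := by
        rw [mul_inv_rev ((b (y * y'))⁻¹), inv_inv]
        exact h.V_comm _ he''.1 _ (inv_mem (mul_mem he.1 he'.1))
      rw [e4]
      exact inv_mem e3)
    (by
      intro y hy
      obtain ⟨n, hn, hnV, he, hek⟩ := hb y hy
      -- b y commutes with n and with C(V)
      have h1 := (h.cen_iff.1 hek) n hn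
      have h2 := h.k_y hij hd hn
      have h3 := (h.cen_iff.1 hnV) _ he.1
      have h4 : b y * n = n * b y := by
        have e1 : n * ((b y)⁻¹ * (n⁻¹ * d⁻¹ * n * d)) =
          (b y)⁻¹ * (n * (n⁻¹ * d⁻¹ * n * d)) := by rw [h1, mul_assoc, h2]
        have e2 : n * (b y)⁻¹ = (b y)⁻¹ * n := by
          have : (n * (b y)⁻¹) * (n⁻¹ * d⁻¹ * n * d) =
            ((b y)⁻¹ * n) * (n⁻¹ * d⁻¹ * n * d) := by
            rw [mul_assoc n, e1, mul_assoc ((b y)⁻¹)]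
          exact mul_right_cancel this
        calc b y * n = b y * (n * (b y)⁻¹) * b y := by group
          _ = b y * ((b y)⁻¹ * n) * b y := by rw [e2]
          _ = n * b y := by group
      have e5 : b y * (y⁻¹ * n)⁻¹ = (y⁻¹ * n)⁻¹ * b y := by
        calc b y * (y⁻¹ * n)⁻¹ = (y⁻¹ * n)⁻¹ * ((y⁻¹ * n) * b y) * (y⁻¹ * n)⁻¹ := by group
          _ = (y⁻¹ * n)⁻¹ * (b y * (y⁻¹ * n)) * (y⁻¹ * n)⁻¹ := by rw [← h3]
          _ = _ := by group
      calc b y * y = b y * n * (y⁻¹ * n)⁻¹ := by group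
        _ = n * (b y * (y⁻¹ * n)⁻¹) := by rw [h4, mul_assoc]
        _ = n * ((y⁻¹ * n)⁻¹ * b y) := by rw [e5]
        _ = y * b y := by group)
    (by
      intro y hy hyV
      obtain ⟨n, hn, hnV, he, hek⟩ := hb y hy
      have hnV' : n ∈ centralizer (V : Set G) := by
        have : n = y * (y⁻¹ * n) := by group
        rw [this]
        exact mul_mem hyV hnV
      have h2 := h.D_c i j hij d hd n hn hnV'
      have h3 : n⁻¹ * d⁻¹ * n * d = 1 := by
        have : n⁻¹ * d⁻¹ * n * d = n⁻¹ * d⁻¹ * (n * d) := by group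
        rw [this, ← h2]; group
      rw [h3, mul_one] at hek
      exact h.V_cS he.1 (by simpa using inv_mem hek))
  refine ⟨r, hr, fun y hy => ?_⟩
  have hyQ := h.S_le i hy
  obtain ⟨n, hn, hnV, he, hek⟩ := hb y hyQ
  have hk := h.k_congr hij hd hy hn hnV
  rw [← hk] at hek
  have h1 := hrb y hyQ
  set k := y⁻¹ * d⁻¹ * y * d with hkdef
  have hrD : r ∈ Q j ⊓ centralizer (S j : Set G) := ⟨h.R_Q j hr, h.R_cS j hr⟩
  have hzD : (b y)⁻¹ * k ∈ Q i ⊓ centralizer (S i : Set G) :=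
    ⟨(Q i).mul_mem ((Q i).inv_mem he.2) (h.S_le i (h.k_S hij hd hy)), hek⟩
  have h2 := h.D_comm i j hij _ hzD _ hrD
  have h3 := h.V_comm _ he.1 _ (h.R_le j hr)
  -- `r` commutes with `k`
  have h4 : k * r = r * k := by
    calc k * r = b y * (((b y)⁻¹ * k) * r) := by group
      _ = b y * (r * ((b y)⁻¹ * k)) := by rw [h2]
      _ = (b y * r) * ((b y)⁻¹ * k) := by group
      _ = (r * b y) * ((b y)⁻¹ * k) := by rw [h3]
      _ = r * k := by group
  have hyrV : y⁻¹ * r⁻¹ * y * r ∈ V := by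
    have hyN : y⁻¹ ∈ normalizer (V : Set G) := inv_mem (h.Q_V i hyQ)
    have hrV : r⁻¹ ∈ V := inv_mem (h.R_le j hr)
    have := (mem_normalizer_iff.1 hyN r⁻¹).1 hrV
    rw [inv_inv] at this
    exact mul_mem this (h.R_le j hr)
  have h5 := h.V_sq _ hyrV
  have h6 := h.V_comm _ he.1 _ hyrV
  have h7 : y⁻¹ * (d * r)⁻¹ * y * (d * r) =
      (b y * (y⁻¹ * r⁻¹ * y * r)⁻¹) * ((b y)⁻¹ * k) := by
    calc y⁻¹ * (d * r)⁻¹ * y * (d * r) = (y⁻¹ * r⁻¹ * y) * (k * r) := by rw [hkdef]; group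
      _ = (y⁻¹ * r⁻¹ * y) * (r * k) := by rw [h4]
      _ = (y⁻¹ * r⁻¹ * y * r) * b y * ((b y)⁻¹ * k) := by group
      _ = b y * (y⁻¹ * r⁻¹ * y * r) * ((b y)⁻¹ * k) := by rw [h6]
      _ = (b y * (y⁻¹ * r⁻¹ * y * r)⁻¹) * ((y⁻¹ * r⁻¹ * y * r) * (y⁻¹ * r⁻¹ * y * r)) *
            ((b y)⁻¹ * k) := by group
      _ = _ := by rw [h5, mul_one]
  rw [h7]
  exact mul_mem (h.R_cS i h1) hek

end Six

/-! ### (7) -/

omit [Finite G] in
theorem cS_nor {i : I} {g : G} (hg : g ∈ normalizer (R i : Set G)) {x : G}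
    (hx : x ∈ centralizer (S i : Set G)) : g * x * g⁻¹ ∈ centralizer (S i : Set G) := by
  rw [h.cen_iff]
  intro n hn
  have h1 := h.S_nor' i hg hn
  have h2 := (h.cen_iff.1 hx) _ h1
  calc n * (g * x * g⁻¹) = g * ((g⁻¹ * n * g) * x) * g⁻¹ := by group
    _ = g * (x * (g⁻¹ * n * g)) * g⁻¹ := by rw [h2]
    _ = _ := by group

omit [Finite G] in
theorem cS_nor' {i : I} {g : G} (hg : g ∈ normalizer (R i : Set G)) {x : G}
    (hx : x ∈ centralizer (S i : Set G)) : g⁻¹ * x * g ∈ centralizer (S i : Set G) := by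
  simpa using h.cS_nor (inv_mem hg) hx

omit [Finite G] in
theorem two_of_sq {i : I} {g : G} (hg : g * g ∈ Q i) : ∃ k : ℕ, g ^ 2 ^ k = 1 := by
  obtain ⟨k, hk⟩ := h.two i ⟨g * g, hg⟩
  refine ⟨k + 1, ?_⟩
  have h1 : (g * g) ^ 2 ^ k = 1 := by
    have := congrArg Subtype.val hk
    simpa using this
  rw [pow_succ 2 k, mul_comm (2 ^ k) 2, pow_mul, pow_two]
  exact h1

/-- `W = C(S i) ∩ C(D i) ∩ N(R i)`. -/
def W (_ : Pre V R Q S) (i : I) : Subgroup G :=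
  normalizer (R i : Set G) ⊓ centralizer (S i : Set G) ⊓
    centralizer ((Q i ⊓ centralizer (S i : Set G) : Subgroup G) : Set G)

omit [Finite G] in
theorem D_nor {i : I} {g : G} (hg : g ∈ normalizer (R i : Set G)) {x : G}
    (hx : x ∈ Q i ⊓ centralizer (S i : Set G)) :
    g * x * g⁻¹ ∈ Q i ⊓ centralizer (S i : Set G) :=
  ⟨h.nor i g hg x hx.1, h.cS_nor hg hx.2⟩

omit [Finite G] in
theorem cD_nor {i : I} {g : G} (hg : g ∈ normalizer (R i : Set G)) {x : G}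
    (hx : x ∈ centralizer ((Q i ⊓ centralizer (S i : Set G) : Subgroup G) : Set G)) :
    g * x * g⁻¹ ∈ centralizer ((Q i ⊓ centralizer (S i : Set G) : Subgroup G) : Set G) := by
  rw [h.cen_iff]
  intro n hn
  have h1 : g⁻¹ * n * g ∈ Q i ⊓ centralizer (S i : Set G) := by
    simpa using h.D_nor (inv_mem hg) hn
  have h2 := (h.cen_iff.1 hx) _ h1
  calc n * (g * x * g⁻¹) = g * ((g⁻¹ * n * g) * x) * g⁻¹ := by group
    _ = g * (x * (g⁻¹ * n * g)) * g⁻¹ := by rw [h2]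
    _ = _ := by group

omit [Finite G] in
theorem W_nor {i : I} {g : G} (hg : g ∈ normalizer (R i : Set G)) {x : G}
    (hx : x ∈ h.W i) : g * x * g⁻¹ ∈ h.W i :=
  ⟨⟨Subgroup.mul_mem _ (Subgroup.mul_mem _ hg hx.1.1) (Subgroup.inv_mem _ hg),
    h.cS_nor hg hx.1.2⟩, h.cD_nor hg hx.2⟩

omit [Finite G] in
theorem W_le (i : I) : h.W i ≤ Q i := by
  have hsq : ∀ g ∈ h.W i, g * g ∈ Q i := by
    intro g hg
    apply h.char2 i
    rw [h.cen_iff]
    intro y hy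
    have hyN := h.Q_N i hy
    have hkW : y⁻¹ * g⁻¹ * y * g ∈ h.W i := by
      have hgi : g⁻¹ ∈ h.W i := inv_mem hg
      have hyi : y⁻¹ ∈ normalizer (R i : Set G) := inv_mem hyN
      have := h.W_nor hyi hgi
      rw [inv_inv] at this
      exact mul_mem this hg
    have hkQ : y⁻¹ * g⁻¹ * y * g ∈ Q i := by
      have e : y⁻¹ * g⁻¹ * y * g = y⁻¹ * (g⁻¹ * y * g) := by group
      rw [e]
      exact mul_mem (inv_mem hy) (h.nor' i hg.1.1 hy)
    have hkD : y⁻¹ * g⁻¹ * y * g ∈ Q i ⊓ centralizer (S i : Set G) := ⟨hkQ, hkW.1.2⟩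
    have h1 := (h.cen_iff.1 hg.2) _ hkD
    have h2 := h.D_sq i _ hkD
    set k := y⁻¹ * g⁻¹ * y * g with hk
    have h3 : y * g = g * y * k := by rw [hk]; group
    calc y * (g * g) = (y * g) * g := by group
      _ = g * y * (k * g) := by rw [h3]; group
      _ = g * y * (g * k) := by rw [h1]
      _ = g * (y * g) * k := by group
      _ = g * (g * y * k) * k := by rw [h3]
      _ = g * g * y * (k * k) := by group
      _ = g * g * y := by rw [h2, mul_one]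
  refine h.max i (h.W i) ?_ (fun g hg => hg.1.1) (fun c hc y hy => h.W_nor hc hy)
  intro g
  obtain ⟨k, hk⟩ := h.two_of_sq (hsq g g.2)
  exact ⟨k, Subtype.ext (by simpa using hk)⟩

/-- the group of all `g ∈ N(R i)` with `[S i, g] ≤ C(S i)` and `[D i, g] = 1` -/
def A (i : I) : Subgroup G where
  carrier := {g | g ∈ normalizer (R i : Set G) ∧
    g ∈ centralizer ((Q i ⊓ centralizer (S i : Set G) : Subgroup G) : Set G) ∧
    ∀ y ∈ S i, y⁻¹ * g⁻¹ * y * g ∈ centralizer (S i : Set G)}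
  one_mem' := ⟨one_mem _, one_mem _, fun y _ => by
    have : y⁻¹ * (1 : G)⁻¹ * y * 1 = 1 := by group
    rw [this]; exact one_mem _⟩
  mul_mem' := by
    rintro a b ⟨ha1, ha2, ha3⟩ ⟨hb1, hb2, hb3⟩
    refine ⟨mul_mem ha1 hb1, mul_mem ha2 hb2, fun y hy => ?_⟩
    have e : y⁻¹ * (a * b)⁻¹ * y * (a * b) =
      (y⁻¹ * b⁻¹ * y * b) * (b⁻¹ * (y⁻¹ * a⁻¹ * y * a) * b) := by group
    rw [e]
    exact mul_mem (hb3 y hy) (h.cS_nor' hb1 (ha3 y hy))
  inv_mem' := by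
    rintro a ⟨ha1, ha2, ha3⟩
    refine ⟨inv_mem ha1, inv_mem ha2, fun y hy => ?_⟩
    have e : y⁻¹ * (a⁻¹)⁻¹ * y * a⁻¹ =
        ((a * y * a⁻¹)⁻¹ * a⁻¹ * (a * y * a⁻¹) * a)⁻¹ := by group
    rw [e]
    exact inv_mem (ha3 _ (h.S_nor i a ha1 y hy))

omit [Finite G] in
theorem A_nor {i : I} {g : G} (hg : g ∈ normalizer (R i : Set G)) {x : G}
    (hx : x ∈ h.A i) : g * x * g⁻¹ ∈ h.A i := by
  refine ⟨mul_mem (mul_mem hg hx.1) (inv_mem hg), h.cD_nor hg hx.2.1, fun y hy => ?_⟩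
  have e : y⁻¹ * (g * x * g⁻¹)⁻¹ * y * (g * x * g⁻¹) =
      g * ((g⁻¹ * y * g)⁻¹ * x⁻¹ * (g⁻¹ * y * g) * x) * g⁻¹ := by group
  rw [e]
  exact h.cS_nor hg (hx.2.2 _ (h.S_nor' i hg hy))

omit [Finite G] in
theorem A_le (i : I) : h.A i ≤ Q i := by
  have hsq : ∀ g ∈ h.A i, g * g ∈ Q i := by
    intro g hg
    apply h.W_le i
    refine ⟨⟨mul_mem hg.1 hg.1, ?_⟩, mul_mem hg.2.1 hg.2.1⟩
    show g * g ∈ centralizer (S i : Set G)
    rw [h.cen_iff]
    intro y hy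
    have hkS : y⁻¹ * g⁻¹ * y * g ∈ S i := by
      have e : y⁻¹ * g⁻¹ * y * g = y⁻¹ * (g⁻¹ * y * g) := by group
      rw [e]
      exact mul_mem (inv_mem hy) (h.S_nor' i hg.1 hy)
    have hkD : y⁻¹ * g⁻¹ * y * g ∈ Q i ⊓ centralizer (S i : Set G) :=
      ⟨h.S_le i hkS, hg.2.2 y hy⟩
    have h1 := (h.cen_iff.1 hg.2.1) _ hkD
    have h2 := h.D_sq i _ hkD
    set k := y⁻¹ * g⁻¹ * y * g with hk
    have h3 : y * g = g * y * k := by rw [hk]; group
    calc y * (g * g) = (y * g) * g := by group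
      _ = g * y * (k * g) := by rw [h3]; group
      _ = g * y * (g * k) := by rw [h1]
      _ = g * (y * g) * k := by group
      _ = g * (g * y * k) * k := by rw [h3]
      _ = g * g * y * (k * k) := by group
      _ = g * g * y := by rw [h2, mul_one]
  refine h.max i (h.A i) ?_ (fun g hg => hg.1) (fun c hc y hy => h.A_nor hc hy)
  intro g
  obtain ⟨k, hk⟩ := h.two_of_sq (hsq g g.2)
  exact ⟨k, Subtype.ext (by simpa using hk)⟩

/-- (7): `D j = R j`. -/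
theorem D_eq (hnt : ∀ j : I, ∃ i, i ≠ j) (j : I) :
    Q j ⊓ centralizer (S j : Set G) = R j := by
  apply le_antisymm
  · intro d hd
    obtain ⟨i, hij⟩ := hnt j
    obtain ⟨r, hr, hrd⟩ := h.six hij hd
    have hrD : r ∈ Q j ⊓ centralizer (S j : Set G) := ⟨h.R_Q j hr, h.R_cS j hr⟩
    have hdr := mul_mem hd hrD
    have hA : d * r ∈ h.A i := by
      refine ⟨h.d_N hij hdr, ?_, hrd⟩
      rw [h.cen_iff]
      intro a ha
      exact h.D_comm i j hij a ha _ hdr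
    have h1 := h.D_Q i j hij _ hdr (h.A_le i hA)
    have h2 : d = r⁻¹ := eq_inv_of_mul_eq_one_left h1
    rw [h2]
    exact inv_mem hr
  · intro r hr
    exact ⟨h.R_Q j hr, h.R_cS j hr⟩

/-- (8): `Q i = Q* i`. -/
theorem Q_le (hnt : ∀ j : I, ∃ i, i ≠ j) (i : I) : Q i ≤ S i := by
  obtain ⟨χ, hχ, r, hr, hr1⟩ := exists_char (h.ne i)
    (fun a ha b hb => h.V_comm a (h.R_le i ha) b (h.R_le i hb))
    (fun a ha => h.V_sq a (h.R_le i ha))
  have h1 : (R i).relIndex (Q i) ≤ (R i).relIndex (S i) := by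
    refine relIndex_le (X := Q i) (P := S i) (Z := R i) (K := R i)
      (fun x y => χ (x⁻¹ * y⁻¹ * x * y)) ?_ ?_ ?_ ?_
    · intro y hy k _ hk
      have := h.RQ i k hk y (h.S_le i hy)
      rw [← this, mul_inv_cancel_right]
      exact hk
    · intro x hx y hy y' hy'
      exact h.chi_mul_right hχ hx hy hy'
    · intro x hx k _ hk
      have h2 := h.RQ i k hk x hx
      have : x⁻¹ * k⁻¹ * x * k = 1 := by
        rw [mul_assoc, ← h2]; group
      show χ _ = 1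
      rw [this, h.chi_one hχ]
    · intro x hx x' hx' he
      rw [← h.D_eq hnt i]
      exact ⟨(Q i).mul_mem ((Q i).inv_mem hx) hx', h.cen_of_char hχ hr hr1 hx hx' he⟩
  have h2 := relIndex_mul_relIndex (R i) (S i) (Q i)
    (fun r hr => h.E_le i ⟨h.R_le i hr, h.R_Q i hr⟩) (h.S_le i)
  have h3 : (R i).relIndex (S i) ≠ 0 := by
    unfold relIndex
    exact index_ne_zero_of_finite
  have h4 : (S i).relIndex (Q i) = 1 := by
    have h5 : (S i).relIndex (Q i) ≠ 0 := by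
      unfold relIndex
      exact index_ne_zero_of_finite
    have h6 : (R i).relIndex (S i) * (S i).relIndex (Q i) ≤ (R i).relIndex (S i) * 1 := by
      rw [h2, mul_one]; exact h1
    have h7 := Nat.le_of_mul_le_mul_left h6 (Nat.pos_of_ne_zero h3)
    omega
  rwa [relIndex_eq_one] at h4

/-- **THEOREM BETA, conclusion**: `Z(Q i) = R i ≥ [Q i, Q i]`, squares of `Q i` in `R i`, and
every `y ∈ Q i`, not in `R i`, has `[y, Q i] = R i` (as a set of commutators). -/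
theorem result (hnt : ∀ j : I, ∃ i, i ≠ j) (i : I) :
    Q i = S i ∧ Q i ⊓ centralizer (Q i : Set G) = R i ∧
    (∀ x ∈ Q i, ∀ y ∈ Q i, x⁻¹ * y⁻¹ * x * y ∈ R i) ∧ (∀ x ∈ Q i, x * x ∈ R i) ∧
    (∀ y ∈ Q i, y ∉ R i → ∀ r ∈ R i, ∃ n ∈ Q i, n⁻¹ * y⁻¹ * n * y = r) := by
  have hQS : Q i = S i := le_antisymm (h.Q_le hnt i) (h.S_le i)
  have hD := h.D_eq hnt i
  refine ⟨hQS, ?_, ?_, ?_, ?_⟩
  · rw [← hQS] at hD; exact hD
  · intro x hx y hy
    rw [hQS] at hx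
    exact h.SQ i x hx y hy
  · intro x hx
    rw [hQS] at hx
    exact h.S_sq i x hx
  · intro y hy hyR r hr
    rw [← hD] at hyR
    obtain ⟨n, hn, hnr⟩ := h.val hy (fun hc => hyR ⟨hy, hc⟩) hr
    exact ⟨n, h.S_le i hn, hnr⟩

end Pre

end Cfsg.Agent.Omega.NO1.Beta

end

section


/-!
# The elements of `M ∩ C(R0)` on `V = O₄⁻(q)`

An element `g ∈ M` which centralises `R0` and normalises `Roo` acts on `V` as
`(x, y, z) ↦ (x, κ β(y), N(κ) z)` with `β ∈ {1, σ}` (`diag`); every element of `M ∩ C(R0)` is such an element up to the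
unipotent radical (`exists_diag`).
-/

set_option autoImplicit false
set_option linter.unusedVariables false
set_option linter.unusedSectionVars false

open Subgroup
open scoped Pointwise
open Cfsg.Agent.Omega.NO1.Beta.Inst

namespace Cfsg.Agent.Omega.NOne.SU.CoAct

open Co

variable {G : Type*} [Group G] {K : Type*} [Field K] [CharP K 2] {σ : K ≃+* K} {M V : Subgroup G}
  (d : Co K σ M V)

theorem sq_one {t : K} (h : t * t = 1) : t = 1 := by
  have h2 : (2 : K) = 0 := CharTwo.two_eq_zero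
  have : (t - 1) * (t - 1) = 0 := by linear_combination h - t * h2 + h2
  exact sub_eq_zero.mp (mul_self_eq_zero.mp this)

include d in
theorem cj_mem {g v : G} {H : Subgroup G} (h : cj g H = H) (hv : v ∈ H) : g * v * g⁻¹ ∈ H := by
  have := conj_mem_cj (c := g) hv
  rwa [h] at this

include d in
theorem cj_mem' {g v : G} {H : Subgroup G} (h : cj g H = H) (hv : v ∈ H) : g⁻¹ * v * g ∈ H := by
  rw [← mem_cj, h]; exact hv

/-- conjugates of the root elements -/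
theorem conj_u {g : G} (hg : g ∈ M) (hR : cj g d.R0 = d.R0) {y : G} (hy : y ∈ M) {a : K}
    (hya : d.Act y (u a).1) : ∃ b, d.Act (g * y * g⁻¹) (u b).1 := by
  obtain ⟨B, hB⟩ := d.conj_act hg hy hya
  obtain ⟨r, hr, r1, r2, r3⟩ := d.exists_v 1 0 0 (map_one σ) (map_zero σ)
  have hr0 : r ∈ d.R0 := ⟨hr, r2, r3⟩
  have hfix : (g * y * g⁻¹) * r * (g * y * g⁻¹)⁻¹ = r := by
    have h1 := cj_mem' d hR hr0
    have h2 := d.fix_of_mem_R0 h1 hy hya
    calc (g * y * g⁻¹) * r * (g * y * g⁻¹)⁻¹ = g * (y * (g⁻¹ * r * g) * y⁻¹) * g⁻¹ := by group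
      _ = r := by rw [h2]; group
  have c1 := hB.Y hr
  have c2 := hB.X hr
  rw [hfix, r1, r2, r3] at c1 c2
  simp only [map_zero, mul_zero, add_zero, mul_one, zero_mul] at c1 c2
  have e0 : B.1 0 0 ≠ 0 := by
    intro h0
    rw [h0, zero_mul] at c2
    exact one_ne_zero c2
  have e1 : B.1 1 0 = 0 := by
    rcases mul_eq_zero.mp c1.symm with h | h
    · exact absurd h e0
    · exact (map_eq_zero σ).mp h
  have hM : g * y * g⁻¹ ∈ M := M.mul_mem (M.mul_mem hg hy) (M.inv_mem hg)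
  have hBB : B * B = 1 := by
    have h2 : d.Act (y * y) (1 : Matrix.SpecialLinearGroup (Fin 2) K).1 := by
      have := hya.mulS hya hy
      rwa [u_mul, CharTwo.add_self_eq_zero, u_zero] at this
    have h3 : y * y ∈ centralizer (V : Set G) := (act_one_iff (M.mul_mem hy hy)).mp h2
    have h4 := d.cen_conj hg h3
    have hM2 : g * (y * y) * g⁻¹ ∈ M := M.mul_mem (M.mul_mem hg (M.mul_mem hy hy)) (M.inv_mem hg)
    have h5 : d.Act (g * (y * y) * g⁻¹) (1 : Matrix.SpecialLinearGroup (Fin 2) K).1 :=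
      (act_one_iff hM2).mpr h4
    have h6 := hB.mulS hB hM
    have e : g * y * g⁻¹ * (g * y * g⁻¹) = g * (y * y) * g⁻¹ := by group
    rw [e] at h6
    exact d.act_faithful h6 h5 hM2
  have e2 : B.1 0 0 = 1 := by
    apply sq_one
    have := congrFun (congrFun (congrArg Subtype.val hBB) 0) 0
    simpa [Matrix.mul_apply, Fin.sum_univ_two, e1] using this
  have e3 : B.1 1 1 = 1 := by
    have hdet := B.2
    rw [Matrix.det_fin_two, e1, mul_zero, sub_zero, e2, one_mul] at hdet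
    exact hdet
  refine ⟨B.1 0 1, ?_⟩
  have e4 : B = u (B.1 0 1) := by
    apply Subtype.ext
    ext i j
    fin_cases i <;> fin_cases j
    · simpa [u] using e2
    · simp [u]
    · simpa [u] using e1
    · simpa [u] using e3
  rw [← e4]
  exact hB

/-- `g` normalising `R0` normalises `E0 = R0^⊥` -/
theorem nor_E0 {g : G} (hg : g ∈ M) (hR : cj g d.R0 = d.R0) {v : G} (hv : v ∈ V) (hZ : d.Z v = 0) :
    d.Z (g * v * g⁻¹) = 0 := by
  obtain ⟨y, hy, hya⟩ := d.exists_act (u 1)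
  obtain ⟨b, hb⟩ := conj_u d hg hR hy hya
  have hM : g * y * g⁻¹ ∈ M := M.mul_mem (M.mul_mem hg hy) (M.inv_mem hg)
  have hgv := d.conj_mem' hg hv
  have hb0 : b ≠ 0 := by
    rintro rfl
    rw [u_zero] at hb
    have h2 : g * y * g⁻¹ ∈ centralizer (V : Set G) := (act_one_iff hM).mp hb
    have h3 := d.cen_conj (M.inv_mem hg) h2
    have h4 : g⁻¹ * (g * y * g⁻¹) * g⁻¹⁻¹ = y := by group
    rw [h4] at h3
    have h5 : d.Act y (1 : Matrix.SpecialLinearGroup (Fin 2) K).1 := (act_one_iff hy).mpr h3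
    exact one_ne_u one_ne_zero (d.act_faithful h5 hya hy).symm
  -- `[y, v] ∈ R0`
  have hr : y * v * y⁻¹ * v⁻¹ ∈ d.R0 := by
    have h1 := d.conj_mem' hy hv
    refine ⟨V.mul_mem h1 (V.inv_mem hv), ?_, ?_⟩
    · rw [d.Y_mul h1 (V.inv_mem hv), d.inv_eq hv, d.u_Y hya hv, hZ, mul_zero, add_zero,
        CharTwo.add_self_eq_zero]
    · rw [d.Z_mul h1 (V.inv_mem hv), d.inv_eq hv, d.u_Z hya hv, CharTwo.add_self_eq_zero]
  have hr2 := cj_mem d hR hr
  have h3 : (g * y * g⁻¹) * (g * v * g⁻¹) * (g * y * g⁻¹)⁻¹ = (g * (y * v * y⁻¹ * v⁻¹) * g⁻¹) * (g * v * g⁻¹) := by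
    group
  have h4 := d.u_Y hb hgv
  rw [h3, d.Y_mul hr2.1 hgv, hr2.2.1, zero_add] at h4
  have h5 : b * d.Z (g * v * g⁻¹) = 0 := left_eq_add.mp h4
  exact (mul_eq_zero.mp h5).resolve_left hb0

/-- `g` normalising `Roo` normalises `Roo^⊥` -/
theorem nor_Eoo {g : G} (hg : g ∈ M) (hR : cj g d.Roo = d.Roo) {v : G} (hv : v ∈ V) (hX : d.X v = 0) :
    d.X (g * v * g⁻¹) = 0 := by
  obtain ⟨m, hm, hma⟩ := d.exists_act w
  have hmR := d.w_R0 hm hma
  have w1 : (w * w : Matrix.SpecialLinearGroup (Fin 2) K) = 1 := by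
    apply Subtype.ext
    simp only [Matrix.SpecialLinearGroup.coe_mul, Matrix.SpecialLinearGroup.coe_one]
    ext i j
    fin_cases i <;> fin_cases j <;> simp [w, Matrix.mul_apply, Fin.sum_univ_two]
  have w2 : (w : Matrix.SpecialLinearGroup (Fin 2) K)⁻¹ = w := inv_eq_of_mul_eq_one_left w1
  have hmi := hma.inv hm
  rw [w2] at hmi
  -- `Z (m⁻¹ v m) = X v`
  have hZX : ∀ v ∈ V, d.Z (m⁻¹ * v * m) = d.X v := by
    intro v hv
    have h1 := hmi.Z hv
    rw [inv_inv] at h1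
    simpa [w] using h1
  have hgm : m⁻¹ * g * m ∈ M := M.mul_mem (M.mul_mem (M.inv_mem hm) hg) hm
  have hRm : cj (m⁻¹ * g * m) d.R0 = d.R0 := by
    rw [cj_mul, cj_mul, hmR, hR, ← hmR, cj_inv_cj]
  have hv' : m⁻¹ * v * m ∈ V := by
    have := d.conj_mem' (M.inv_mem hm) hv
    rwa [inv_inv] at this
  have h1 := nor_E0 d hgm hRm hv' (by rw [hZX v hv, hX])
  have h2 : m⁻¹ * g * m * (m⁻¹ * v * m) * (m⁻¹ * g * m)⁻¹ = m⁻¹ * (g * v * g⁻¹) * m := by group
  rw [h2, hZX _ (d.conj_mem' hg hv)] at h1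
  exact h1

/-- `X, Y, Z` of an element of `V` with given coordinates -/
theorem eq_mul {v a b c : G} (hv : v ∈ V) (ha : a ∈ V) (hb : b ∈ V) (hc : c ∈ V)
    (hX : d.X v = d.X a + d.X b + d.X c) (hY : d.Y v = d.Y a + d.Y b + d.Y c)
    (hZ : d.Z v = d.Z a + d.Z b + d.Z c) : v = a * b * c := by
  apply d.ext hv (V.mul_mem (V.mul_mem ha hb) hc)
  · rw [hX, d.X_mul (V.mul_mem ha hb) hc, d.X_mul ha hb]
  · rw [hY, d.Y_mul (V.mul_mem ha hb) hc, d.Y_mul ha hb]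
  · rw [hZ, d.Z_mul (V.mul_mem ha hb) hc, d.Z_mul ha hb]

/-- an additive isometry of the norm form fixing `1` is `1` or `σ` -/
theorem iso_cases (d : Co K σ M V) (β : K → K) (hadd : ∀ a b, β (a + b) = β a + β b) (h1 : β 1 = 1)
    (hN : ∀ a, β a * σ (β a) = a * σ a) : (∀ a, β a = a) ∨ (∀ a, β a = σ a) := by
  have h2 : (2 : K) = 0 := CharTwo.two_eq_zero
  have htr : ∀ a, β a + σ (β a) = a + σ a := by
    intro a
    have e1 := hN (a + 1)
    rw [hadd, h1, map_add, map_add, map_one] at e1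
    linear_combination e1 - hN a
  have hor : ∀ a, β a = a ∨ β a = σ a := by
    intro a
    have e1 : (β a - a) * (β a - σ a) = 0 := by
      linear_combination (β a) * htr a - hN a
    rcases mul_eq_zero.mp e1 with h | h
    · left; exact sub_eq_zero.mp h
    · right; exact sub_eq_zero.mp h
  by_contra hcon
  rw [not_or, not_forall, not_forall] at hcon
  obtain ⟨⟨a, ha⟩, ⟨b, hb⟩⟩ := hcon
  have ha' := (hor a).resolve_left ha
  have hb' := (hor b).resolve_right hb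
  rcases hor (a + b) with h | h
  · rw [hadd, hb'] at h
    exact ha (add_right_cancel h)
  · rw [hadd, ha', map_add] at h
    exact hb (add_left_cancel h)

/-- **the elements of `M ∩ C(R0) ∩ N(Roo)`** -/
theorem diag {g : G} (hg : g ∈ M) (hc : ∀ r ∈ d.R0, g * r * g⁻¹ = r) (hoo : cj g d.Roo = d.Roo) :
    ∃ κ : K, κ ≠ 0 ∧ ∃ β : K → K, ((∀ a, β a = a) ∨ (∀ a, β a = σ a)) ∧
      ∀ v ∈ V, d.X (g * v * g⁻¹) = d.X v ∧ d.Y (g * v * g⁻¹) = κ * β (d.Y v) ∧
        d.Z (g * v * g⁻¹) = κ * σ κ * d.Z v := by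
  have h2 : (2 : K) = 0 := CharTwo.two_eq_zero
  have hR : cj g d.R0 = d.R0 := by
    ext x
    rw [mem_cj]
    constructor
    · intro h
      have h1 := hc _ h
      have h3 : g * (g⁻¹ * x * g) * g⁻¹ = x := by group
      rw [h3] at h1
      rw [h1]; exact h
    · intro h
      have h1 := hc _ h
      have h3 : g⁻¹ * x * g = g⁻¹ * (g * x * g⁻¹) * g := by rw [h1]
      have h4 : g⁻¹ * (g * x * g⁻¹) * g = x := by group
      rw [h3, h4]; exact h
  choose vy hvy vyX vyY vyZ using fun y : K => d.exists_v 0 y 0 (map_zero σ) (map_zero σ)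
  choose vz hvz vzX vzY vzZ using fun z : {z : K // σ z = z} => d.exists_v 0 0 z.1 (map_zero σ) z.2
  choose vx hvx vxX vxY vxZ using fun z : {z : K // σ z = z} => d.exists_v z.1 0 0 z.2 (map_zero σ)
  choose y hy hya using fun a : K => d.exists_act (u a)
  choose φ hφ using fun a : K => conj_u d hg hR (hy a) (hya a)
  have hM : ∀ a, g * y a * g⁻¹ ∈ M := fun a => M.mul_mem (M.mul_mem hg (hy a)) (M.inv_mem hg)
  -- the three parts
  have gX : ∀ z, g * vx z * g⁻¹ = vx z := fun z => hc _ ⟨hvx z, vxY z, vxZ z⟩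
  have gy1 : ∀ t, d.X (g * vy t * g⁻¹) = 0 := fun t => nor_Eoo d hg hoo (hvy t) (vyX t)
  have gy3 : ∀ t, d.Z (g * vy t * g⁻¹) = 0 := fun t => nor_E0 d hg hR (hvy t) (vyZ t)
  have gz : ∀ z, g * vz z * g⁻¹ ∈ d.Roo := fun z => cj_mem d hoo ⟨hvz z, vzX z, vzY z⟩
  set g2 : K → K := fun t => d.Y (g * vy t * g⁻¹) with hg2
  have g2add : ∀ a b, g2 (a + b) = g2 a + g2 b := by
    intro a b
    have h1 : vy (a + b) = vy a * vy b := by
      apply d.ext (hvy _) (V.mul_mem (hvy a) (hvy b))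
      · rw [d.X_mul (hvy a) (hvy b), vyX, vyX, vyX, add_zero]
      · rw [d.Y_mul (hvy a) (hvy b), vyY, vyY, vyY]
      · rw [d.Z_mul (hvy a) (hvy b), vyZ, vyZ, vyZ, add_zero]
    have h3 : g * (vy a * vy b) * g⁻¹ = (g * vy a * g⁻¹) * (g * vy b * g⁻¹) := by group
    simp only [hg2]
    rw [h1, h3, d.Y_mul (d.conj_mem' hg (hvy a)) (d.conj_mem' hg (hvy b))]
  -- the key relation
  have key : ∀ (a : K) (z : {z : K // σ z = z}),
      a * σ a * z.1 = φ a * σ (φ a) * d.Z (g * vz z * g⁻¹) ∧ g2 (a * z.1) = φ a * d.Z (g * vz z * g⁻¹) := by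
    intro a z
    have hs : σ (a * σ a * z.1) = a * σ a * z.1 := by
      rw [map_mul, map_mul, d.inv, z.2]; ring
    have h1 : y a * vz z * (y a)⁻¹ = vx ⟨a * σ a * z.1, hs⟩ * vy (a * z.1) * vz z := by
      apply eq_mul d (d.conj_mem' (hy a) (hvz z)) (hvx _) (hvy _) (hvz z)
      · rw [d.u_X (hya a) (hvz z), vzX, vzY, vzZ, vxX, vyX]
        simp
      · rw [d.u_Y (hya a) (hvz z), vzY, vzZ, vxY, vyY]
        ring
      · rw [d.u_Z (hya a) (hvz z), vzZ, vxZ, vyZ]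
        ring
    have h3 : (g * y a * g⁻¹) * (g * vz z * g⁻¹) * (g * y a * g⁻¹)⁻¹ =
        (g * vx ⟨a * σ a * z.1, hs⟩ * g⁻¹) * (g * vy (a * z.1) * g⁻¹) * (g * vz z * g⁻¹) := by
      calc (g * y a * g⁻¹) * (g * vz z * g⁻¹) * (g * y a * g⁻¹)⁻¹ = g * (y a * vz z * (y a)⁻¹) * g⁻¹ := by group
        _ = _ := by rw [h1]; group
    have hgy := d.conj_mem' hg (hvy (a * z.1))
    have hgz := (gz z).1
    have h4 := d.u_X (hφ a) hgz
    have h5 := d.u_Y (hφ a) hgz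
    rw [h3, gX, d.X_mul (V.mul_mem (hvx _) hgy) hgz, d.X_mul (hvx _) hgy, gy1, (gz z).2.1, (gz z).2.2, vxX] at h4
    rw [h3, gX, d.Y_mul (V.mul_mem (hvx _) hgy) hgz, d.Y_mul (hvx _) hgy, (gz z).2.2, vxY] at h5
    simp only [map_zero, mul_zero, zero_mul, add_zero, zero_add] at h4 h5
    exact ⟨h4, h5⟩
  set e := d.Z (g * vz ⟨1, map_one σ⟩ * g⁻¹) with he
  have key1 : ∀ a, a * σ a = φ a * σ (φ a) * e ∧ g2 a = φ a * e := by
    intro a
    have := key a ⟨1, map_one σ⟩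
    simpa using this
  have hse : σ e = e := d.sZ (gz _).1
  have hN : ∀ a, g2 a * σ (g2 a) = e * (a * σ a) := by
    intro a
    rw [(key1 a).2, (key1 a).1, map_mul, hse]; ring
  have he0 : e ≠ 0 := by
    intro h0
    have := (key1 1).1
    rw [h0, map_one, mul_one, mul_zero] at this
    exact one_ne_zero this
  have hκ := hN 1
  rw [map_one, mul_one, mul_one] at hκ
  have hκ0 : g2 1 ≠ 0 := by
    intro h0
    rw [h0, zero_mul] at hκ
    exact he0 hκ.symm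
  have hsκ0 : σ (g2 1) ≠ 0 := by
    intro h0
    exact hκ0 ((map_eq_zero σ).mp h0)
  have hβ := iso_cases d (fun a => (g2 1)⁻¹ * g2 a) (fun a b => by rw [g2add]; ring)
    (inv_mul_cancel₀ hκ0) (fun a => by
      rw [map_mul, map_inv₀]
      have : (g2 1)⁻¹ * g2 a * ((σ (g2 1))⁻¹ * σ (g2 a)) = (g2 a * σ (g2 a)) * (g2 1 * σ (g2 1))⁻¹ := by
        field_simp
      rw [this, hN, hκ]
      field_simp)
  refine ⟨g2 1, hκ0, fun a => (g2 1)⁻¹ * g2 a, hβ, ?_⟩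
  have hβk : ∀ z, σ z = z → g2 z = g2 1 * z := by
    intro z hz
    have h3 : (g2 1)⁻¹ * g2 z = z := by
      rcases hβ with h | h
      · exact h z
      · exact (h z).trans hz
    rwa [inv_mul_eq_iff_eq_mul₀ hκ0] at h3
  have g3 : ∀ z : {z : K // σ z = z}, d.Z (g * vz z * g⁻¹) = e * z.1 := by
    intro z
    have h3 := (key 1 z).2
    have h4 := (key1 1).2
    rw [one_mul, hβk z.1 z.2, h4] at h3
    have hφ1 : φ 1 ≠ 0 := by
      intro h0
      rw [h0, zero_mul] at h4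
      exact hκ0 h4
    have : φ 1 * (e * z.1) = φ 1 * d.Z (g * vz z * g⁻¹) := by rw [← h3]; ring
    exact (mul_left_cancel₀ hφ1 this).symm
  intro v hv
  have h1 : v = vx ⟨d.X v, d.sX hv⟩ * vy (d.Y v) * vz ⟨d.Z v, d.sZ hv⟩ := by
    apply eq_mul d hv (hvx _) (hvy _) (hvz _)
    · rw [vxX, vyX, vzX]; ring
    · rw [vxY, vyY, vzY]; ring
    · rw [vxZ, vyZ, vzZ]; ring
  have h3 : g * v * g⁻¹ = (g * vx ⟨d.X v, d.sX hv⟩ * g⁻¹) * (g * vy (d.Y v) * g⁻¹) *
      (g * vz ⟨d.Z v, d.sZ hv⟩ * g⁻¹) := by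
    conv_lhs => rw [h1]
    group
  have hgy := d.conj_mem' hg (hvy (d.Y v))
  have hgz := (gz ⟨d.Z v, d.sZ hv⟩).1
  rw [h3, gX, d.X_mul (V.mul_mem (hvx _) hgy) hgz, d.X_mul (hvx _) hgy, d.Y_mul (V.mul_mem (hvx _) hgy) hgz,
    d.Y_mul (hvx _) hgy, d.Z_mul (V.mul_mem (hvx _) hgy) hgz, d.Z_mul (hvx _) hgy, gy1, gy3, (gz _).2.1,
    (gz _).2.2, vxX, vxY, vxZ, g3]
  refine ⟨by ring, ?_, ?_⟩
  · change 0 + g2 (d.Y v) + 0 = g2 1 * ((g2 1)⁻¹ * g2 (d.Y v))
    field_simp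
    ring
  · rw [hκ]; ring

theorem cj_of_fix {g : G} {H : Subgroup G} (hc : ∀ r ∈ H, g * r * g⁻¹ = r) : cj g H = H := by
  ext x
  rw [mem_cj]
  constructor
  · intro h
    have h1 := hc _ h
    have h3 : g * (g⁻¹ * x * g) * g⁻¹ = x := by group
    rw [h3] at h1
    rw [h1]; exact h
  · intro h
    have h1 := hc _ h
    have h3 : g⁻¹ * x * g = g⁻¹ * (g * x * g⁻¹) * g := by rw [h1]
    have h4 : g⁻¹ * (g * x * g⁻¹) * g = x := by group
    rw [h3, h4]; exact h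

/-- **the elements of `M ∩ C(R0)`** -/
theorem struct [Finite G] {g : G} (hg : g ∈ M) (hc : ∀ r ∈ d.R0, g * r * g⁻¹ = r) :
    ∃ (b κ : K) (β : K → K), κ ≠ 0 ∧ ((∀ a, β a = a) ∨ (∀ a, β a = σ a)) ∧
      (∀ v ∈ V, d.Z v = 0 → d.Y (g * v * g⁻¹) = κ * β (d.Y v)) ∧
      (κ = 1 → (∀ a, β a = a) → d.Act g (u b).1) := by
  obtain ⟨m, hm, hma⟩ := d.exists_act w
  have hmR := d.w_R0 hm hma
  have hgR := cj_of_fix hc
  have hne : cj (g * m) d.R0 ≠ d.R0 := by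
    intro h
    rw [cj_mul, hmR] at h
    have h1 : cj g⁻¹ (cj g d.Roo) = cj g⁻¹ d.R0 := by rw [h]
    rw [cj_inv_cj] at h1
    have h3 : cj g⁻¹ d.R0 = d.R0 := by
      conv_lhs => rw [← hgR]
      rw [cj_inv_cj]
    rw [h3] at h1
    exact d.R0_ne_Roo h1.symm
  obtain ⟨b, hb⟩ := d.two_trans (M.mul_mem hg hm) hne
  obtain ⟨k, hk, hka⟩ := d.exists_act (u b)
  have h1 := hb k hk hka
  rw [cj_mul, hmR] at h1
  have hki := M.inv_mem hk
  have hfk : ∀ r ∈ d.R0, k * r * k⁻¹ = r := fun r hr => d.fix_of_mem_R0 hr hk hka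
  have hg' : k⁻¹ * g ∈ M := M.mul_mem hki hg
  have hoo : cj (k⁻¹ * g) d.Roo = d.Roo := by
    rw [cj_mul, h1, cj_inv_cj]
  have hc' : ∀ r ∈ d.R0, (k⁻¹ * g) * r * (k⁻¹ * g)⁻¹ = r := by
    intro r hr
    have h2 : (k⁻¹ * g) * r * (k⁻¹ * g)⁻¹ = k⁻¹ * (g * r * g⁻¹) * k := by group
    have h3 : k⁻¹ * (k * r * k⁻¹) * k = r := by group
    rw [h2, hc r hr]
    conv_lhs => rw [← hfk r hr]
    exact h3
  obtain ⟨κ, hκ, β, hβ, hdg⟩ := diag d hg' hc' hoo
  have hgk : ∀ v, g * v * g⁻¹ = k * ((k⁻¹ * g) * v * (k⁻¹ * g)⁻¹) * k⁻¹ := fun v => by group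
  refine ⟨b, κ, β, hκ, hβ, ?_, ?_⟩
  · intro v hv hZ
    rw [hgk, d.u_Y hka (d.conj_mem' hg' hv), (hdg v hv).2.1, (hdg v hv).2.2, hZ, mul_zero, mul_zero, add_zero]
  · intro h2 h3
    apply hka.congr
    intro v hv
    rw [hgk]
    have : (k⁻¹ * g) * v * (k⁻¹ * g)⁻¹ = v := by
      obtain ⟨e1, e2, e3⟩ := hdg v hv
      apply d.ext (d.conj_mem' hg' hv) hv e1
      · rw [e2, h2, h3, one_mul]
      · rw [e3, h2, map_one, one_mul, one_mul]
    rw [this]

/-- **(S_U)** -/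
theorem act_of_triv [Finite G] {g : G} (hg : g ∈ M) (hc : ∀ r ∈ d.R0, g * r * g⁻¹ = r)
    (ht : ∀ v ∈ V, d.Z v = 0 → d.Y (g * v * g⁻¹) = d.Y v) : ∃ b, d.Act g (u b).1 := by
  obtain ⟨b, κ, β, hκ, hβ, h1, h2⟩ := struct d hg hc
  have h3 : ∀ y, κ * β y = y := by
    intro y
    obtain ⟨v, hv, -, e2, e3⟩ := d.exists_v 0 y 0 (map_zero σ) (map_zero σ)
    have := h1 v hv e3
    rw [ht v hv e3, e2] at this
    exact this.symm
  have hβ1 : β 1 = 1 := by
    rcases hβ with h | h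
    · exact h 1
    · rw [h 1, map_one]
  have hκ1 : κ = 1 := by
    have := h3 1
    rwa [hβ1, mul_one] at this
  refine ⟨b, h2 hκ1 fun a => ?_⟩
  have := h3 a
  rwa [hκ1, one_mul] at this

/-- `g` acts on `E0 / R0` as the multiplication by `κ`; if it has 2-power order, it is trivial there -/
theorem triv_of_scalar {g : G} (hg : g ∈ M) (hc : ∀ r ∈ d.R0, g * r * g⁻¹ = r) {κ : K}
    (h1 : ∀ v ∈ V, d.Z v = 0 → d.Y (g * v * g⁻¹) = κ * d.Y v) {n : ℕ} (hn : g ^ 2 ^ n = 1) : κ = 1 := by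
  have hgR := cj_of_fix hc
  have hpow : ∀ m : ℕ, ∀ v ∈ V, d.Z v = 0 → d.Z (g ^ m * v * (g ^ m)⁻¹) = 0 ∧ g ^ m * v * (g ^ m)⁻¹ ∈ V ∧
      d.Y (g ^ m * v * (g ^ m)⁻¹) = κ ^ m * d.Y v := by
    intro m
    induction m with
    | zero => intro v hv hZ; simp [hv, hZ]
    | succ m ih =>
      intro v hv hZ
      obtain ⟨i1, i2, i3⟩ := ih v hv hZ
      have e : g ^ (m + 1) * v * (g ^ (m + 1))⁻¹ = g * (g ^ m * v * (g ^ m)⁻¹) * g⁻¹ := by
        rw [pow_succ']; group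
      rw [e]
      refine ⟨nor_E0 d hg hgR i2 i1, d.conj_mem' hg i2, ?_⟩
      rw [h1 _ i2 i1, i3, pow_succ']; ring
  obtain ⟨v, hv, -, e2, e3⟩ := d.exists_v 0 1 0 (map_zero σ) (map_zero σ)
  have h2 := (hpow (2 ^ n) v hv e3).2.2
  rw [hn, one_mul, inv_one, mul_one, e2, mul_one] at h2
  have h3 : ∀ n : ℕ, κ ^ 2 ^ n = 1 → κ = 1 := by
    intro n
    induction n with
    | zero => intro h; simpa using h
    | succ n ih =>
      intro h
      apply ih
      apply sq_one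
      rw [← pow_two, ← pow_mul, ← pow_succ]
      exact h
  exact h3 n h2.symm

/-- **(S_2)** -/
theorem two_cases [Finite G] {P : Subgroup G} (hP : IsPGroup 2 P) (hPM : P ≤ M) {s t : G} (hs : s ∈ P)
    (ht : t ∈ P) (hsc : ∀ r ∈ d.R0, s * r * s⁻¹ = r) (htc : ∀ r ∈ d.R0, t * r * t⁻¹ = r) :
    (∀ v ∈ V, d.Z v = 0 → d.Y (s * v * s⁻¹) = d.Y v) ∨ (∀ v ∈ V, d.Z v = 0 → d.Y (t * v * t⁻¹) = d.Y v) ∨
      (∀ v ∈ V, d.Z v = 0 → d.Y ((s * t) * v * (s * t)⁻¹) = d.Y v) := by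
  have hpow : ∀ g ∈ P, ∃ n : ℕ, g ^ 2 ^ n = 1 := by
    intro g hg
    obtain ⟨n, hn⟩ := hP ⟨g, hg⟩
    exact ⟨n, by simpa using congrArg Subtype.val hn⟩
  have hlin : ∀ g ∈ P, (∀ r ∈ d.R0, g * r * g⁻¹ = r) → ∀ κ : K,
      (∀ v ∈ V, d.Z v = 0 → d.Y (g * v * g⁻¹) = κ * d.Y v) → ∀ v ∈ V, d.Z v = 0 → d.Y (g * v * g⁻¹) = d.Y v := by
    intro g hg hc κ h1 v hv hZ
    obtain ⟨n, hn⟩ := hpow g hg
    have := triv_of_scalar d (hPM hg) hc h1 hn
    rw [h1 v hv hZ, this, one_mul]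
  obtain ⟨b, κ, β, hκ, hβ, h1, -⟩ := struct d (hPM hs) hsc
  obtain ⟨b', κ', β', hκ', hβ', h1', -⟩ := struct d (hPM ht) htc
  rcases hβ with hβ | hβ
  · left
    exact hlin s hs hsc κ fun v hv hZ => by rw [h1 v hv hZ, hβ]
  rcases hβ' with hβ' | hβ'
  · right; left
    exact hlin t ht htc κ' fun v hv hZ => by rw [h1' v hv hZ, hβ']
  right; right
  have hstc : ∀ r ∈ d.R0, (s * t) * r * (s * t)⁻¹ = r := by
    intro r hr
    have e : (s * t) * r * (s * t)⁻¹ = s * (t * r * t⁻¹) * s⁻¹ := by group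
    rw [e, htc r hr, hsc r hr]
  refine hlin (s * t) (P.mul_mem hs ht) hstc (κ * σ κ') fun v hv hZ => ?_
  have e : (s * t) * v * (s * t)⁻¹ = s * (t * v * t⁻¹) * s⁻¹ := by group
  rw [e, h1 _ (d.conj_mem' (hPM ht) hv) (nor_E0 d (hPM ht) (cj_of_fix htc) hv hZ), h1' v hv hZ, hβ, hβ',
    map_mul, d.inv]
  ring

end Cfsg.Agent.Omega.NOne.SU.CoAct

end
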