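import Mathlib
import Cfsg.Agent.Mrg.Omega.NO1.Beta.Rep

section


/-!
# Case NO-1, type (beta), after THEOREM BETA: `Q i ⊓ Q j ≤ V`

(#12337 (8), field-free.) `V` is the natural module `O₄⁻(q)`, `R i` its singular points, `Q i = O₂(N(R i))`, special with
centre `R i`. Then `Q i ⊓ Q j ≤ V` for `i ≠ j`; the groups `(Q i ⊓ C(V)) V / V` form a (partial) spread of the
elementary abelian group `L / V`, and the elements of `Q i` outside `C(V)` induce bijections between its members.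
-/

set_option autoImplicit false
set_option linter.unusedVariables false

open Subgroup
open scoped Pointwise

namespace Cfsg.Agent.Omega.NO1.Beta.Meet

variable {G : Type*} [Group G]

/-- conjugate subgroup `c H c⁻¹` -/
abbrev cj (c : G) (H : Subgroup G) : Subgroup G := MulAut.conj c • H

theorem mem_cj {c x : G} {H : Subgroup G} : x ∈ cj c H ↔ c⁻¹ * x * c ∈ H := by
  rw [cj, Subgroup.mem_pointwise_smul_iff_inv_smul_mem, ← map_inv, MulAut.smul_def, MulAut.conj_apply,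
    inv_inv]

theorem conj_mem_cj {c x : G} {H : Subgroup G} (h : x ∈ H) : c * x * c⁻¹ ∈ cj c H := by
  rw [mem_cj]
  have : c⁻¹ * (c * x * c⁻¹) * c = x := by group
  rwa [this]

theorem cj_mul (c d : G) (H : Subgroup G) : cj (c * d) H = cj c (cj d H) := by
  rw [cj, map_mul, mul_smul]

theorem cj_inj {c : G} {H K : Subgroup G} (h : cj c H = cj c K) : H = K := by
  have := congrArg (fun X : Subgroup G => (MulAut.conj c)⁻¹ • X) h
  simpa [cj] using this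

theorem cj_eq_of_comm {c : G} {H : Subgroup G} (h : ∀ x ∈ H, c * x = x * c) : cj c H = H := by
  ext x
  rw [mem_cj]
  constructor
  · intro hx
    have h1 := h _ hx
    have h2 : x = c⁻¹ * x * c := by
      have : c * (c⁻¹ * x * c) = x * c := by group
      rw [this] at h1
      exact mul_right_cancel h1
    rw [h2]; exact hx
  · intro hx
    have h1 := h _ hx
    have : c⁻¹ * x * c = x := by rw [mul_assoc, ← h1]; group
    rwa [this]

theorem cj_eq_of_mem {c : G} {H : Subgroup G} (h : c ∈ H) : cj c H = H := by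
  ext x
  rw [mem_cj]
  constructor
  · intro hx
    have := H.mul_mem (H.mul_mem h hx) (H.inv_mem h)
    have h2 : c * (c⁻¹ * x * c) * c⁻¹ = x := by group
    rwa [h2] at this
  · intro hx
    exact H.mul_mem (H.mul_mem (H.inv_mem h) hx) h

theorem mem_normalizer_of_cj {c : G} {H : Subgroup G} (h : cj c H = H) : c ∈ normalizer (H : Set G) := by
  rw [mem_normalizer_iff]
  intro x
  constructor
  · intro hx
    have := conj_mem_cj (c := c) hx
    rwa [h] at this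
  · intro hx
    have : c * x * c⁻¹ ∈ cj c H := by rw [h]; exact hx
    rw [mem_cj] at this
    have h2 : c⁻¹ * (c * x * c⁻¹) * c = x := by group
    rwa [h2] at this

theorem cj_of_mem_normalizer {c : G} {H : Subgroup G} (h : c ∈ normalizer (H : Set G)) : cj c H = H := by
  ext x
  rw [mem_cj]
  have := (mem_normalizer_iff.mp h (c⁻¹ * x * c))
  have h2 : c * (c⁻¹ * x * c) * c⁻¹ = x := by group
  rw [h2] at this
  exact this

/-! ### surjectivity of `x ↦ x⁻¹ x^φ` -/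

/-- If `x ↦ x⁻¹ φ(x)` has trivial kernel on the finite group `H / N`, it is onto. -/
theorem exists_of_fpf {H N : Subgroup G} [Finite ↥H] (t : G) (hH : ∀ h ∈ H, t * h * t⁻¹ ∈ H)
    (hN : ∀ h ∈ N, t * h * t⁻¹ ∈ N) (hnor : ∀ h ∈ H, ∀ n ∈ N, h * n * h⁻¹ ∈ N)
    (hfp : ∀ h ∈ H, h⁻¹ * (t * h * t⁻¹) ∈ N → h ∈ N) :
    ∀ h ∈ H, ∃ g ∈ H, ∃ n ∈ N, h = g⁻¹ * (t * g * t⁻¹) * n := by
  classical
  let N' : Subgroup ↥H := N.subgroupOf H
  have : N'.Normal := ⟨fun n hn g => by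
    rw [mem_subgroupOf] at hn ⊢
    exact hnor _ g.2 _ hn⟩
  let φ : ↥H →* ↥H :=
    { toFun := fun h => ⟨t * h * t⁻¹, hH _ h.2⟩
      map_one' := by ext; simp
      map_mul' := fun a b => by ext; simp [mul_assoc] }
  have hφ : N' ≤ N'.comap φ := by
    intro n hn
    rw [mem_comap, mem_subgroupOf]
    rw [mem_subgroupOf] at hn
    exact hN _ hn
  let ψ : ↥H ⧸ N' →* ↥H ⧸ N' := QuotientGroup.map N' N' φ hφ
  have hinj : Function.Injective (fun x : ↥H ⧸ N' => x⁻¹ * ψ x) := by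
    intro x y hxy
    have hxy' : x⁻¹ * ψ x = y⁻¹ * ψ y := hxy
    have h1 : ψ (x * y⁻¹) = x * y⁻¹ := by
      rw [map_mul, map_inv]
      have : ψ x = x * (y⁻¹ * ψ y) := by rw [← hxy']; group
      rw [this]; group
    obtain ⟨g, hg⟩ := QuotientGroup.mk_surjective (x * y⁻¹)
    have h2 : (((g⁻¹ * φ g : ↥H)) : ↥H ⧸ N') = 1 := by
      have h3 : ((φ g : ↥H) : ↥H ⧸ N') = ψ (g : ↥H ⧸ N') := rfl
      rw [QuotientGroup.mk_mul, QuotientGroup.mk_inv, h3, hg, h1]; group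
    rw [QuotientGroup.eq_one_iff, mem_subgroupOf] at h2
    have h4 : (g : G) ∈ N := hfp _ g.2 (by simpa [φ] using h2)
    have h5 : ((g : ↥H) : ↥H ⧸ N') = 1 := by
      rw [QuotientGroup.eq_one_iff, mem_subgroupOf]; exact h4
    rw [hg] at h5
    exact mul_inv_eq_one.mp h5
  have hsurj := Finite.surjective_of_injective hinj
  intro h hh
  obtain ⟨x, hx⟩ := hsurj ((⟨h, hh⟩ : ↥H) : ↥H ⧸ N')
  obtain ⟨g, rfl⟩ := QuotientGroup.mk_surjective x
  have h6 : (((g⁻¹ * φ g : ↥H)) : ↥H ⧸ N') = ((⟨h, hh⟩ : ↥H) : ↥H ⧸ N') := hx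
  rw [QuotientGroup.eq, mem_subgroupOf] at h6
  refine ⟨g, g.2, _, h6, ?_⟩
  simp [φ, mul_assoc]

/-! ### The setting -/

variable {I : Type*}

/-- The output of THEOREM BETA: `Q i` is special with centre `R i`, ... -/
structure Mt (V : Subgroup G) (R Q : I → Subgroup G) : Prop where
  comm : ∀ a ∈ V, ∀ b ∈ V, a * b = b * a
  R_le : ∀ i, R i ≤ V
  R_Q : ∀ i, R i ≤ Q i
  RQ : ∀ i, ∀ r ∈ R i, ∀ y ∈ Q i, r * y = y * r
  QQ : ∀ i, ∀ y ∈ Q i, ∀ z ∈ Q i, y * z * y⁻¹ * z⁻¹ ∈ R i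
  Qsq : ∀ i, ∀ y ∈ Q i, y * y ∈ R i
  cen : ∀ i, ∀ y ∈ Q i, (∀ z ∈ Q i, y * z = z * y) → y ∈ R i
  Q_V : ∀ i, Q i ≤ normalizer (V : Set G)
  nor : ∀ i, ∀ c ∈ normalizer (R i : Set G), cj c (Q i) = Q i
  fixj : ∀ i j, i ≠ j → ∀ y ∈ Q i, cj y (R j) = R j → y ∈ centralizer (V : Set G)
  perm : ∀ i, ∀ y ∈ Q i, ∀ j, ∃ k, cj y (R j) = R k ∧ cj y (Q j) = Q k
  tran : ∀ i j k, j ≠ i → k ≠ i → ∃ y ∈ Q i, cj y (R j) = R k
  inj : ∀ i j, R i = R j → i = j
  RQj : ∀ i j, i ≠ j → R i ⊓ Q j = ⊥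
  VE : ∀ i j, i ≠ j → V ≤ (V ⊓ Q i) ⊔ R j

namespace Mt

variable {V : Subgroup G} {R Q : I → Subgroup G} (M : Mt V R Q)
include M

theorem V_le_C : V ≤ centralizer (V : Set G) := fun v hv => by
  rw [mem_centralizer_iff]
  intro w hw
  exact M.comm w hw v hv

theorem C_nor (i : I) {c : G} (hc : c ∈ centralizer (V : Set G)) : cj c (Q i) = Q i := by
  apply M.nor
  apply mem_normalizer_of_cj
  apply cj_eq_of_comm
  intro x hx
  exact ((mem_centralizer_iff.mp hc) x (M.R_le i hx)).symm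

theorem C_conj (i : I) {c x : G} (hc : c ∈ centralizer (V : Set G)) (hx : x ∈ Q i) : c * x * c⁻¹ ∈ Q i := by
  have := conj_mem_cj (c := c) hx
  rwa [M.C_nor i hc] at this

theorem Q_cent {i : I} {y : G} (hy : y ∈ Q i) {c : G} (hc : c ∈ centralizer (V : Set G)) :
    y * c * y⁻¹ ∈ centralizer (V : Set G) := by
  rw [mem_centralizer_iff] at hc ⊢
  intro v hv
  have h1 : y⁻¹ * v * y ∈ V := by
    have := (mem_normalizer_iff.mp ((normalizer (V : Set G)).inv_mem (M.Q_V i hy)) v).mp hv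
    rwa [inv_inv] at this
  have h2 := hc _ h1
  calc v * (y * c * y⁻¹) = y * ((y⁻¹ * v * y) * c) * y⁻¹ := by group
    _ = y * (c * (y⁻¹ * v * y)) * y⁻¹ := by rw [h2]
    _ = y * c * y⁻¹ * v := by group

theorem Q_V' {i : I} {y v : G} (hy : y ∈ Q i) (hv : v ∈ V) : y * v * y⁻¹ ∈ V :=
  (mem_normalizer_iff.mp (M.Q_V i hy) v).mp hv

theorem RQ' (i : I) {y : G} (hy : y ∈ Q i) : cj y (R i) = R i :=
  cj_eq_of_comm fun x hx => (M.RQ i x hx y hy).symm

/-- `Q k ⊓ Q l` centralises `V` -/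
theorem meet_le_C {k l : I} (h : k ≠ l) {f : G} (hk : f ∈ Q k) (hl : f ∈ Q l) :
    f ∈ centralizer (V : Set G) := M.fixj k l h f hk (M.RQ' l hl)

theorem move {k l : I} (h : l ≠ k) {y : G} (hy : y ∈ Q k) : ∃ m, m ≠ k ∧ cj y (R l) = R m ∧
    cj y (Q l) = Q m := by
  obtain ⟨m, h1, h2⟩ := M.perm k y hy l
  refine ⟨m, ?_, h1, h2⟩
  rintro rfl
  rw [← M.RQ' m hy] at h1
  exact h (M.inj _ _ (cj_inj h1))

theorem Q_of_R {k l m : I} {y : G} (hy : y ∈ Q k) (h : cj y (R l) = R m) : cj y (Q l) = Q m := by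
  obtain ⟨m', h1, h2⟩ := M.perm k y hy l
  have : m' = m := M.inj _ _ (h1.symm.trans h)
  rw [← this]; exact h2

/-- elements of `(Q k ⊓ Q l) V` -/
theorem mem_FF {k l : I} (h : k ≠ l) {x : G} :
    x ∈ (Q k ⊓ Q l) ⊔ V ↔ ∃ f ∈ Q k ⊓ Q l, ∃ v ∈ V, f * v = x := by
  have hn : Q k ⊓ Q l ≤ normalizer (V : Set G) := fun f hf => M.Q_V k hf.1
  have := Subgroup.coe_mul_of_left_le_normalizer_right (Q k ⊓ Q l) V hn
  rw [← SetLike.mem_coe, this, Set.mem_mul]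
  rfl

theorem FF_le {k l m : I} (hl : l ≠ k) (hm : m ≠ k) : (Q k ⊓ Q m) ⊔ V ≤ (Q k ⊓ Q l) ⊔ V := by
  rw [sup_le_iff]
  refine ⟨?_, le_sup_right⟩
  intro f hf
  obtain ⟨y, hy, hyR⟩ := M.tran k l m hl hm
  have hyQ := M.Q_of_R hy hyR
  have h1 : y⁻¹ * f * y ∈ Q l := by rw [← mem_cj, hyQ]; exact hf.2
  have h2 : y⁻¹ * f * y ∈ Q k := (Q k).mul_mem ((Q k).mul_mem ((Q k).inv_mem hy) hf.1) hy
  have h3 := M.QQ k _ hy _ h2
  rw [M.mem_FF hl.symm]
  refine ⟨y⁻¹ * f * y, ⟨h2, h1⟩, _, M.R_le k h3, ?_⟩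
  rw [← M.RQ k _ h3 _ h2]
  group

/-- the group `(Q k ⊓ Q l) V` does not depend on `k ≠ l` -/
theorem FF_all {i j k l : I} (h : i ≠ j) (h' : k ≠ l) : (Q k ⊓ Q l) ⊔ V ≤ (Q i ⊓ Q j) ⊔ V := by
  by_cases hk : k = i
  · subst hk
    exact M.FF_le h.symm h'.symm
  · calc (Q k ⊓ Q l) ⊔ V ≤ (Q k ⊓ Q i) ⊔ V := M.FF_le (Ne.symm hk) h'.symm
      _ = (Q i ⊓ Q k) ⊔ V := by rw [inf_comm]
      _ ≤ (Q i ⊓ Q j) ⊔ V := M.FF_le h.symm hk

theorem FF_eq {i j k l : I} (h : i ≠ j) (h' : k ≠ l) : (Q k ⊓ Q l) ⊔ V = (Q i ⊓ Q j) ⊔ V :=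
  le_antisymm (M.FF_all h h') (M.FF_all h' h)

/-- every `Q k` normalises `W := (Q i ⊓ Q j) V`, and acts trivially on `W / V` -/
theorem Q_W {i j : I} (h : i ≠ j) {k : I} {y w : G} (hy : y ∈ Q k) (hw : w ∈ (Q i ⊓ Q j) ⊔ V) :
    y * w * y⁻¹ * w⁻¹ ∈ V := by
  obtain ⟨l, hl⟩ : ∃ l, l ≠ k := by
    by_cases hk : k = i
    · exact ⟨j, by rw [hk]; exact h.symm⟩
    · exact ⟨i, Ne.symm hk⟩
  rw [← M.FF_eq h hl.symm, M.mem_FF hl.symm] at hw
  obtain ⟨f, hf, v, hv, rfl⟩ := hw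
  have h1 := M.QQ k _ hy _ hf.1
  have hfC := M.meet_le_C hl.symm hf.1 hf.2
  have h2 := M.Q_V' hy hv
  have h3 : (y * f * y⁻¹ * f⁻¹) * (f * ((y * v * y⁻¹) * v⁻¹) * f⁻¹) ∈ V := by
    refine V.mul_mem (M.R_le k h1) ?_
    have h4 : (y * v * y⁻¹) * v⁻¹ ∈ V := V.mul_mem h2 (V.inv_mem hv)
    have h5 := (mem_centralizer_iff.mp hfC) _ h4
    rw [← h5, mul_assoc, mul_inv_cancel, mul_one]
    exact h4
  have h6 : y * (f * v) * y⁻¹ * (f * v)⁻¹ = (y * f * y⁻¹ * f⁻¹) * (f * ((y * v * y⁻¹) * v⁻¹) * f⁻¹) := by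
    group
  rw [h6]; exact h3

theorem Q_W' {i j : I} (h : i ≠ j) {k : I} {y w : G} (hy : y ∈ Q k) (hw : w ∈ (Q i ⊓ Q j) ⊔ V) :
    y * w * y⁻¹ ∈ (Q i ⊓ Q j) ⊔ V := by
  have h1 : V ≤ (Q i ⊓ Q j) ⊔ V := le_sup_right
  have h2 := mul_mem (h1 (M.Q_W h hy hw)) hw
  have h3 : y * w * y⁻¹ * w⁻¹ * w = y * w * y⁻¹ := by group
  rwa [h3] at h2

/-- `y ∈ Q k`, `b ∈ Q l ⊓ C(V)`: `[y, b] ∈ Q k ⊓ C(V)` -/
theorem comm_mem {k l : I} {y b : G} (hy : y ∈ Q k) (hb : b ∈ Q l) (hbC : b ∈ centralizer (V : Set G)) :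
    y * b * y⁻¹ * b⁻¹ ∈ Q k ∧ y * b * y⁻¹ * b⁻¹ ∈ centralizer (V : Set G) := by
  constructor
  · have h1 := M.C_conj k hbC ((Q k).inv_mem hy)
    have h2 : y * b * y⁻¹ * b⁻¹ = y * (b * y⁻¹ * b⁻¹) := by group
    rw [h2]
    exact (Q k).mul_mem hy h1
  · exact mul_mem (M.Q_cent hy hbC) (inv_mem hbC)

/-- two elements of the `Q k ⊓ C(V)` commute modulo `W` -/
theorem comm_AA {i j : I} (h : i ≠ j) {k l : I} {a b : G} (ha : a ∈ Q k) (haC : a ∈ centralizer (V : Set G))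
    (hb : b ∈ Q l) (hbC : b ∈ centralizer (V : Set G)) : a * b * a⁻¹ * b⁻¹ ∈ (Q i ⊓ Q j) ⊔ V := by
  by_cases hkl : k = l
  · subst hkl
    exact mem_sup_right (M.R_le k (M.QQ k a ha b hb))
  · have h1 := (M.comm_mem ha hb hbC).1
    have h2 : a * b * a⁻¹ * b⁻¹ ∈ Q l := (Q l).mul_mem (M.C_conj l haC hb) ((Q l).inv_mem hb)
    rw [← M.FF_eq h hkl]
    exact mem_sup_left (mem_inf.mpr ⟨h1, h2⟩)

/-- **the spread**: an element of `Q k ⊓ C(V)` which is congruent to an element of `Q l ⊓ C(V)` modulo `W` lies in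
`W` -/
theorem spread {i j : I} (h : i ≠ j) {k l : I} (hkl : k ≠ l) {c b : G} (hc : c ∈ Q k) (hb : b ∈ Q l)
    (hw : b⁻¹ * c ∈ (Q i ⊓ Q j) ⊔ V) : c ∈ (Q i ⊓ Q j) ⊔ V := by
  rw [← M.FF_eq h hkl] at hw ⊢
  rw [M.mem_FF hkl] at hw
  obtain ⟨f, hf, v, hv, hfv⟩ := hw
  have h1 : v ∈ (V ⊓ Q k) ⊔ R l := M.VE k l hkl hv
  have hn : V ⊓ Q k ≤ normalizer (R l : Set G) := by
    intro x hx
    apply mem_normalizer_of_cj
    apply cj_eq_of_comm
    intro r hr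
    exact M.comm x hx.1 r (M.R_le l hr)
  rw [← SetLike.mem_coe, Subgroup.coe_mul_of_left_le_normalizer_right _ _ hn, Set.mem_mul] at h1
  obtain ⟨e, he, r, hr, rfl⟩ := h1
  have he' : e ∈ V ⊓ Q k := he
  have hr' : r ∈ R l := hr
  have her : e * r = r * e := M.comm e he'.1 r (M.R_le l hr')
  have h2 : c * e⁻¹ = b * f * r := by
    have : c = b * (f * (e * r)) := by rw [hfv]; group
    rw [this, her]; group
  have h3 : c * e⁻¹ ∈ Q k ⊓ Q l := by
    refine mem_inf.mpr ⟨(Q k).mul_mem hc ((Q k).inv_mem he'.2), ?_⟩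
    rw [h2]
    exact (Q l).mul_mem ((Q l).mul_mem hb hf.2) (M.R_Q l hr')
  rw [M.mem_FF hkl]
  exact ⟨_, h3, e, he'.1, by group⟩

/-! ### matching elements -/

/-- `y ∈ Q i`, `y' ∈ Q j` and `y : j ↦ l`, `y' : i ↦ l`. For `a ∈ Q i ⊓ C(V)`, `b := [y', a]`: `[y, b] ≡ a` modulo `W`. -/
theorem match_comm {i j : I} (h : i ≠ j) {y y' : G} (hy : y ∈ Q i) (hy' : y' ∈ Q j)
    (hm : cj y (R j) = cj y' (R i)) {a : G} (ha : a ∈ Q i) (haC : a ∈ centralizer (V : Set G)) :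
    y * (y' * a * y'⁻¹ * a⁻¹) * y⁻¹ * (y' * a * y'⁻¹ * a⁻¹)⁻¹ * a⁻¹ ∈ (Q i ⊓ Q j) ⊔ V := by
  obtain ⟨l, hl, hlR, hlQ⟩ := M.move h.symm hy
  have hlQ' : cj y' (Q i) = Q l := M.Q_of_R hy' (hm.symm.trans hlR)
  set b := y' * a * y'⁻¹ * a⁻¹ with hbdef
  obtain ⟨hb, hbC⟩ := M.comm_mem hy' ha haC
  obtain ⟨ha2, ha2C⟩ := M.comm_mem hy hb hbC
  set a2 := y * b * y⁻¹ * b⁻¹ with ha2def
  -- `b a = y' a y'⁻¹ ∈ Q l`, `a2 b = y b y⁻¹ ∈ Q l`
  have h1 : b * a ∈ Q l := by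
    have : b * a = y' * a * y'⁻¹ := by rw [hbdef]; group
    rw [this, ← hlQ']; exact conj_mem_cj ha
  have h2 : a2 * b ∈ Q l := by
    have : a2 * b = y * b * y⁻¹ := by rw [ha2def]; group
    rw [this, ← hlQ]; exact conj_mem_cj hb
  have h3 : (a2 * b) * (b * a)⁻¹ ∈ Q l := mul_mem h2 (inv_mem h1)
  -- `(a2 b) (b a)⁻¹ = a2 b a⁻¹ b⁻¹`
  have h4 := M.comm_AA h hb hbC ha haC
  have h5 : a2 * a⁻¹ ∈ Q i := mul_mem ha2 (inv_mem ha)
  have h6 : ((a2 * b) * (b * a)⁻¹)⁻¹ * (a2 * a⁻¹) ∈ (Q i ⊓ Q j) ⊔ V := by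
    have : ((a2 * b) * (b * a)⁻¹)⁻¹ * (a2 * a⁻¹) = b * a * b⁻¹ * a⁻¹ := by group
    rw [this]
    exact h4
  exact M.spread h hl.symm h5 h3 h6

/-- an element of `Q i` that moves `R j` acts without fixed points on `(Q j ⊓ C(V)) W / W` -/
theorem fpf_one {i j : I} (h : i ≠ j) {y : G} (hy : y ∈ Q i) (hmv : cj y (R j) ≠ R j) {b : G} (hb : b ∈ Q j)
    (hf : y * b * y⁻¹ * b⁻¹ ∈ (Q i ⊓ Q j) ⊔ V) : b ∈ (Q i ⊓ Q j) ⊔ V := by
  obtain ⟨m, -, hmR, hmQ⟩ := M.move h.symm hy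
  have hmj : j ≠ m := by
    rintro rfl
    exact hmv hmR
  have h1 : y * b * y⁻¹ ∈ Q m := by rw [← hmQ]; exact conj_mem_cj hb
  have hbi : b ∈ Q j := hb
  refine M.spread h hmj hb h1 ?_
  -- `(y b y⁻¹)⁻¹ b = (y b y⁻¹)⁻¹ [y, b]⁻¹ (y b y⁻¹)`
  have h2 : (y * b * y⁻¹)⁻¹ * b = b⁻¹ * (y * b * y⁻¹ * b⁻¹)⁻¹ * b := by group
  rw [h2]
  have h3 := M.Q_W' h (inv_mem hb) (inv_mem hf)
  rwa [inv_inv] at h3

end Mt

/-- A torus element `t = (y y' y)(z z' z)`, `y, z ∈ Q i`, `y', z' ∈ Q j`. -/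
structure Tor (V : Subgroup G) (R Q : I → Subgroup G) (i j : I) (y y' z z' : G) : Prop where
  hy : y ∈ Q i
  hz : z ∈ Q i
  hy' : y' ∈ Q j
  hz' : z' ∈ Q j
  ym : cj y (R j) = cj y' (R i)
  zm : cj z (R j) = cj z' (R i)
  ne : cj y (R j) ≠ cj z (R j)
  /-- `t` centralises `R i` -/
  tR : ∀ r ∈ R i, (y * y' * y) * (z * z' * z) * r = r * ((y * y' * y) * (z * z' * z))
  /-- `t` is fixed point free on `(V ⊓ Q i) / R i` -/
  tE : ∀ e ∈ V ⊓ Q i, e⁻¹ * ((y * y' * y) * (z * z' * z) * e * ((y * y' * y) * (z * z' * z))⁻¹) ∈ R i → e ∈ R i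
  /-- `t` is fixed point free on `Q i / (Q i ⊓ C(V))` -/
  tU : ∀ u ∈ Q i, u⁻¹ * ((y * y' * y) * (z * z' * z) * u * ((y * y' * y) * (z * z' * z))⁻¹) ∈
    centralizer (V : Set G) → u ∈ centralizer (V : Set G)

namespace Mt

variable {V : Subgroup G} {R Q : I → Subgroup G} (M : Mt V R Q)
include M

/-- `n = y y' y` interchanges `Q i` and `Q j`, and induces `a ↦ [y', a]` on `(Q i ⊓ C(V)) W / W` -/
theorem swap {i j : I} (h : i ≠ j) {y y' : G} (hy : y ∈ Q i) (hy' : y' ∈ Q j)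
    (hm : cj y (R j) = cj y' (R i)) : cj (y * y' * y) (Q i) = Q j ∧ cj (y * y' * y) (Q j) = Q i ∧
      cj (y * y' * y) (R i) = R j ∧ cj (y * y' * y) (R j) = R i := by
  obtain ⟨l, hl, hlR, hlQ⟩ := M.move h.symm hy
  have hlR' : cj y' (R i) = R l := hm.symm.trans hlR
  have hlQ' : cj y' (Q i) = Q l := M.Q_of_R hy' hlR'
  -- `y R l = R j`, as `y² ∈ R i ≤ V`
  have hyy : y * y ∈ V := M.R_le i (M.Qsq i y hy)
  have hyyC := M.V_le_C hyy
  have hyyR : ∀ k, cj (y * y) (R k) = R k := fun k => cj_eq_of_comm fun x hx => M.comm _ hyy _ (M.R_le k hx)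
  have hyyQ : ∀ k, cj (y * y) (Q k) = Q k := fun k => M.C_nor k hyyC
  have hyy' : y' * y' ∈ V := M.R_le j (M.Qsq j y' hy')
  have hyyR' : ∀ k, cj (y' * y') (R k) = R k := fun k => cj_eq_of_comm fun x hx => M.comm _ hyy' _ (M.R_le k hx)
  have hyyQ' : ∀ k, cj (y' * y') (Q k) = Q k := fun k => M.C_nor k (M.V_le_C hyy')
  have h1 : cj y (Q l) = Q j := by rw [← hlQ, ← cj_mul]; exact hyyQ j
  have h2 : cj y (R l) = R j := by rw [← hlR, ← cj_mul]; exact hyyR j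
  have h3 : cj y' (Q l) = Q i := by rw [← hlQ', ← cj_mul]; exact hyyQ' i
  have h4 : cj y' (R l) = R i := by rw [← hlR', ← cj_mul]; exact hyyR' i
  refine ⟨?_, ?_, ?_, ?_⟩
  · rw [cj_mul, cj_mul, cj_eq_of_mem hy, hlQ', h1]
  · rw [cj_mul, cj_mul, hlQ, h3, cj_eq_of_mem hy]
  · rw [cj_mul, cj_mul, M.RQ' i hy, hlR', h2]
  · rw [cj_mul, cj_mul, hlR, h4, M.RQ' i hy]

theorem mem_nor_W {i j : I} (h : i ≠ j) {k : I} {y : G} (hy : y ∈ Q k) :
    y ∈ normalizer (((Q i ⊓ Q j) ⊔ V : Subgroup G) : Set G) := by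
  rw [mem_normalizer_iff]
  intro w
  constructor
  · exact fun hw => M.Q_W' h hy hw
  · intro hw
    have h1 := M.Q_W' h ((Q k).inv_mem hy) hw
    have h2 : y⁻¹ * (y * w * y⁻¹) * y⁻¹⁻¹ = w := by group
    rwa [h2] at h1

end Mt

theorem swap_abs {K : Type*} [Group K] {z z' a b : K} (h1 : z * a = a * z) (h2 : z' * a = b * a * z')
    (h3 : z * b = a * b * z) (h4 : a * b = b * a) (h5 : a * a = 1) :
    z * z' * z * a = b * (z * z' * z) := by
  calc z * z' * z * a = z * z' * (z * a) := by group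
    _ = z * (z' * a) * z := by rw [h1]; group
    _ = (z * b) * a * z' * z := by rw [h2]; group
    _ = a * b * (z * a) * z' * z := by rw [h3]; group
    _ = (a * b) * a * z * z' * z := by rw [h1]; group
    _ = b * (a * a) * z * z' * z := by rw [h4]; group
    _ = b * (z * z' * z) := by rw [h5]; group

theorem swap_abs' {K : Type*} [Group K] {y y' a b : K} (g1 : y * b = a * b * y) (g2 : y' * a = b * a * y')
    (g3 : y' * b = b * y') (g4 : a * b = b * a) (g5 : b * b = 1) (g6 : y * a = a * y) :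
    y * y' * y * b = a * (y * y' * y) := by
  calc y * y' * y * b = y * y' * (y * b) := by group
    _ = y * (y' * a) * b * y := by rw [g1]; group
    _ = y * b * a * (y' * b) * y := by rw [g2]; group
    _ = y * (b * a) * b * y' * y := by rw [g3]; group
    _ = y * a * (b * b) * y' * y := by rw [← g4]; group
    _ = (y * a) * y' * y := by rw [g5]; group
    _ = a * (y * y' * y) := by rw [g6]; group

namespace Mt

variable {V : Subgroup G} {R Q : I → Subgroup G} (M : Mt V R Q)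
include M

/-- `t` acts without fixed points on `(Q i ⊓ C(V)) W / W` -/
theorem tor_fpf {i j : I} (h : i ≠ j) {y y' z z' : G} (T : Tor V R Q i j y y' z z') {a : G} (ha : a ∈ Q i)
    (haC : a ∈ centralizer (V : Set G))
    (hf : (y * y' * y) * (z * z' * z) * a * ((y * y' * y) * (z * z' * z))⁻¹ * a⁻¹ ∈ (Q i ⊓ Q j) ⊔ V) :
    a ∈ (Q i ⊓ Q j) ⊔ V := by
  set W : Subgroup G := (Q i ⊓ Q j) ⊔ V with hW
  let N : Subgroup G := normalizer (W : Set G)
  let N' : Subgroup ↥N := W.subgroupOf N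
  have hVW : V ≤ W := le_sup_right
  have hRW : ∀ k, R k ≤ W := fun k => (M.R_le k).trans hVW
  have hN'n : N'.Normal := Subgroup.normal_subgroupOf_of_le_normalizer le_rfl
  have hQN : ∀ {k : I} {x : G}, x ∈ Q k → x ∈ N := fun {k x} hx => M.mem_nor_W h hx
  let q : ↥N →* ↥N ⧸ N' := QuotientGroup.mk' N'
  have key : ∀ x x' : ↥N, (x : G) * (x' : G)⁻¹ ∈ W → q x = q x' := by
    intro x x' hx
    have h1 : q (x * x'⁻¹) = 1 := by
      have : (x * x'⁻¹) ∈ N' := by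
        rw [mem_subgroupOf]; exact hx
      exact (QuotientGroup.eq_one_iff _).mpr this
    rw [map_mul, map_inv] at h1
    exact mul_inv_eq_one.mp h1
  have key' : ∀ x x' : ↥N, q x = q x' → (x : G) * (x' : G)⁻¹ ∈ W := by
    intro x x' hx
    have h1 : q (x * x'⁻¹) = 1 := by rw [map_mul, map_inv, hx, mul_inv_cancel]
    have h2 := (QuotientGroup.eq_one_iff _).mp h1
    rw [mem_subgroupOf] at h2
    exact h2
  -- the elements
  obtain ⟨hb, hbC⟩ := M.comm_mem T.hz' ha haC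
  set b := z' * a * z'⁻¹ * a⁻¹ with hbdef
  obtain ⟨ha3, ha3C⟩ := M.comm_mem T.hy hb hbC
  set a3 := y * b * y⁻¹ * b⁻¹ with ha3def
  have hm1 := M.match_comm h T.hz T.hz' T.zm ha haC
  rw [← hbdef] at hm1
  have hm2 := M.match_comm h.symm T.hy' T.hy T.ym.symm hb hbC
  rw [← ha3def, inf_comm (Q j) (Q i)] at hm2
  let Y : ↥N := ⟨y, hQN T.hy⟩
  let Y' : ↥N := ⟨y', hQN T.hy'⟩
  let Z : ↥N := ⟨z, hQN T.hz⟩
  let Z' : ↥N := ⟨z', hQN T.hz'⟩
  let A : ↥N := ⟨a, hQN ha⟩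
  let B : ↥N := ⟨b, hQN hb⟩
  let A3 : ↥N := ⟨a3, hQN ha3⟩
  have e1 : q Z * q A = q A * q Z := by
    rw [← map_mul, ← map_mul]
    apply key
    have : (z * a) * (a * z)⁻¹ = z * a * z⁻¹ * a⁻¹ := by group
    change (z * a) * (a * z)⁻¹ ∈ W
    rw [this]; exact hRW i (M.QQ i z T.hz a ha)
  have e2 : q Z' * q A = q B * q A * q Z' := by
    rw [← map_mul, ← map_mul, ← map_mul]
    apply congrArg
    apply Subtype.ext
    change z' * a = b * a * z'
    rw [hbdef]; group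
  have e4 : q A * q B = q B * q A := by
    rw [← map_mul, ← map_mul]
    apply key
    have : (a * b) * (b * a)⁻¹ = a * b * a⁻¹ * b⁻¹ := by group
    change (a * b) * (b * a)⁻¹ ∈ W
    rw [this]; exact M.comm_AA h ha haC hb hbC
  have e5 : q A * q A = 1 := by
    rw [← map_mul, ← map_one q]
    apply key
    change (a * a) * (1 : G)⁻¹ ∈ W
    rw [inv_one, mul_one]; exact hRW i (M.Qsq i a ha)
  have e3 : q Z * q B = q A * q B * q Z := by
    rw [← map_mul, ← map_mul, ← map_mul]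
    apply key
    have : (z * b) * (a * b * z)⁻¹ = a * (a⁻¹ * (z * b * z⁻¹ * b⁻¹ * a⁻¹) * a⁻¹⁻¹) * a⁻¹ := by group
    change (z * b) * (a * b * z)⁻¹ ∈ W
    rw [this]
    exact M.Q_W' h ha (M.Q_W' h (inv_mem ha) hm1)
  have r1 := swap_abs e1 e2 e3 e4 e5
  have f1 : q Y * q B = q A3 * q B * q Y := by
    rw [← map_mul, ← map_mul, ← map_mul]
    apply congrArg
    apply Subtype.ext
    change y * b = a3 * b * y
    rw [ha3def]; group
  have f2 : q Y' * q A3 = q B * q A3 * q Y' := by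
    rw [← map_mul, ← map_mul, ← map_mul]
    apply key
    have : (y' * a3) * (b * a3 * y')⁻¹ = y' * a3 * y'⁻¹ * a3⁻¹ * b⁻¹ := by group
    change (y' * a3) * (b * a3 * y')⁻¹ ∈ W
    rw [this]
    exact hm2
  have f3 : q Y' * q B = q B * q Y' := by
    rw [← map_mul, ← map_mul]
    apply key
    have : (y' * b) * (b * y')⁻¹ = y' * b * y'⁻¹ * b⁻¹ := by group
    change (y' * b) * (b * y')⁻¹ ∈ W
    rw [this]; exact hRW j (M.QQ j y' T.hy' b hb)
  have f4 : q A3 * q B = q B * q A3 := by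
    rw [← map_mul, ← map_mul]
    apply key
    have : (a3 * b) * (b * a3)⁻¹ = a3 * b * a3⁻¹ * b⁻¹ := by group
    change (a3 * b) * (b * a3)⁻¹ ∈ W
    rw [this]; exact M.comm_AA h ha3 ha3C hb hbC
  have f5 : q B * q B = 1 := by
    rw [← map_mul, ← map_one q]
    apply key
    change (b * b) * (1 : G)⁻¹ ∈ W
    rw [inv_one, mul_one]; exact hRW j (M.Qsq j b hb)
  have f6 : q Y * q A3 = q A3 * q Y := by
    rw [← map_mul, ← map_mul]
    apply key
    have : (y * a3) * (a3 * y)⁻¹ = y * a3 * y⁻¹ * a3⁻¹ := by group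
    change (y * a3) * (a3 * y)⁻¹ ∈ W
    rw [this]; exact hRW i (M.QQ i y T.hy a3 ha3)
  have r2 := swap_abs' f1 f2 f3 f4 f5 f6
  -- `t a t⁻¹ ≡ a3`
  have r3 : q A3 = q A := by
    have g1 : q (((Y * Y' * Y) * (Z * Z' * Z)) * A * ((Y * Y' * Y) * (Z * Z' * Z))⁻¹) = q A := key _ _ hf
    have g2 : (q Y * q Y' * q Y) * (q Z * q Z' * q Z) * q A =
        q A3 * ((q Y * q Y' * q Y) * (q Z * q Z' * q Z)) := by
      rw [mul_assoc, r1, ← mul_assoc, r2, mul_assoc]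
    rw [map_mul, map_mul, map_mul, map_mul, map_mul, map_mul, map_mul, map_inv, map_mul, map_mul, map_mul,
      map_mul, map_mul, g2, mul_inv_cancel_right] at g1
    exact g1
  -- `[y, b] ≡ [z, b]`
  have r4 : q Y * q B * (q Y)⁻¹ = q Z * q B * (q Z)⁻¹ := by
    rw [f1, e3, r3]; group
  have hyz : z⁻¹ * y ∈ Q i := mul_mem (inv_mem T.hz) T.hy
  have hmv : cj (z⁻¹ * y) (R j) ≠ R j := by
    intro h0
    apply T.ne
    rw [cj_mul] at h0
    have h1 := congrArg (cj z) h0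
    rw [← cj_mul, mul_inv_cancel] at h1
    have h2 : cj (1 : G) (cj y (R j)) = cj y (R j) := by simp [cj]
    rw [h2] at h1
    exact h1
  have hbW : b ∈ W := by
    apply M.fpf_one h hyz hmv hb
    have g1 : q ((Z⁻¹ * Y) * B * (Z⁻¹ * Y)⁻¹) = q B := by
      have : (q Z)⁻¹ * (q Y * q B * (q Y)⁻¹) * q Z = q B := by rw [r4]; group
      rw [← this]
      simp only [map_mul, map_inv]
      group
    exact key' _ _ g1
  -- `a ≡ [z, b] ≡ 1`
  have hB1 : q B = 1 := by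
    rw [← map_one q]
    apply key
    change b * (1 : G)⁻¹ ∈ W
    rw [inv_one, mul_one]; exact hbW
  have hA1 : q A = 1 := by
    rw [hB1, mul_one, mul_one] at e3
    have : q A * q Z = 1 * q Z := by rw [one_mul]; exact e3.symm
    exact mul_right_cancel this
  have := key' A 1 (by rw [hA1, map_one])
  change a * (1 : G)⁻¹ ∈ W at this
  rwa [inv_one, mul_one] at this

/-- the elements of `⟨Q i, Q j⟩` act trivially on `W / V` -/
theorem triv_mul {W : Subgroup G} (hVW : V ≤ W) {x x' : G} (hx : ∀ w ∈ W, x * w * x⁻¹ * w⁻¹ ∈ V)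
    (hx' : ∀ w ∈ W, x' * w * x'⁻¹ * w⁻¹ ∈ V) : ∀ w ∈ W, (x * x') * w * (x * x')⁻¹ * w⁻¹ ∈ V := by
  have _ := M.comm
  intro w hw
  have h1 := hx' w hw
  have h2 : x' * w * x'⁻¹ ∈ W := by
    have := W.mul_mem (hVW h1) hw
    have h3 : x' * w * x'⁻¹ * w⁻¹ * w = x' * w * x'⁻¹ := by group
    rwa [h3] at this
  have h4 := hx _ h2
  have h5 : (x * x') * w * (x * x')⁻¹ * w⁻¹ =
      (x * (x' * w * x'⁻¹) * x⁻¹ * (x' * w * x'⁻¹)⁻¹) * (x' * w * x'⁻¹ * w⁻¹) := by group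
  rw [h5]
  exact V.mul_mem h4 h1

/-- **`Q i ⊓ Q j ≤ V`** -/
theorem meet_le [Finite G] {i j : I} (h : i ≠ j) {y y' z z' : G} (T : Tor V R Q i j y y' z z') :
    Q i ⊓ Q j ≤ V := by
  set W : Subgroup G := (Q i ⊓ Q j) ⊔ V with hW
  set t : G := (y * y' * y) * (z * z' * z) with ht
  have hVW : V ≤ W := le_sup_right
  obtain ⟨s1, s2, -, -⟩ := M.swap h T.hy T.hy' T.ym
  obtain ⟨s3, s4, -, -⟩ := M.swap h T.hz T.hz' T.zm
  have tQi : cj t (Q i) = Q i := by rw [ht, cj_mul, s3, s2]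
  have tQj : cj t (Q j) = Q j := by rw [ht, cj_mul, s4, s1]
  have tQi' : ∀ u ∈ Q i, t * u * t⁻¹ ∈ Q i := fun u hu => by
    have := conj_mem_cj (c := t) hu
    rwa [tQi] at this
  have tQj' : ∀ u ∈ Q j, t * u * t⁻¹ ∈ Q j := fun u hu => by
    have := conj_mem_cj (c := t) hu
    rwa [tQj] at this
  have tV : t ∈ normalizer (V : Set G) := by
    have a1 := M.Q_V i T.hy
    have a2 := M.Q_V j T.hy'
    have a3 := M.Q_V i T.hz
    have a4 := M.Q_V j T.hz'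
    exact mul_mem (mul_mem (mul_mem a1 a2) a1) (mul_mem (mul_mem a3 a4) a3)
  have tV' : ∀ v ∈ V, t * v * t⁻¹ ∈ V := fun v hv => (mem_normalizer_iff.mp tV v).mp hv
  have tC' : ∀ c ∈ centralizer (V : Set G), t * c * t⁻¹ ∈ centralizer (V : Set G) := by
    intro c hc
    rw [mem_centralizer_iff] at hc ⊢
    intro v hv
    have h1 : t⁻¹ * v * t ∈ V := by
      have := (mem_normalizer_iff.mp ((normalizer (V : Set G)).inv_mem tV) v).mp hv
      rwa [inv_inv] at this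
    have h2 := hc _ h1
    calc v * (t * c * t⁻¹) = t * ((t⁻¹ * v * t) * c) * t⁻¹ := by group
      _ = t * (c * (t⁻¹ * v * t)) * t⁻¹ := by rw [h2]
      _ = t * c * t⁻¹ * v := by group
  have tW : ∀ w ∈ W, t * w * t⁻¹ * w⁻¹ ∈ V := by
    have b1 : ∀ w ∈ W, y * w * y⁻¹ * w⁻¹ ∈ V := fun w hw => M.Q_W h T.hy hw
    have b2 : ∀ w ∈ W, y' * w * y'⁻¹ * w⁻¹ ∈ V := fun w hw => M.Q_W h T.hy' hw
    have b3 : ∀ w ∈ W, z * w * z⁻¹ * w⁻¹ ∈ V := fun w hw => M.Q_W h T.hz hw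
    have b4 : ∀ w ∈ W, z' * w * z'⁻¹ * w⁻¹ ∈ V := fun w hw => M.Q_W h T.hz' hw
    exact M.triv_mul hVW (M.triv_mul hVW (M.triv_mul hVW b1 b2) b1)
      (M.triv_mul hVW (M.triv_mul hVW b3 b4) b3)
  have tR' : ∀ r ∈ R i, t * r * t⁻¹ = r := fun r hr => by
    have h0 : t * r = r * t := T.tR r hr
    rw [h0, mul_inv_cancel_right]
  -- `F := Q i ⊓ Q j` is abelian
  have hRQ : ∀ r ∈ R i, r ∈ Q j → r = 1 := fun r h1 h2 => by
    have : r ∈ R i ⊓ Q j := mem_inf.mpr ⟨h1, h2⟩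
    rw [M.RQj i j h, mem_bot] at this
    exact this
  have hFab : ∀ f ∈ Q i ⊓ Q j, ∀ f' ∈ Q i ⊓ Q j, f * f' = f' * f := by
    intro f hf f' hf'
    have h1 := M.QQ i f hf.1 f' hf'.1
    have h2 := M.RQ j
    have h3 : f * f' * f⁻¹ * f'⁻¹ ∈ Q j :=
      (Q j).mul_mem ((Q j).mul_mem ((Q j).mul_mem hf.2 hf'.2) ((Q j).inv_mem hf.2)) ((Q j).inv_mem hf'.2)
    have h4 := hRQ _ h1 h3
    have h5 : f * f' = (f * f' * f⁻¹ * f'⁻¹) * (f' * f) := by group
    rw [h5, h4, one_mul]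
  -- fixed points of `t` on `F`
  have hfix : ∀ c ∈ Q i ⊓ Q j, t * c * t⁻¹ = c → c = 1 := by
    intro c hc hct
    let Kc : Subgroup G := centralizer ({c} : Set G)
    have memK : ∀ u, c * u = u * c → u ∈ Kc := fun u hu => mem_centralizer_singleton_iff.mpr (by
      first | exact hu | exact hu.symm)
    have hRK : ∀ r ∈ R i, r ∈ Kc := fun r hr => memK r (M.RQ i r hr c hc.1).symm
    have hFK : ∀ f ∈ Q i ⊓ Q j, f ∈ Kc := fun f hf => memK f (hFab c hc f hf)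
    have hD : ∀ u ∈ Q i, u⁻¹ * (t * u * t⁻¹) ∈ Kc := by
      intro u hu
      have h1 := M.QQ i c hc.1 u hu
      have h2 := tR' _ h1
      have h3 : c * (t * u * t⁻¹) * c⁻¹ = (c * u * c⁻¹ * u⁻¹) * (t * u * t⁻¹) := by
        have e1 : t * (c * u * c⁻¹ * u⁻¹) * t⁻¹ =
            (t * c * t⁻¹) * (t * u * t⁻¹) * (t * c * t⁻¹)⁻¹ * (t * u * t⁻¹)⁻¹ := by group
        rw [e1, hct] at h2
        rw [← h2]; group
      apply memK
      have h4 : c * (u⁻¹ * (t * u * t⁻¹)) * c⁻¹ = u⁻¹ * (t * u * t⁻¹) := by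
        have e2 : c * (u⁻¹ * (t * u * t⁻¹)) * c⁻¹ = (c * u * c⁻¹)⁻¹ * (c * (t * u * t⁻¹) * c⁻¹) := by group
        rw [e2, h3]; group
      calc c * (u⁻¹ * (t * u * t⁻¹)) = (c * (u⁻¹ * (t * u * t⁻¹)) * c⁻¹) * c := by group
        _ = u⁻¹ * (t * u * t⁻¹) * c := by rw [h4]
    -- (i)
    have hE : ∀ e ∈ V ⊓ Q i, e ∈ Kc := by
      intro e he
      obtain ⟨g, hg, n, hn, rfl⟩ := exists_of_fpf (H := V ⊓ Q i) (N := R i) t
        (fun x hx => mem_inf.mpr ⟨tV' x hx.1, tQi' x hx.2⟩) (fun x hx => by rw [tR' x hx]; exact hx)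
        (fun x hx n hn => by
          rw [M.comm x hx.1 n (M.R_le i hn), mul_inv_cancel_right]; exact hn) T.tE e he
      exact Kc.mul_mem (hD g hg.2) (hRK n hn)
    -- (ii)
    have hA : ∀ a ∈ Q i ⊓ centralizer (V : Set G), a ∈ Kc := by
      intro a ha
      obtain ⟨g, hg, n, hn, rfl⟩ := exists_of_fpf (H := Q i ⊓ centralizer (V : Set G))
        (N := (Q i ⊓ centralizer (V : Set G)) ⊓ W) t
        (fun x hx => mem_inf.mpr ⟨tQi' x hx.1, tC' x hx.2⟩)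
        (fun x hx => mem_inf.mpr ⟨mem_inf.mpr ⟨tQi' x hx.1.1, tC' x hx.1.2⟩, by
          have h1 := tW x hx.2
          have h2 : t * x * t⁻¹ = (t * x * t⁻¹ * x⁻¹) * x := by group
          rw [h2]; exact W.mul_mem (hVW h1) hx.2⟩)
        (fun x hx n hn => mem_inf.mpr ⟨mem_inf.mpr
          ⟨(Q i).mul_mem ((Q i).mul_mem hx.1 hn.1.1) ((Q i).inv_mem hx.1),
            mul_mem (mul_mem hx.2 hn.1.2) (inv_mem hx.2)⟩, M.Q_W' h hx.1 hn.2⟩)
        (fun x hx hn => mem_inf.mpr ⟨hx, by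
          apply M.tor_fpf h T hx.1 hx.2
          have h1 := M.Q_W' h hx.1 hn.2
          have h2 : x * (x⁻¹ * (t * x * t⁻¹)) * x⁻¹ = t * x * t⁻¹ * x⁻¹ := by group
          rw [h2] at h1
          exact h1⟩) a ha
      refine Kc.mul_mem (hD g hg.1) ?_
      obtain ⟨f, hf, v, hv, rfl⟩ := (M.mem_FF h).mp hn.2
      have h3 : v ∈ Q i := by
        have h4 := (Q i).mul_mem ((Q i).inv_mem hf.1) hn.1.1
        rwa [inv_mul_cancel_left] at h4
      exact Kc.mul_mem (hFK f hf) (hE v (mem_inf.mpr ⟨hv, h3⟩))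
    -- (iii)
    have hQ : ∀ u ∈ Q i, u ∈ Kc := by
      intro u hu
      obtain ⟨g, hg, n, hn, rfl⟩ := exists_of_fpf (H := Q i) (N := Q i ⊓ centralizer (V : Set G)) t
        tQi' (fun x hx => mem_inf.mpr ⟨tQi' x hx.1, tC' x hx.2⟩)
        (fun x hx n hn => mem_inf.mpr ⟨(Q i).mul_mem ((Q i).mul_mem hx hn.1) ((Q i).inv_mem hx),
          M.Q_cent hx hn.2⟩)
        (fun x hx hn => mem_inf.mpr ⟨hx, T.tU x hx hn.2⟩) u hu
      exact Kc.mul_mem (hD g hg) (hA n hn)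
    refine hRQ c (M.cen i c hc.1 fun u hu => ?_) hc.2
    have := mem_centralizer_singleton_iff.mp (hQ u hu)
    first | exact this | exact this.symm
  -- `F = [F, t] ≤ V`
  intro f hf
  have hfV : ∀ g ∈ Q i ⊓ Q j, g⁻¹ * (t * g * t⁻¹) ∈ V := by
    intro g hg
    have h1 := tW g (mem_sup_left hg)
    have h2 := M.meet_le_C h hg.1 hg.2
    have h3 : g⁻¹ * (t * g * t⁻¹) = g⁻¹ * (t * g * t⁻¹ * g⁻¹) * g := by group
    rw [h3, mul_assoc, (mem_centralizer_iff.mp h2) _ h1, inv_mul_cancel_left]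
    exact h1
  obtain ⟨g, hg, n, hn, rfl⟩ := exists_of_fpf (H := Q i ⊓ Q j) (N := ⊥) t
    (fun x hx => mem_inf.mpr ⟨tQi' x hx.1, tQj' x hx.2⟩)
    (fun x hx => by rw [mem_bot] at hx ⊢; rw [hx]; group)
    (fun x _ n hn => by rw [mem_bot] at hn ⊢; rw [hn]; group)
    (fun x hx hn => by
      rw [mem_bot] at hn ⊢
      exact hfix x hx (by
        have := inv_mul_eq_one.mp hn
        exact this.symm)) f hf
  rw [mem_bot] at hn
  rw [hn, mul_one]
  exact hfV g hg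

/-! ### The structure of `L / V`, `L = ⟨Q k ⊓ C(V)⟩ V` -/

theorem W_eq {i j : I} (hm : Q i ⊓ Q j ≤ V) : (Q i ⊓ Q j) ⊔ V = V := by
  have _ := M.comm
  exact sup_eq_right.mpr hm

/-- one pair is enough -/
theorem meet_all {i j : I} (h : i ≠ j) (hm : Q i ⊓ Q j ≤ V) {k l : I} (hkl : k ≠ l) : Q k ⊓ Q l ≤ V := by
  calc Q k ⊓ Q l ≤ (Q k ⊓ Q l) ⊔ V := le_sup_left
    _ ≤ (Q i ⊓ Q j) ⊔ V := M.FF_all h hkl
    _ = V := M.W_eq hm

/-- two elements of the `Q k ⊓ C(V)` commute modulo `V` -/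
theorem comm_V {i j : I} (h : i ≠ j) (hm : Q i ⊓ Q j ≤ V) {k l : I} {a b : G} (ha : a ∈ Q k)
    (haC : a ∈ centralizer (V : Set G)) (hb : b ∈ Q l) (hbC : b ∈ centralizer (V : Set G)) :
    a * b * a⁻¹ * b⁻¹ ∈ V := by
  have := M.comm_AA h ha haC hb hbC
  rwa [M.W_eq hm] at this

/-- the groups `(Q k ⊓ C(V)) V / V` intersect trivially -/
theorem spread_V {i j : I} (h : i ≠ j) (hm : Q i ⊓ Q j ≤ V) {k l : I} (hkl : k ≠ l) {c b : G}
    (hc : c ∈ Q k) (hb : b ∈ Q l) (hw : b⁻¹ * c ∈ V) : c ∈ V := by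
  have := M.spread h hkl hc hb (by rw [M.W_eq hm]; exact hw)
  rwa [M.W_eq hm] at this

/-- `y ∈ Q i` moving `R j`: `b ↦ [y, b]` is injective modulo `V` on `Q j ⊓ C(V)`, with values in `Q i ⊓ C(V)`
(`comm_mem`) ... -/
theorem inj_V {i j : I} (h : i ≠ j) (hm : Q i ⊓ Q j ≤ V) {y : G} (hy : y ∈ Q i) (hmv : cj y (R j) ≠ R j)
    {b : G} (hb : b ∈ Q j) (hf : y * b * y⁻¹ * b⁻¹ ∈ V) : b ∈ V := by
  have := M.fpf_one h hy hmv hb (by rw [M.W_eq hm]; exact hf)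
  rwa [M.W_eq hm] at this

/-- ... and onto: the inverse is `a ↦ [y', a]`, where `y' ∈ Q j`, `R i ^ y' = R j ^ y`. -/
theorem surj_V {i j : I} (h : i ≠ j) (hm : Q i ⊓ Q j ≤ V) {y y' : G} (hy : y ∈ Q i) (hy' : y' ∈ Q j)
    (hmt : cj y (R j) = cj y' (R i)) {a : G} (ha : a ∈ Q i) (haC : a ∈ centralizer (V : Set G)) :
    y * (y' * a * y'⁻¹ * a⁻¹) * y⁻¹ * (y' * a * y'⁻¹ * a⁻¹)⁻¹ * a⁻¹ ∈ V := by
  have := M.match_comm h hy hy' hmt ha haC
  rwa [M.W_eq hm] at this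

/-- a torus element acts without fixed points on `(Q i ⊓ C(V)) / (V ⊓ Q i)` -/
theorem tor_V {i j : I} (h : i ≠ j) (hm : Q i ⊓ Q j ≤ V) {y y' z z' : G} (T : Tor V R Q i j y y' z z')
    {a : G} (ha : a ∈ Q i) (haC : a ∈ centralizer (V : Set G))
    (hf : (y * y' * y) * (z * z' * z) * a * ((y * y' * y) * (z * z' * z))⁻¹ * a⁻¹ ∈ V) : a ∈ V := by
  have := M.tor_fpf h T ha haC (by rw [M.W_eq hm]; exact hf)
  rwa [M.W_eq hm] at this

/-- matching elements exist -/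
theorem exists_match {i j : I} (h : i ≠ j) {y : G} (hy : y ∈ Q i) (hmv : cj y (R j) ≠ R j) :
    ∃ y' ∈ Q j, cj y (R j) = cj y' (R i) := by
  obtain ⟨m, hm, hmR, -⟩ := M.move h.symm hy
  have hmj : m ≠ j := by
    rintro rfl
    exact hmv hmR
  obtain ⟨y', hy', h'⟩ := M.tran j i m h hmj
  exact ⟨y', hy', hmR.trans h'.symm⟩

end Mt

end Cfsg.Agent.Omega.NO1.Beta.Meet

end

section


/-!
# THEOREM BETA, the structure and steps (2)-(4)

`Beta M V R Q` : the hypotheses of THEOREM BETA (helper692, blueprints/OMEGA-NO1-beta-*), field-free.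
`Qs V R Q i = ⟨(V ⊓ Q i)^c : c ∈ N(R i)⟩`.  Output: `Beta.pre : Beta M V R Q → Pre V R Q (Qs V R Q)`.
-/

set_option autoImplicit false
set_option linter.dupNamespace false
set_option linter.unusedSectionVars false
set_option linter.unusedVariables false

open Subgroup
open scoped Pointwise

namespace Cfsg.Agent.Omega.NO1.Beta

open Meet

variable {G : Type*} [Group G] {I : Type*}

/-- The hypotheses of THEOREM BETA (`C(V) ≤ M ≤ N(V)`, every `Q i ≤ M`). -/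
structure Beta (M V : Subgroup G) (R Q : I → Subgroup G) : Prop where
  C_M : centralizer (V : Set G) ≤ M
  M_V : M ≤ normalizer (V : Set G)
  V_comm : ∀ a ∈ V, ∀ b ∈ V, a * b = b * a
  V_sq : ∀ a ∈ V, a * a = 1
  R_le : ∀ i, R i ≤ V
  R_Q : ∀ i, R i ≤ Q i
  RQ : ∀ i, ∀ r ∈ R i, ∀ y ∈ Q i, r * y = y * r
  ne : ∀ i, R i ≠ ⊥
  disj : ∀ i j, i ≠ j → R i ⊓ R j = ⊥
  two : ∀ i, IsPGroup 2 (Q i)
  Q_M : ∀ i, Q i ≤ M
  V_Q : ∀ i, ¬ V ≤ Q i
  nor : ∀ i, ∀ c ∈ normalizer (R i : Set G), ∀ y ∈ Q i, c * y * c⁻¹ ∈ Q i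
  perm : ∀ m ∈ M, ∀ i, ∃ j, cj m (R i) = R j ∧ cj m (Q i) = Q j
  max : ∀ i, ∀ N : Subgroup G, IsPGroup 2 N → N ≤ normalizer (R i : Set G) →
    (∀ c ∈ normalizer (R i : Set G), ∀ y ∈ N, c * y * c⁻¹ ∈ N) → N ≤ Q i
  char2 : ∀ i, centralizer (Q i : Set G) ≤ Q i
  EQ : ∀ i, ∀ e ∈ V ⊓ Q i, ∀ y ∈ Q i, e⁻¹ * y⁻¹ * e * y ∈ R i
  EQs : ∀ i, ∀ y ∈ Q i, y ∉ centralizer (V : Set G) → ∀ r ∈ R i,
    ∃ e ∈ V ⊓ Q i, e⁻¹ * y⁻¹ * e * y = r
  cenR : ∀ i, ∀ v ∈ V, (∀ y ∈ Q i, v * y = y * v) → v ∈ R i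
  fixj : ∀ i j, i ≠ j → ∀ y ∈ Q i, cj y (R j) = R j → y ∈ centralizer (V : Set G)
  tran : ∀ i j k, j ≠ i → k ≠ i → ∃ y ∈ Q i, cj y (R j) = R k
  irr : ∀ i, ∀ N : Subgroup G, N ≤ Q i →
    (∀ m ∈ M, m ∈ normalizer (R i : Set G) → ∀ y ∈ N, m * y * m⁻¹ ∈ N) →
    ¬ N ≤ centralizer (V : Set G) → ∀ y ∈ Q i, ∃ n ∈ N, y⁻¹ * n ∈ centralizer (V : Set G)
  big : ∀ i, Nat.card (R i) + 1 < Nat.card I
  cardE : ∀ i, (centralizer (V : Set G)).relIndex (Q i) = (R i).relIndex (V ⊓ Q i)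
  meet : ∀ N : Subgroup G, IsPGroup 2 N → N ≤ M →
    (∀ m ∈ M, ∀ y ∈ N, m * y * m⁻¹ ∈ N) → N ⊓ V = ⊥ → N = ⊥
  alt : ∀ i j, i ≠ j → ∀ b : G → G, (∀ y ∈ Q i, b y ∈ V ⊓ Q i) →
    (∀ y ∈ Q i, ∀ y' ∈ Q i, b (y * y') * (b y * b y')⁻¹ ∈ R i) →
    (∀ y ∈ Q i, b y * y = y * b y) →
    (∀ y ∈ Q i, y ∈ centralizer (V : Set G) → b y ∈ R i) →
    ∃ r ∈ R j, ∀ y ∈ Q i, b y * (y⁻¹ * r⁻¹ * y * r)⁻¹ ∈ R i

/-- `Q*_i = ⟨(V ∩ Q_i)^{N(R_i)}⟩` -/
def Qs (V : Subgroup G) (R Q : I → Subgroup G) (i : I) : Subgroup G :=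
  closure {x : G | ∃ c ∈ normalizer (R i : Set G), ∃ e ∈ V ⊓ Q i, x = c * e * c⁻¹}

/-- closure induction for `Qs` -/
theorem Qs_induction {V : Subgroup G} {R Q : I → Subgroup G} {i : I} {p : G → Prop}
    (h1 : p 1) (hm : ∀ a b, a ∈ Qs V R Q i → b ∈ Qs V R Q i → p a → p b → p (a * b))
    (hi : ∀ a, a ∈ Qs V R Q i → p a → p a⁻¹)
    (hg : ∀ c ∈ normalizer (R i : Set G), ∀ e ∈ V ⊓ Q i, p (c * e * c⁻¹)) {x : G}
    (hx : x ∈ Qs V R Q i) : p x := by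
  refine closure_induction (p := fun x _ => p x) ?_ h1 ?_ ?_ hx
  · rintro x ⟨c, hc, e, he, rfl⟩
    exact hg c hc e he
  · intro a b ha hb hpa hpb
    exact hm a b ha hb hpa hpb
  · intro a ha hpa
    exact hi a ha hpa

/-- A maximal normal 2-subgroup of `B`. -/
theorem exists_two_core [Finite G] (B : Subgroup G) :
    ∃ N : Subgroup G, IsPGroup 2 N ∧ N ≤ B ∧ (∀ b ∈ B, ∀ y ∈ N, b * y * b⁻¹ ∈ N) ∧
      ∀ X : Subgroup G, IsPGroup 2 X → X ≤ B → (∀ b ∈ B, ∀ y ∈ X, b * y * b⁻¹ ∈ X) → X ≤ N := by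
  classical
  let P : Set (Subgroup G) := {X | IsPGroup 2 X ∧ X ≤ B ∧ ∀ b ∈ B, ∀ y ∈ X, b * y * b⁻¹ ∈ X}
  have hP : P.Nonempty := ⟨⊥, IsPGroup.of_bot, bot_le, by
    intro b _ y hy
    rw [mem_bot] at hy ⊢
    rw [hy]; group⟩
  obtain ⟨N, hN⟩ := (Set.toFinite P).exists_maximal hP
  refine ⟨N, hN.prop.1, hN.prop.2.1, hN.prop.2.2, fun X h1 h2 h3 => ?_⟩
  have hXN : X ≤ normalizer (N : Set G) := by
    intro x hx
    rw [mem_normalizer_iff]
    intro y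
    constructor
    · exact hN.prop.2.2 x (h2 hx) y
    · intro hy
      have := hN.prop.2.2 x⁻¹ (inv_mem (h2 hx)) _ hy
      simpa [mul_assoc] using this
  have hsup : X ⊔ N ∈ P := by
    refine ⟨h1.to_sup_of_normal_right' hN.prop.1 hXN, sup_le h2 hN.prop.2.1, fun b hb y hy => ?_⟩
    have hm : ∀ y ∈ X ⊔ N, b * y * b⁻¹ ∈ X ⊔ N := by
      intro y hy
      have hle : X ⊔ N ≤ (X ⊔ N).comap (MulAut.conj b).toMonoidHom := by
        refine sup_le (fun z hz => ?_) (fun z hz => ?_)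
        · rw [mem_comap]
          exact mem_sup_left (h3 b hb z hz)
        · rw [mem_comap]
          exact mem_sup_right (hN.prop.2.2 b hb z hz)
      exact hle hy
    exact hm y hy
  exact le_trans le_sup_left (hN.le_of_ge hsup le_sup_right)

namespace Beta

variable {M V : Subgroup G} {R Q : I → Subgroup G} (h : Beta M V R Q)
include h

theorem Q_V (i : I) : Q i ≤ normalizer (V : Set G) := le_trans (h.Q_M i) h.M_V

theorem cenV_iff {x : G} : x ∈ centralizer (V : Set G) ↔ ∀ v ∈ V, v * x = x * v := by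
  have _ := h
  rw [mem_centralizer_iff]; rfl

theorem V_CV : V ≤ centralizer (V : Set G) := fun v hv => by
  rw [h.cenV_iff]
  intro w hw
  exact h.V_comm w hw v hv

theorem CV_NR (i : I) : centralizer (V : Set G) ≤ normalizer (R i : Set G) := by
  intro x hx
  apply mem_normalizer_of_cj
  apply cj_eq_of_comm
  intro r hr
  exact (h.cenV_iff.1 hx r (h.R_le i hr)).symm

theorem CV_NV : centralizer (V : Set G) ≤ normalizer (V : Set G) := by
  intro x hx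
  apply mem_normalizer_of_cj
  apply cj_eq_of_comm
  intro r hr
  exact (h.cenV_iff.1 hx r hr).symm

theorem Q_NR (i : I) : Q i ≤ normalizer (R i : Set G) := by
  intro y hy
  apply mem_normalizer_of_cj
  apply cj_eq_of_comm
  intro r hr
  exact (h.RQ i r hr y hy).symm

theorem R_conj {i : I} {c : G} (hc : c ∈ normalizer (R i : Set G)) {r : G} (hr : r ∈ R i) :
    c * r * c⁻¹ ∈ R i := (mem_normalizer_iff.1 hc r).1 hr

theorem nor' {i : I} {c : G} (hc : c ∈ normalizer (R i : Set G)) {y : G} (hy : y ∈ Q i) :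
    c⁻¹ * y * c ∈ Q i := by
  simpa using h.nor i c⁻¹ (inv_mem hc) y hy

theorem V_conj {c : G} (hc : c ∈ normalizer (V : Set G)) {v : G} (hv : v ∈ V) :
    c * v * c⁻¹ ∈ V := (mem_normalizer_iff.1 hc v).1 hv

theorem V_conj' {c : G} (hc : c ∈ normalizer (V : Set G)) {v : G} (hv : v ∈ V) :
    c⁻¹ * v * c ∈ V := by simpa using h.V_conj (inv_mem hc) hv

/-- `M` normalises `C(V)`. -/
theorem CV_conj {m : G} (hm : m ∈ normalizer (V : Set G)) {x : G}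
    (hx : x ∈ centralizer (V : Set G)) : m * x * m⁻¹ ∈ centralizer (V : Set G) := by
  rw [h.cenV_iff] at hx ⊢
  intro v hv
  have h2 := hx _ (h.V_conj' hm hv)
  calc v * (m * x * m⁻¹) = m * ((m⁻¹ * v * m) * x) * m⁻¹ := by group
    _ = m * (x * (m⁻¹ * v * m)) * m⁻¹ := by rw [h2]
    _ = m * x * m⁻¹ * v := by group

/-! ### (2) -/

theorem S_nor (i : I) {c : G} (hc : c ∈ normalizer (R i : Set G)) {n : G}
    (hn : n ∈ Qs V R Q i) : c * n * c⁻¹ ∈ Qs V R Q i := by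
  have _ := h
  refine Qs_induction (p := fun n => c * n * c⁻¹ ∈ Qs V R Q i) ?_ ?_ ?_ ?_ hn
  · simp
  · intro a b _ _ ha hb
    have := mul_mem ha hb
    have h2 : c * (a * b) * c⁻¹ = c * a * c⁻¹ * (c * b * c⁻¹) := by group
    rw [h2]; exact this
  · intro a _ ha
    have := inv_mem ha
    have h2 : c * a⁻¹ * c⁻¹ = (c * a * c⁻¹)⁻¹ := by group
    rw [h2]; exact this
  · intro d hd e he
    refine subset_closure ⟨c * d, mul_mem hc hd, e, he, ?_⟩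
    group

theorem S_nor' (i : I) {c : G} (hc : c ∈ normalizer (R i : Set G)) {n : G}
    (hn : n ∈ Qs V R Q i) : c⁻¹ * n * c ∈ Qs V R Q i := by
  simpa using h.S_nor i (inv_mem hc) hn

theorem S_le (i : I) : Qs V R Q i ≤ Q i := by
  unfold Qs
  rw [closure_le]
  rintro x ⟨c, hc, e, he, rfl⟩
  exact h.nor i c hc e he.2

theorem E_le (i : I) : V ⊓ Q i ≤ Qs V R Q i := by
  have _ := h
  intro e he
  exact subset_closure ⟨1, one_mem _, e, he, by group⟩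

theorem S_cen (i : I) (y : G) (hy : ∀ c ∈ normalizer (R i : Set G), ∀ e ∈ V ⊓ Q i,
    (c * e * c⁻¹) * y = y * (c * e * c⁻¹)) : y ∈ centralizer (Qs V R Q i : Set G) := by
  have _ := h
  rw [mem_centralizer_iff]
  intro n hn
  refine Qs_induction (p := fun n => n * y = y * n) ?_ ?_ ?_ ?_ hn
  · simp
  · intro a b _ _ ha hb
    rw [mul_assoc, hb, ← mul_assoc, ha, mul_assoc]
  · intro a _ ha
    calc a⁻¹ * y = a⁻¹ * (y * a) * a⁻¹ := by group
      _ = a⁻¹ * (a * y) * a⁻¹ := by rw [ha]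
      _ = y * a⁻¹ := by group
  · exact hy

theorem SQ (i : I) {n : G} (hn : n ∈ Qs V R Q i) : ∀ y ∈ Q i, n⁻¹ * y⁻¹ * n * y ∈ R i := by
  refine Qs_induction (p := fun n => ∀ y ∈ Q i, n⁻¹ * y⁻¹ * n * y ∈ R i) ?_ ?_ ?_ ?_ hn
  · intro y _; simp
  · intro a b ha hb hpa hpb y hy
    have h1 := hpa y hy
    have h2 := hpb y hy
    have h3 := h.RQ i _ h1 b (h.S_le i hb)
    have h4 : (a * b)⁻¹ * y⁻¹ * (a * b) * y
        = b⁻¹ * ((a⁻¹ * y⁻¹ * a * y) * (y⁻¹ * b * y)) := by group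
    have h5 : y⁻¹ * b * y ∈ Q i := by
      exact h.nor' (h.Q_NR i hy) (h.S_le i hb)
    rw [h4, h.RQ i _ h1 _ h5]
    have h6 : b⁻¹ * (y⁻¹ * b * y * (a⁻¹ * y⁻¹ * a * y))
        = (b⁻¹ * y⁻¹ * b * y) * (a⁻¹ * y⁻¹ * a * y) := by group
    rw [h6]
    exact mul_mem h2 h1
  · intro a ha hpa y hy
    have h1 := hpa y hy
    have h3 := h.RQ i _ (inv_mem h1) a (h.S_le i ha)
    have h4 : a⁻¹⁻¹ * y⁻¹ * a⁻¹ * y = a * (y⁻¹ * a⁻¹ * y * a) * a⁻¹ := by group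
    have h5 : y⁻¹ * a⁻¹ * y * a = (a⁻¹ * y⁻¹ * a * y)⁻¹ := by group
    rw [h4, h5]
    have : a * (a⁻¹ * y⁻¹ * a * y)⁻¹ * a⁻¹ = (a⁻¹ * y⁻¹ * a * y)⁻¹ := by
      rw [← h3]; group
    rw [this]
    exact inv_mem h1
  · intro c hc e he y hy
    have h1 : c⁻¹ * y * c ∈ Q i := h.nor' hc hy
    have h2 := h.EQ i e he _ h1
    have h3 := h.R_conj hc h2
    have h4 : (c * e * c⁻¹)⁻¹ * y⁻¹ * (c * e * c⁻¹) * y
        = c * (e⁻¹ * (c⁻¹ * y * c)⁻¹ * e * (c⁻¹ * y * c)) * c⁻¹ := by group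
    rw [h4]; exact h3

theorem S_sq (i : I) {n : G} (hn : n ∈ Qs V R Q i) : n * n ∈ R i := by
  refine Qs_induction (p := fun n => n * n ∈ R i) ?_ ?_ ?_ ?_ hn
  · simp
  · intro a b ha hb hpa hpb
    have h1 := h.SQ i hb _ (inv_mem (h.S_le i ha))
    -- b⁻¹ a b a⁻¹ ∈ R
    have h2 : a * b * (a * b) = a * a * (b * b) * ((b⁻¹ * a⁻¹⁻¹ * b * a⁻¹) * 1)
        → a * b * (a * b) ∈ R i := by
      intro h3
      rw [h3]
      exact mul_mem (mul_mem hpa hpb) (mul_mem h1 (one_mem _))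
    -- direct
    have h3 : a * b * (a * b) = a * (b * (a * b * a⁻¹)) * a := by group
    have h4 : b⁻¹ * (b⁻¹ * a⁻¹⁻¹ * b * a⁻¹)⁻¹ * b ∈ R i := by
      have := h.RQ i _ (inv_mem h1) b (h.S_le i hb)
      have h5 : b⁻¹ * (b⁻¹ * a⁻¹⁻¹ * b * a⁻¹)⁻¹ * b = (b⁻¹ * a⁻¹⁻¹ * b * a⁻¹)⁻¹ := by
        rw [mul_assoc, this]; group
      rw [h5]; exact inv_mem h1
    have h6 := h.RQ i _ h1 a (h.S_le i ha)
    have h7 : a * b * (a * b) = a * (b * b) * ((b⁻¹ * a⁻¹⁻¹ * b * a⁻¹) * a) := by group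
    rw [h7, h6]
    have h8 := h.RQ i _ hpb a (h.S_le i ha)
    have h9 : a * (b * b) * (a * (b⁻¹ * a⁻¹⁻¹ * b * a⁻¹))
        = (a * (b * b)) * a * (b⁻¹ * a⁻¹⁻¹ * b * a⁻¹) := by group
    rw [h9, ← h8, mul_assoc (b * b) a a]
    exact mul_mem (mul_mem hpb hpa) h1
  · intro a _ ha
    have := inv_mem ha
    rwa [mul_inv_rev] at this
  · intro c hc e he
    have h1 : c * e * c⁻¹ * (c * e * c⁻¹) = c * (e * e) * c⁻¹ := by group
    rw [h1, h.V_sq e he.1]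
    simp

end Beta

end Cfsg.Agent.Omega.NO1.Beta

end

section


/-!
# THEOREM BETA, steps (2)-(4): `Beta.pre : Beta M V R Q → Pre V R Q (Qs V R Q)`
-/

set_option autoImplicit false
set_option linter.dupNamespace false
set_option linter.unusedSectionVars false
set_option linter.unusedVariables false

open Subgroup
open scoped Pointwise

namespace Cfsg.Agent.Omega.NO1.Beta

open Meet

variable {G : Type*} [Group G] {I : Type*}

namespace Beta

variable {M V : Subgroup G} {R Q : I → Subgroup G} (h : Beta M V R Q)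
include h

/-! ### (2), cover -/

theorem V_NR (i : I) : V ≤ normalizer (R i : Set G) := le_trans h.V_CV (h.CV_NR i)

/-- `[v, y] ∈ E i` for `v ∈ V`, `y ∈ Q i` -/
theorem VQ (i : I) {v y : G} (hv : v ∈ V) (hy : y ∈ Q i) : v⁻¹ * y⁻¹ * v * y ∈ V ⊓ Q i := by
  constructor
  · have h1 : y⁻¹ * v * y ∈ V := h.V_conj' (h.Q_V i hy) hv
    have h2 : v⁻¹ * y⁻¹ * v * y = v⁻¹ * (y⁻¹ * v * y) := by group
    show v⁻¹ * y⁻¹ * v * y ∈ V
    rw [h2]; exact V.mul_mem (V.inv_mem hv) h1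
  · have h1 : v⁻¹ * y⁻¹ * v ∈ Q i := h.nor' (h.V_NR i hv) (inv_mem hy)
    exact (Q i).mul_mem h1 hy

/-- `K i = ⟨V^{N(R i)}⟩` centralises `Qs` and `[Q, K] ≤ Qs` as soon as `Qs ≤ C(V)`. -/
theorem not_le_CV (i : I) : ¬ Qs V R Q i ≤ centralizer (V : Set G) := by
  intro hle
  let K : Subgroup G := closure {x : G | ∃ c ∈ normalizer (R i : Set G), ∃ v ∈ V, x = c * v * c⁻¹}
  -- K centralises Qs
  have hKc : ∀ k ∈ K, ∀ n ∈ Qs V R Q i, k * n = n * k := by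
    intro k hk
    refine closure_induction (p := fun k _ => ∀ n ∈ Qs V R Q i, k * n = n * k) ?_ ?_ ?_ ?_ hk
    · rintro x ⟨c, hc, v, hv, rfl⟩ n hn
      have h1 := h.S_nor' i hc hn
      have h2 := h.cenV_iff.1 (hle h1) v hv
      calc c * v * c⁻¹ * n = c * (v * (c⁻¹ * n * c)) * c⁻¹ := by group
        _ = c * ((c⁻¹ * n * c) * v) * c⁻¹ := by rw [h2]
        _ = n * (c * v * c⁻¹) := by group
    · intro n _; simp
    · intro a b _ _ ha hb n hn
      rw [mul_assoc, hb n hn, ← mul_assoc, ha n hn, mul_assoc]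
    · intro a _ ha n hn
      have := ha n hn
      calc a⁻¹ * n = a⁻¹ * (n * a) * a⁻¹ := by group
        _ = a⁻¹ * (a * n) * a⁻¹ := by rw [this]
        _ = n * a⁻¹ := by group
  have hKR : ∀ k ∈ K, k ∈ normalizer (R i : Set G) := by
    intro k hk
    refine closure_induction (p := fun k _ => k ∈ normalizer (R i : Set G)) ?_ ?_ ?_ ?_ hk
    · rintro x ⟨c, hc, v, hv, rfl⟩
      exact mul_mem (mul_mem hc (h.V_NR i hv)) (inv_mem hc)
    · exact one_mem _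
    · intro a b _ _ ha hb
      exact mul_mem ha hb
    · intro a _ ha
      exact inv_mem ha
  -- [Q, K] ≤ Qs
  have hKQ : ∀ k ∈ K, ∀ y ∈ Q i, k⁻¹ * y⁻¹ * k * y ∈ Qs V R Q i := by
    intro k hk
    refine closure_induction
      (p := fun k _ => ∀ y ∈ Q i, k⁻¹ * y⁻¹ * k * y ∈ Qs V R Q i) ?_ ?_ ?_ ?_ hk
    · rintro x ⟨c, hc, v, hv, rfl⟩ y hy
      have h1 := h.E_le i (h.VQ i hv (h.nor' hc hy))
      have h2 := h.S_nor i hc h1
      have h3 : (c * v * c⁻¹)⁻¹ * y⁻¹ * (c * v * c⁻¹) * y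
          = c * (v⁻¹ * (c⁻¹ * y * c)⁻¹ * v * (c⁻¹ * y * c)) * c⁻¹ := by group
      rw [h3]; exact h2
    · intro y _; simp
    · intro a b hak hbk ha hb y hy
      have h1 := ha y hy
      have h2 := hb y hy
      have h3 := h.S_nor' i (hKR b hbk) h1
      have h4 : (a * b)⁻¹ * y⁻¹ * (a * b) * y
          = b⁻¹ * (a⁻¹ * y⁻¹ * a * y) * b * (b⁻¹ * y⁻¹ * b * y) := by group
      rw [h4]; exact mul_mem h3 h2
    · intro a hak ha y hy
      have h1 := inv_mem (ha y hy)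
      have h3 := h.S_nor i (hKR a hak) h1
      have h4 : a⁻¹⁻¹ * y⁻¹ * a⁻¹ * y = a * (a⁻¹ * y⁻¹ * a * y)⁻¹ * a⁻¹ := by group
      rw [h4]; exact h3
  -- k^4 centralises Q
  have hk4 : ∀ k ∈ K, k ^ 4 ∈ Q i := by
    intro k hk
    apply h.char2 i
    rw [mem_centralizer_iff]
    intro y hy
    -- y⁻¹ k y = k s
    have hs := hKQ k hk y hy
    set s := k⁻¹ * y⁻¹ * k * y with hsdef
    have hks : k * s = s * k := hKc k hk s hs
    have hconj : y⁻¹ * k * y = k * s := by rw [hsdef]; group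
    have hs2 : s * s ∈ R i := h.S_sq i hs
    have hs4 : s ^ 4 = 1 := by
      have := h.V_sq _ (h.R_le i hs2)
      calc s ^ 4 = s * s * (s * s) := by simp [pow_succ, mul_assoc]
        _ = 1 := this
    have h5 : (y⁻¹ * k * y) ^ 4 = k ^ 4 := by
      rw [hconj]
      have hc : Commute k s := hks
      rw [hc.mul_pow, hs4, mul_one]
    have h6 : (y⁻¹ * k * y) ^ 4 = y⁻¹ * k ^ 4 * y := by
      have := conj_pow (a := y⁻¹) (b := k) (i := 4)
      simpa using this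
    rw [h6] at h5
    show y * k ^ 4 = k ^ 4 * y
    calc y * k ^ 4 = y * (y⁻¹ * k ^ 4 * y) := by rw [h5]
      _ = k ^ 4 * y := by group
  have hK2 : IsPGroup 2 K := by
    intro k
    obtain ⟨n, hn⟩ := h.two i ⟨(k : G) ^ 4, hk4 k k.2⟩
    refine ⟨2 + n, ?_⟩
    apply Subtype.ext
    have h1 : ((k : G) ^ 4) ^ 2 ^ n = 1 := by simpa using congrArg Subtype.val hn
    rw [pow_add, pow_mul]
    simpa using h1
  have hKle : K ≤ Q i := by
    refine h.max i K hK2 (fun k hk => hKR k hk) ?_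
    intro c hc k hk
    refine closure_induction (p := fun k _ => c * k * c⁻¹ ∈ K) ?_ ?_ ?_ ?_ hk
    · rintro x ⟨d, hd, v, hv, rfl⟩
      refine subset_closure ⟨c * d, mul_mem hc hd, v, hv, ?_⟩
      group
    · simp
    · intro a b _ _ ha hb
      have h2 : c * (a * b) * c⁻¹ = c * a * c⁻¹ * (c * b * c⁻¹) := by group
      rw [h2]; exact mul_mem ha hb
    · intro a _ ha
      have h2 : c * a⁻¹ * c⁻¹ = (c * a * c⁻¹)⁻¹ := by group
      rw [h2]; exact inv_mem ha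
  refine h.V_Q i (le_trans ?_ hKle)
  intro v hv
  exact subset_closure ⟨1, one_mem _, v, hv, by group⟩

theorem cover (i : I) : ∀ y ∈ Q i, ∃ n ∈ Qs V R Q i, y⁻¹ * n ∈ centralizer (V : Set G) :=
  h.irr i (Qs V R Q i) (h.S_le i) (fun m _ hm y hy => h.S_nor i hm hy) (h.not_le_CV i)

/-! ### (3) -/

/-- `D i` -/
def D (_ : Beta M V R Q) (i : I) : Subgroup G := Q i ⊓ centralizer (Qs V R Q i : Set G)

theorem mem_D {i : I} {d : G} : d ∈ h.D i ↔ d ∈ Q i ∧ ∀ n ∈ Qs V R Q i, n * d = d * n := by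
  rw [D, mem_inf, mem_centralizer_iff]; rfl

theorem D_V (i : I) : h.D i ≤ centralizer (V : Set G) := by
  intro d hd
  rw [h.mem_D] at hd
  by_contra hcon
  obtain ⟨r, hr, hr1⟩ : ∃ r ∈ R i, r ≠ 1 := by
    by_contra hc
    push Not at hc
    exact h.ne i ((eq_bot_iff_forall _).2 hc)
  obtain ⟨e, he, hee⟩ := h.EQs i d hd.1 hcon r hr
  have h1 := hd.2 e (h.E_le i he)
  apply hr1
  rw [← hee]
  calc e⁻¹ * d⁻¹ * e * d = e⁻¹ * d⁻¹ * (e * d) := by group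
    _ = e⁻¹ * d⁻¹ * (d * e) := by rw [h1]
    _ = 1 := by group

/-- elements normalising `R i` normalise `D i` -/
theorem D_nor (i : I) {c : G} (hc : c ∈ normalizer (R i : Set G)) {d : G} (hd : d ∈ h.D i) :
    c * d * c⁻¹ ∈ h.D i := by
  rw [h.mem_D] at hd ⊢
  refine ⟨h.nor i c hc d hd.1, fun n hn => ?_⟩
  have h1 := hd.2 _ (h.S_nor' i hc hn)
  calc n * (c * d * c⁻¹) = c * ((c⁻¹ * n * c) * d) * c⁻¹ := by group
    _ = c * (d * (c⁻¹ * n * c)) * c⁻¹ := by rw [h1]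
    _ = c * d * c⁻¹ * n := by group

/-- moving `Qs` and `D`: if `m` maps `(R i, Q i)` to `(R j, Q j)` and normalises `V`, it maps `Qs i` to `Qs j`. -/
theorem S_move {i j : I} {m : G} (hm : m ∈ M) (hR : cj m (R i) = R j)
    (hQ : cj m (Q i) = Q j) {n : G} (hn : n ∈ Qs V R Q i) : m * n * m⁻¹ ∈ Qs V R Q j := by
  refine Qs_induction (p := fun n => m * n * m⁻¹ ∈ Qs V R Q j) ?_ ?_ ?_ ?_ hn
  · simp
  · intro a b _ _ ha hb
    have h2 : m * (a * b) * m⁻¹ = m * a * m⁻¹ * (m * b * m⁻¹) := by group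
    rw [h2]; exact mul_mem ha hb
  · intro a _ ha
    have h2 : m * a⁻¹ * m⁻¹ = (m * a * m⁻¹)⁻¹ := by group
    rw [h2]; exact inv_mem ha
  · intro c hc e he
    refine subset_closure ⟨m * c * m⁻¹, ?_, m * e * m⁻¹, ⟨h.V_conj (h.M_V hm) he.1, ?_⟩, by group⟩
    · apply mem_normalizer_of_cj
      have hcR : cj c (R i) = R i := cj_of_mem_normalizer hc
      have h3 : cj m⁻¹ (R j) = R i := by
        rw [← hR, ← cj_mul]
        simp [cj]
      rw [cj_mul, cj_mul, h3, hcR, hR]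
    · rw [← hQ]
      exact conj_mem_cj he.2

theorem inj_R {i j : I} (hij : R i = R j) : i = j := by
  by_contra hne
  have := h.disj i j hne
  rw [hij, inf_idem] at this
  exact h.ne j this

/-- from `cj m (R i) = R j` get also the `Q`s -/
theorem moveQ {i j : I} {m : G} (hm : m ∈ M) (hR : cj m (R i) = R j) :
    cj m (Q i) = Q j := by
  obtain ⟨k, hk, hk'⟩ := h.perm m hm i
  have : k = j := h.inj_R (by rw [← hk, hR])
  rw [hk', this]

theorem cj_inv_eq {m : G} {H K : Subgroup G} (hm : cj m H = K) : cj m⁻¹ K = H := by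
  rw [← hm, ← cj_mul]
  simp [cj]

theorem D_move {i j : I} {m : G} (hm : m ∈ M) (hR : cj m (R i) = R j)
    {d : G} (hd : d ∈ h.D i) : m * d * m⁻¹ ∈ h.D j := by
  rw [h.mem_D] at hd ⊢
  have hQ := h.moveQ hm hR
  refine ⟨by rw [← hQ]; exact conj_mem_cj hd.1, fun n hn => ?_⟩
  have hR' := h.cj_inv_eq hR
  have h1 : m⁻¹ * n * m ∈ Qs V R Q i := by
    have := h.S_move (inv_mem hm) hR' (h.moveQ (inv_mem hm) hR') hn
    simpa using this
  have h2 := hd.2 _ h1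
  calc n * (m * d * m⁻¹) = m * ((m⁻¹ * n * m) * d) * m⁻¹ := by group
    _ = m * (d * (m⁻¹ * n * m)) * m⁻¹ := by rw [h2]
    _ = m * d * m⁻¹ * n := by group

/-- (`tran` inside `Qs`) -/
theorem tranS {i j k : I} (hj : j ≠ i) (hk : k ≠ i) : ∃ n ∈ Qs V R Q i, cj n (R j) = R k := by
  obtain ⟨y, hy, hyR⟩ := h.tran i j k hj hk
  obtain ⟨n, hn, hyn⟩ := h.cover i y hy
  refine ⟨n, hn, ?_⟩
  have h1 : n = y * (y⁻¹ * n) := by group
  rw [h1, cj_mul, cj_of_mem_normalizer (h.CV_NR j hyn), hyR]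

/-- Whoever commutes with `Qs i` and `Qs j` commutes with all `Qs k`. -/
theorem cen_all {i j : I} (hij : i ≠ j) {b : G} (hi : ∀ n ∈ Qs V R Q i, n * b = b * n)
    (hj : ∀ n ∈ Qs V R Q j, n * b = b * n) (k : I) : ∀ n ∈ Qs V R Q k, n * b = b * n := by
  by_cases hk : k = j
  · subst hk; exact hj
  · obtain ⟨m, hm, hmR⟩ := h.tranS hij hk
    have hmN : m ∈ M := h.Q_M j (h.S_le j hm)
    intro n hn
    have hR' := h.cj_inv_eq hmR
    have h1 : m⁻¹ * n * m ∈ Qs V R Q i := by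
      have := h.S_move (inv_mem hmN) hR' (h.moveQ (inv_mem hmN) hR') hn
      simpa using this
    have h2 := hi _ h1
    have h3 := hj _ hm
    have h4 := hj _ (inv_mem hm)
    calc n * b = m * (m⁻¹ * n * m) * (m⁻¹ * b) := by group
      _ = m * ((m⁻¹ * n * m) * b) * m⁻¹ := by rw [h4]; group
      _ = m * b * (m⁻¹ * n * m) * m⁻¹ := by rw [h2]; group
      _ = b * n := by rw [h3]; group

theorem exists_ne [Finite I] (i : I) : ∃ j, j ≠ i := by
  have h1 := h.big i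
  have h2 : 0 < Nat.card (R i) ∨ Nat.card (R i) = 0 := by omega
  by_contra hcon
  push Not at hcon
  have : Subsingleton I := ⟨fun a b => by rw [hcon a, hcon b]⟩
  have h3 : Nat.card I ≤ 1 := Finite.card_le_one_iff_subsingleton.2 this
  omega

variable [Finite G]

/-- the two-core of `B = {b ∈ C(V) | b commutes with all Qs k}` is trivial -/
theorem D_inf {i j : I} (hij : i ≠ j) : h.D i ⊓ h.D j = ⊥ := by
  -- B
  let B : Subgroup G := centralizer (V : Set G) ⊓ ⨅ k : I, centralizer (Qs V R Q k : Set G)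
  have hB : ∀ b, b ∈ B ↔ b ∈ centralizer (V : Set G) ∧ ∀ k, ∀ n ∈ Qs V R Q k, n * b = b * n := by
    intro b
    simp only [B, mem_inf, mem_iInf, mem_centralizer_iff]
    rfl
  have hMB : ∀ m ∈ M, ∀ b ∈ B, m * b * m⁻¹ ∈ B := by
    intro m hm b hb
    rw [hB] at hb ⊢
    refine ⟨h.CV_conj (h.M_V hm) hb.1, fun k n hn => ?_⟩
    obtain ⟨l, hl, hl'⟩ := h.perm m⁻¹ (inv_mem hm) k
    have h1 : m⁻¹ * n * m ∈ Qs V R Q l := by
      have := h.S_move (inv_mem hm) hl hl' hn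
      simpa using this
    have h2 := hb.2 l _ h1
    calc n * (m * b * m⁻¹) = m * ((m⁻¹ * n * m) * b) * m⁻¹ := by group
      _ = m * (b * (m⁻¹ * n * m)) * m⁻¹ := by rw [h2]
      _ = m * b * m⁻¹ * n := by group
  obtain ⟨N, hN2, hNB, hNn, hNmax⟩ := exists_two_core B
  have hNV : N ≤ M := fun x hx => h.C_M ((hB x).1 (hNB hx)).1
  have hNM : ∀ m ∈ M, ∀ y ∈ N, m * y * m⁻¹ ∈ N := by
    intro m hm y hy
    have h1 : N.map (MulAut.conj m).toMonoidHom ≤ N := by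
      apply hNmax
      · exact hN2.map _
      · rintro x ⟨z, hz, rfl⟩
        exact hMB m hm z (hNB hz)
      · rintro b hb x ⟨z, hz, rfl⟩
        refine ⟨(m⁻¹ * b * m) * z * (m⁻¹ * b * m)⁻¹, ?_, ?_⟩
        · have h2 : m⁻¹ * b * m ∈ B := by simpa using hMB m⁻¹ (inv_mem hm) b hb
          exact hNn _ h2 z hz
        · simp only [MulEquiv.coe_toMonoidHom, MulAut.conj_apply]
          group
    exact h1 ⟨y, hy, rfl⟩
  have hNVb : N ⊓ V = ⊥ := by
    rw [eq_bot_iff_forall]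
    rintro v ⟨hvN, hvV⟩
    have hv := ((hB v).1 (hNB hvN)).2
    have h1 : ∀ k, v ∈ R k := by
      intro k
      refine h.cenR k v hvV fun y hy => ?_
      obtain ⟨n, hn, hyn⟩ := h.cover k y hy
      have h2 := hv k n hn
      have h3 := h.cenV_iff.1 hyn v hvV
      -- y = n (y⁻¹ n)⁻¹
      have h4 : v * (y⁻¹ * n)⁻¹ = (y⁻¹ * n)⁻¹ * v := by
        calc v * (y⁻¹ * n)⁻¹ = (y⁻¹ * n)⁻¹ * ((y⁻¹ * n) * v) * (y⁻¹ * n)⁻¹ := by group
          _ = (y⁻¹ * n)⁻¹ * (v * (y⁻¹ * n)) * (y⁻¹ * n)⁻¹ := by rw [h3]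
          _ = (y⁻¹ * n)⁻¹ * v := by group
      calc v * y = v * n * (y⁻¹ * n)⁻¹ := by group
        _ = n * v * (y⁻¹ * n)⁻¹ := by rw [h2]
        _ = n * (v * (y⁻¹ * n)⁻¹) := by group
        _ = n * ((y⁻¹ * n)⁻¹ * v) := by rw [h4]
        _ = y * v := by group
    have h2 : v ∈ R i ⊓ R j := ⟨h1 i, h1 j⟩
    rw [h.disj i j hij, mem_bot] at h2
    exact h2
  have hNbot := h.meet N hN2 hNV hNM hNVb
  rw [eq_bot_iff, ← hNbot]
  apply hNmax
  · exact (h.two i).to_le (inf_le_left.trans inf_le_left)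
  · rintro b ⟨hbi, hbj⟩
    rw [hB]
    exact ⟨h.D_V i hbi, h.cen_all hij (h.mem_D.1 hbi).2 (h.mem_D.1 hbj).2⟩
  · rintro b hb y ⟨hyi, hyj⟩
    have hbV := ((hB b).1 hb).1
    exact ⟨h.D_nor i (h.CV_NR i hbV) hyi, h.D_nor j (h.CV_NR j hbV) hyj⟩

theorem eq_one_of_D {i j : I} (hij : i ≠ j) {d : G} (hi : d ∈ h.D i) (hj : d ∈ h.D j) :
    d = 1 := by
  have : d ∈ h.D i ⊓ h.D j := ⟨hi, hj⟩
  rw [h.D_inf hij] at this
  exact mem_bot.1 this

theorem D_comm {i j : I} (hij : i ≠ j) {a b : G} (ha : a ∈ h.D i) (hb : b ∈ h.D j) :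
    a * b = b * a := by
  have h1 : a * b * a⁻¹ * b⁻¹ ∈ h.D i := by
    have := h.D_nor i (h.CV_NR i (h.D_V j hb)) (inv_mem ha)
    have h2 : a * b * a⁻¹ * b⁻¹ = a * (b * a⁻¹ * b⁻¹) := by group
    rw [h2]; exact mul_mem ha this
  have h2 : a * b * a⁻¹ * b⁻¹ ∈ h.D j := by
    have := h.D_nor j (h.CV_NR j (h.D_V i ha)) hb
    exact mul_mem this (inv_mem hb)
  have h3 := h.eq_one_of_D hij h1 h2
  calc a * b = (a * b * a⁻¹ * b⁻¹) * (b * a) := by group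
    _ = b * a := by rw [h3, one_mul]

/-! ### (4) -/

/-- (4a) -/
theorem four_a [Finite I] {i j : I} (hij : i ≠ j) {c : G} (hc : c ∈ h.D j)
    (hcR : ∀ y ∈ Qs V R Q i, c⁻¹ * y⁻¹ * c * y ∈ R i) : c = 1 := by
  classical
  have hji : j ≠ i := fun e => hij e.symm
  choose! f hf hfR using fun k (hk : k ≠ i) => h.tranS (j := j) (k := k) hji hk
  -- the map `k ↦ [c, f k]`
  let g : {k : I // k ≠ i} → R i := fun k =>
    ⟨c⁻¹ * (f k)⁻¹ * c * (f k), hcR _ (hf k k.2)⟩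
  have hcard : Nat.card (R i) < Nat.card {k : I // k ≠ i} := by
    have h1 := h.big i
    have h2 : Nat.card {k : I // k ≠ i} + 1 = Nat.card I := by
      have := Fintype.ofFinite I
      rw [Nat.card_eq_fintype_card, Nat.card_eq_fintype_card]
      have := Fintype.card_subtype_compl (fun k : I => k = i)
      rw [Fintype.card_subtype_eq] at this
      have h3 : 0 < Fintype.card I := Fintype.card_pos_iff.2 ⟨i⟩
      change Fintype.card {k : I // ¬ k = i} + 1 = Fintype.card I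
      omega
    omega
  obtain ⟨k, l, hkl, hg⟩ : ∃ k l : {k : I // k ≠ i}, k ≠ l ∧ g k = g l := by
    by_contra hcon
    push Not at hcon
    have : Function.Injective g := fun a b hab => by
      by_contra hne
      exact hcon a b hne hab
    exact absurd (Nat.card_le_card_of_injective g this) (by omega)
  have hkl' : (k : I) ≠ l := fun e => hkl (Subtype.ext e)
  have hg' : c⁻¹ * (f k)⁻¹ * c * (f k) = c⁻¹ * (f l)⁻¹ * c * (f l) := congrArg Subtype.val hg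
  set y := f k * (f l)⁻¹ with hy
  have hyS : y ∈ Qs V R Q i := mul_mem (hf k k.2) (inv_mem (hf l l.2))
  have hyQ : y ∈ Q i := h.S_le i hyS
  have hyM : y ∈ M := h.Q_M i hyQ
  have hyc : y * c * y⁻¹ = c := by
    have h1 : (f k)⁻¹ * c * (f k) = (f l)⁻¹ * c * (f l) := by
      have := congrArg (fun z => c * z) hg'
      simpa [mul_assoc] using this
    rw [hy]
    calc f k * (f l)⁻¹ * c * (f k * (f l)⁻¹)⁻¹ = f k * ((f l)⁻¹ * c * f l) * (f k)⁻¹ := by group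
      _ = f k * ((f k)⁻¹ * c * f k) * (f k)⁻¹ := by rw [h1]
      _ = c := by group
  obtain ⟨m, hm, hm'⟩ := h.perm y hyM j
  have hcm : c ∈ h.D m := by
    have := h.D_move hyM hm hc
    rwa [hyc] at this
  by_cases hmj : m = j
  · exfalso
    rw [hmj] at hm
    have hyV := h.fixj i j hij y hyQ hm
    have h1 : cj y (R l) = R l := cj_of_mem_normalizer (h.CV_NR l hyV)
    have h2 : cj y (R l) = R k := by
      rw [hy, cj_mul]
      have h3 : cj (f l)⁻¹ (R l) = R j := h.cj_inv_eq (hfR l l.2)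
      rw [h3, hfR k k.2]
    exact hkl' (h.inj_R (h2.symm.trans h1))
  · exact h.eq_one_of_D hmj hcm hc

/-- (4b) -/
theorem D_Q [Finite I] {i j : I} (hij : i ≠ j) {d : G} (hd : d ∈ h.D j) (hdQ : d ∈ Q i) :
    d = 1 := by
  refine h.four_a hij hd fun y hy => ?_
  have h1 := inv_mem (h.SQ i hy d hdQ)
  have h3 : d⁻¹ * y⁻¹ * d * y = (y⁻¹ * d⁻¹ * y * d)⁻¹ := by group
  rw [h3]; exact h1

/-- (4c) -/
theorem D_c [Finite I] {i j : I} (hij : i ≠ j) {d : G} (hd : d ∈ h.D j) {n : G}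
    (hn : n ∈ Qs V R Q i) (hnV : n ∈ centralizer (V : Set G)) : d * n = n * d := by
  have h1 : d⁻¹ * n⁻¹ * d * n ∈ h.D j := by
    have h2 := h.D_nor j (h.CV_NR j (inv_mem hnV)) hd
    have h3 : d⁻¹ * n⁻¹ * d * n = d⁻¹ * (n⁻¹ * d * n⁻¹⁻¹) := by group
    rw [h3]; exact mul_mem (inv_mem hd) h2
  have h2 : d⁻¹ * n⁻¹ * d * n ∈ Q i := by
    have h3 := h.S_nor' i (h.CV_NR i (h.D_V j hd)) (inv_mem hn)
    exact h.S_le i (mul_mem h3 hn)
  have h3 := h.D_Q hij h1 h2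
  calc d * n = n * d * (d⁻¹ * n⁻¹ * d * n) := by group
    _ = n * d := by rw [h3, mul_one]

/-- `d` and `d^y` commute. -/
theorem comm_conj [Finite I] {i j : I} (hij : i ≠ j) {d : G} (hd : d ∈ h.D j) {y : G}
    (hy : y ∈ Qs V R Q i) : d * (y⁻¹ * d * y) = (y⁻¹ * d * y) * d := by
  have hyM : y⁻¹ ∈ M := h.Q_M i (inv_mem (h.S_le i hy))
  obtain ⟨m, hm, hm'⟩ := h.perm y⁻¹ hyM j
  have h1 : y⁻¹ * d * y ∈ h.D m := by
    have := h.D_move hyM hm hd
    simpa using this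
  by_cases hmj : m = j
  · rw [hmj] at hm
    have h2 := h.fixj i j hij y⁻¹ (inv_mem (h.S_le i hy)) hm
    have h3 := h.D_c hij hd (inv_mem hy) h2
    have h4 : y⁻¹ * d * y = d := by rw [← h3]; group
    rw [h4]
  · exact h.D_comm (fun e => hmj e.symm) hd h1

/-- (4d) -/
theorem D_sq [Finite I] (j : I) {d : G} (hd : d ∈ h.D j) : d * d = 1 := by
  obtain ⟨i, hij⟩ := h.exists_ne j
  refine h.four_a hij (mul_mem hd hd) fun y hy => ?_
  have h1 : d⁻¹ * y⁻¹ * d * y ∈ Qs V R Q i := by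
    have h3 := h.S_nor' i (h.CV_NR i (h.D_V j hd)) (inv_mem hy)
    exact mul_mem h3 hy
  have h2 := h.S_sq i h1
  have h3 := h.comm_conj hij hd hy
  have h4 : (d * d)⁻¹ * y⁻¹ * (d * d) * y = d⁻¹ * y⁻¹ * d * y * (d⁻¹ * y⁻¹ * d * y) := by
    have h5 : (y⁻¹ * d * y) * d⁻¹ = d⁻¹ * (y⁻¹ * d * y) := by
      calc (y⁻¹ * d * y) * d⁻¹ = d⁻¹ * (d * (y⁻¹ * d * y)) * d⁻¹ := by group
        _ = d⁻¹ * ((y⁻¹ * d * y) * d) * d⁻¹ := by rw [h3]
        _ = d⁻¹ * (y⁻¹ * d * y) := by group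
    calc (d * d)⁻¹ * y⁻¹ * (d * d) * y
        = d⁻¹ * (d⁻¹ * (y⁻¹ * d * y)) * (y⁻¹ * d * y) := by group
      _ = d⁻¹ * ((y⁻¹ * d * y) * d⁻¹) * (y⁻¹ * d * y) := by rw [h5]
      _ = _ := by group
  rw [h4]; exact h2

theorem D_k [Finite I] {i j : I} (hij : i ≠ j) {d : G} (hd : d ∈ h.D j) {y : G}
    (hy : y ∈ Qs V R Q i) :
    (y⁻¹ * d⁻¹ * y * d) * (y⁻¹ * d⁻¹ * y * d) = 1 := by
  have h1 := h.D_sq j hd
  have hinv : d⁻¹ = d := by
    exact inv_eq_of_mul_eq_one_right h1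
  have h3 := h.comm_conj hij hd hy
  rw [hinv]
  calc y⁻¹ * d * y * d * (y⁻¹ * d * y * d)
      = (y⁻¹ * d * y) * (d * (y⁻¹ * d * y)) * d := by group
    _ = (y⁻¹ * d * y) * ((y⁻¹ * d * y) * d) * d := by rw [h3]
    _ = y⁻¹ * (d * d) * y * (d * d) := by group
    _ = 1 := by rw [h1]; group

/-- **Steps (2)-(4) of THEOREM BETA.** -/
theorem pre [Finite I] : Pre V R Q (Qs V R Q) where
  V_comm := h.V_comm
  V_sq := h.V_sq
  R_le := h.R_le
  R_Q := h.R_Q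
  RQ := h.RQ
  ne := h.ne
  two := h.two
  Q_V := h.Q_V
  nor := h.nor
  max := h.max
  char2 := h.char2
  EQs := h.EQs
  cenR := h.cenR
  cardE := h.cardE
  alt := h.alt
  S_cen := h.S_cen
  S_nor := fun i c hc n hn => h.S_nor i hc hn
  S_le := h.S_le
  E_le := h.E_le
  SQ := fun i n hn y hy => h.SQ i hn y hy
  S_sq := fun i n hn => h.S_sq i hn
  cover := h.cover
  D_V := h.D_V
  D_comm := fun i j hij a ha b hb => h.D_comm hij ha hb
  D_Q := fun i j hij d hd hdQ => h.D_Q hij hd hdQ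
  D_c := fun i j hij d hd n hn hnV => h.D_c hij hd hn hnV
  D_sq := fun j d hd => h.D_sq j hd
  D_k := fun i j hij d hd y hy => h.D_k hij hd hy

end Beta

end Cfsg.Agent.Omega.NO1.Beta

end

section


/-!
# THEOREM BETA

`Beta.result` : `Q i` is semi-extraspecial with centre `R i`.
`Beta.mt` : the input `Meet.Mt` of the next step.
-/

set_option autoImplicit false
set_option linter.dupNamespace false
set_option linter.unusedSectionVars false
set_option linter.unusedVariables false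

open Subgroup
open scoped Pointwise

namespace Cfsg.Agent.Omega.NO1.Beta

open Meet

variable {G : Type*} [Group G] {I : Type*}

namespace Beta

variable {M V : Subgroup G} {R Q : I → Subgroup G} (h : Beta M V R Q)
include h

/-- **THEOREM BETA.** -/
theorem result [Finite G] [Finite I] (i : I) :
    Q i = Qs V R Q i ∧ Q i ⊓ centralizer (Q i : Set G) = R i ∧
    (∀ x ∈ Q i, ∀ y ∈ Q i, x⁻¹ * y⁻¹ * x * y ∈ R i) ∧ (∀ x ∈ Q i, x * x ∈ R i) ∧
    (∀ y ∈ Q i, y ∉ R i → ∀ r ∈ R i, ∃ n ∈ Q i, n⁻¹ * y⁻¹ * n * y = r) :=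
  h.pre.result (fun j => h.exists_ne j) i

theorem R_D (i : I) : R i ≤ h.D i := by
  intro r hr
  rw [h.mem_D]
  exact ⟨h.R_Q i hr, fun n hn => (h.RQ i r hr n (h.S_le i hn)).symm⟩

theorem RQj [Finite G] [Finite I] {i j : I} (hij : i ≠ j) : R i ⊓ Q j = ⊥ := by
  rw [eq_bot_iff_forall]
  rintro r ⟨hr, hrQ⟩
  exact h.D_Q (fun e => hij e.symm) (h.R_D i hr) hrQ

theorem cj_Q (i : I) {c : G} (hc : c ∈ normalizer (R i : Set G)) : cj c (Q i) = Q i := by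
  ext x
  rw [mem_cj]
  constructor
  · intro hx
    have := h.nor i c hc _ hx
    have h2 : c * (c⁻¹ * x * c) * c⁻¹ = x := by group
    rwa [h2] at this
  · intro hx
    exact h.nor' hc hx

/-- The structure `Mt` of `Meet.lean`. -/
theorem mt [Finite G] [Finite I] (VE : ∀ i j, i ≠ j → V ≤ (V ⊓ Q i) ⊔ R j) : Mt V R Q where
  comm := h.V_comm
  R_le := h.R_le
  R_Q := h.R_Q
  RQ := h.RQ
  QQ := fun i y hy z hz => by
    have := (h.result i).2.2.1 y⁻¹ (inv_mem hy) z⁻¹ (inv_mem hz)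
    simpa using this
  Qsq := fun i y hy => (h.result i).2.2.2.1 y hy
  cen := fun i y hy hz => by
    rw [← (h.result i).2.1, mem_inf, mem_centralizer_iff]
    exact ⟨hy, fun z hz' => (hz z hz').symm⟩
  Q_V := h.Q_V
  nor := fun i c hc => h.cj_Q i hc
  fixj := h.fixj
  perm := fun i y hy j => h.perm y (h.Q_M i hy) j
  tran := h.tran
  inj := fun i j hij => h.inj_R hij
  RQj := fun i j hij => h.RQj hij
  VE := VE

end Beta

end Cfsg.Agent.Omega.NO1.Beta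

end

section


/-!
# THEOREM BETA, part E: the instance

`Hyp d O` : `d` coordinates on `V = O₄⁻(q)`, `O H = O₂(H)`, `Q = O₂(N(R₀)) ≤ M`, `N(R₀)` of characteristic 2,
`V ≰ Q`.  `Hyp.beta` : the structure `Beta` for the singular points.
-/

set_option autoImplicit false
set_option linter.unusedVariables false
set_option linter.unusedSectionVars false

open Subgroup
open scoped Pointwise

namespace Cfsg.Agent.Omega.NO1.Beta.Inst

/-- `O H = O₂(H)` -/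
structure IsO {G : Type*} [Group G] (O : Subgroup G → Subgroup G) : Prop where
  two : ∀ H, IsPGroup 2 (O H)
  le : ∀ H, O H ≤ H
  nor : ∀ H, ∀ c ∈ H, ∀ y ∈ O H, c * y * c⁻¹ ∈ O H
  max : ∀ H N : Subgroup G, IsPGroup 2 N → N ≤ H → (∀ c ∈ H, ∀ y ∈ N, c * y * c⁻¹ ∈ N) → N ≤ O H

namespace IsO

variable {G : Type*} [Group G] {O : Subgroup G → Subgroup G} (hO : IsO O)
include hO

theorem cj_le (g : G) (H : Subgroup G) : cj g (O H) ≤ O (cj g H) := by
  apply hO.max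
  · exact (hO.two H).map (MulAut.conj g).toMonoidHom
  · exact cj_mono (hO.le H)
  · intro c hc y hy
    rw [mem_cj] at hc hy ⊢
    have := hO.nor H _ hc _ hy
    have e : g⁻¹ * c * g * (g⁻¹ * y * g) * (g⁻¹ * c * g)⁻¹ = g⁻¹ * (c * y * c⁻¹) * g := by group
    rwa [e] at this

theorem cj_eq (g : G) (H : Subgroup G) : cj g (O H) = O (cj g H) := by
  apply le_antisymm (hO.cj_le g H)
  have h1 := hO.cj_le g⁻¹ (cj g H)
  rw [cj_inv_cj] at h1
  have h2 := cj_mono (c := g) h1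
  rwa [cj_cj_inv] at h2

end IsO

/-- `L.relIndex H = |A|` from an epimorphism `H → A` with kernel `L`. -/
theorem relIndex_eq_card {G A : Type*} [Group G] [AddGroup A] {H L : Subgroup G} (f : G → A)
    (hf : ∀ x ∈ H, ∀ y ∈ H, f (x * y) = f x + f y) (hs : ∀ a, ∃ x ∈ H, f x = a)
    (hk : ∀ x ∈ H, f x = 0 ↔ x ∈ L) : L.relIndex H = Nat.card A := by
  let φ : H →* Multiplicative A := MonoidHom.mk' (fun x => Multiplicative.ofAdd (f x)) (fun x y => by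
    rw [Subgroup.coe_mul, hf x x.2 y y.2, ofAdd_add])
  have h1 : L.subgroupOf H = φ.ker := by
    ext x
    rw [mem_subgroupOf, MonoidHom.mem_ker]
    exact (hk x x.2).symm
  have h2 : Function.Surjective φ := by
    intro a
    obtain ⟨x, hx, hxa⟩ := hs a.toAdd
    exact ⟨⟨x, hx⟩, by
      change Multiplicative.ofAdd (f x) = a
      rw [hxa, ofAdd_toAdd]⟩
  unfold relIndex
  rw [h1, Subgroup.index_ker, MonoidHom.range_eq_top.mpr h2]
  rw [Nat.card_congr (Subgroup.topEquiv (G := Multiplicative A)).toEquiv]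
  rfl

variable {G : Type*} [Group G] {K : Type*} [Field K] {σ : K ≃+* K} {M V : Subgroup G}

/-- The hypotheses of the instance. -/
structure Hyp [CharP K 2] (d : Co K σ M V) (O : Subgroup G → Subgroup G) : Prop where
  isO : IsO O
  C_M : centralizer (V : Set G) ≤ M
  Q_M : O (normalizer (d.R0 : Set G)) ≤ M
  char2 : ∀ x ∈ normalizer (d.R0 : Set G), (∀ y ∈ O (normalizer (d.R0 : Set G)), x * y = y * x) →
    x ∈ O (normalizer (d.R0 : Set G))
  V_Q : ¬ V ≤ O (normalizer (d.R0 : Set G))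

namespace Co

variable [CharP K 2] (d : Co K σ M V)

include d in
theorem exists_sqrt [Finite K] (x : K) : ∃ t : K, t * t = x := by
  have h1 : Function.Injective (fun t : K => t * t) := by
    intro a b hab
    have hab' : a * a = b * b := hab
    have h2 : (2 : K) = 0 := CharTwo.two_eq_zero
    have : (a - b) * (a - b) = 0 := by linear_combination hab' + b * (b - a) * h2
    exact sub_eq_zero.mp (mul_self_eq_zero.mp this)
  exact (Finite.injective_iff_surjective.mp h1) x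

include d in
theorem irr_all [Finite K] : Irr {t : K | t ≠ 0} := by
  intro B hB hne
  rw [eq_top_iff]
  intro c _
  obtain ⟨b, hb0⟩ := (AddSubgroup.ne_bot_iff_exists_ne_zero).mp hne
  have hb1 : (b : K) ≠ 0 := fun h0 => hb0 (Subtype.ext h0)
  by_cases hc : c = 0
  · rw [hc]; exact B.zero_mem
  · obtain ⟨t, ht⟩ := d.exists_sqrt (c / b)
    have ht0 : t ≠ 0 := by
      rintro rfl
      rw [mul_zero] at ht
      exact (div_ne_zero hc hb1) ht.symm
    have h1 := hB t ht0 b b.2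
    rw [ht, div_mul_cancel₀ _ hb1] at h1
    exact h1

theorem h_Y {g : G} {t : K} {ht : t ≠ 0} (hg : d.Act g (h t ht).1) {v : G} (hv : v ∈ V) :
    d.Y (g * v * g⁻¹) = t * d.Y v * (σ t)⁻¹ := by
  rw [hg.Y hv]
  simp [h]

theorem h_X {g : G} {t : K} {ht : t ≠ 0} (hg : d.Act g (h t ht).1) {v : G} (hv : v ∈ V) :
    d.X (g * v * g⁻¹) = t * d.X v * σ t := by
  rw [hg.X hv]
  simp [h]

theorem h_Z {g : G} {t : K} {ht : t ≠ 0} (hg : d.Act g (h t ht).1) {v : G} (hv : v ∈ V) :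
    d.Z (g * v * g⁻¹) = t⁻¹ * d.Z v * (σ t)⁻¹ := by
  rw [hg.Z hv]
  simp [h]

theorem h_R0 [Finite G] {g : G} (hM : g ∈ M) {t : K} {ht : t ≠ 0} (hg : d.Act g (h t ht).1) :
    cj g d.R0 = d.R0 := by
  refine (Subgroup.eq_of_le_of_card_ge ?_ (by rw [card_cj])).symm
  intro v hv
  rw [mem_cj]
  have h1 := d.conj_mem' (M.inv_mem hM) hv.1
  rw [inv_inv] at h1
  have e : g * (g⁻¹ * v * g) * g⁻¹ = v := by group
  have ht' : σ t ≠ 0 := fun h0 => ht ((map_eq_zero σ).mp h0)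
  refine ⟨h1, ?_, ?_⟩
  · have h2 := d.h_Y hg h1
    rw [e, hv.2.1] at h2
    rcases mul_eq_zero.mp h2.symm with h3 | h3
    · exact (mul_eq_zero.mp h3).resolve_left ht
    · exact absurd h3 (inv_ne_zero ht')
  · have h2 := d.h_Z hg h1
    rw [e, hv.2.2] at h2
    rcases mul_eq_zero.mp h2.symm with h3 | h3
    · exact (mul_eq_zero.mp h3).resolve_left (inv_ne_zero ht)
    · exact absurd h3 (inv_ne_zero ht')

/-- `V` centralises all points -/
theorem V_le_normalizer {R : Subgroup G} (d : Co K σ M V) (hR : R ≤ V) : V ≤ normalizer (R : Set G) := by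
  intro v hv
  rw [mem_normalizer_iff_cj]
  ext x
  rw [mem_cj]
  constructor
  · intro hx
    have h1 := d.comm hv (hR hx)
    have e : x = v * (v⁻¹ * x * v) * v⁻¹ := by group
    rw [e, h1, mul_inv_cancel_right]
    exact hx
  · intro hx
    have h1 := d.comm hv (hR hx)
    rw [mul_assoc, ← h1, inv_mul_cancel_left]
    exact hx

end Co

namespace Hyp

open Co (u l h w u_zero u_mul u_inv one_ne_u act_one act_one_iff)

variable [CharP K 2] {d : Co K σ M V} {O : Subgroup G → Subgroup G} (H : Hyp d O)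

/-- the group `Q = O₂(N(R₀))` -/
def Q (d : Co K σ M V) (O : Subgroup G → Subgroup G) : Subgroup G := O (normalizer (d.R0 : Set G))

include H

theorem conj_Q {c y : G} (hc : cj c d.R0 = d.R0) (hy : y ∈ Q d O) : c * y * c⁻¹ ∈ Q d O :=
  H.isO.nor _ c (mem_normalizer_iff_cj.mpr hc) y hy

theorem norm_Q {c : G} (hc : cj c d.R0 = d.R0) : c ∈ normalizer (Q d O : Set G) := by
  rw [mem_normalizer_iff]
  intro y
  refine ⟨fun hy => H.conj_Q hc hy, fun hy => ?_⟩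
  have hc' : cj c⁻¹ d.R0 = d.R0 := by
    have := congrArg (cj c⁻¹) hc
    rw [cj_inv_cj] at this
    exact this.symm
  have h1 := H.conj_Q hc' hy
  have e : c⁻¹ * (c * y * c⁻¹) * c⁻¹⁻¹ = y := by group
  rwa [e] at h1

theorem Q_R0 {y : G} (hy : y ∈ Q d O) : cj y d.R0 = d.R0 :=
  mem_normalizer_iff_cj.mp (H.isO.le _ hy)

/-- **step (1)** -/
theorem act_Q [Finite G] [Finite K] :
    (∀ y ∈ Q d O, ∃ a, d.Act y (u a).1) ∧ ∀ a, ∃ y ∈ Q d O, d.Act y (u a).1 := by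
  refine d.cover (T := {t : K | t ≠ 0}) (H.isO.two _) H.Q_M (fun y hy => H.Q_R0 hy) ?_ d.irr_all
    (fun t ht => ht) ?_ ?_
  · intro hc
    apply H.V_Q
    intro v hv
    apply H.char2 v (Co.V_le_normalizer d d.R0_le hv)
    intro y hy
    exact ((mem_centralizer_iff.mp (hc hy)) v hv)
  · intro g hg a ha
    exact H.norm_Q (Co.u_R0 hg ha)
  · intro t ht _ g hg ha
    exact H.norm_Q (d.h_R0 hg ha)

theorem R0_Q : d.R0 ≤ Q d O := by
  apply H.isO.max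
  · intro x
    refine ⟨1, ?_⟩
    apply Subtype.ext
    have := d.sq x.2.1
    simpa [pow_two] using this
  · exact le_normalizer
  · intro c hc y hy
    exact (mem_normalizer_iff.mp hc y).mp hy

theorem R0_central [Finite G] [Finite K] {r y : G} (hr : r ∈ d.R0) (hy : y ∈ Q d O) : r * y = y * r := by
  obtain ⟨a, ha⟩ := H.act_Q.1 y hy
  have h1 := d.fix_of_mem_R0 hr (H.Q_M hy) ha
  calc r * y = y * r * y⁻¹ * y := by rw [h1]
    _ = y * r := by group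

theorem comm_mem {v y : G} (hv : v ∈ V) (hy : y ∈ Q d O) : v * (y * v * y⁻¹) ∈ Q d O := by
  have h1 := H.conj_Q (mem_normalizer_iff_cj.mp (Co.V_le_normalizer d d.R0_le hv)) hy
  have h2 := (Q d O).mul_mem h1 ((Q d O).inv_mem hy)
  rw [d.inv_eq hv] at h2
  simpa [mul_assoc] using h2

/-- **`V ∩ Q = R₀^⊥`** -/
theorem V_inf_Q [Finite G] [Finite K] : V ⊓ Q d O = d.E0 := by
  have hE : d.E0 ≤ Q d O := by
    intro v hv
    obtain ⟨v1, hv1, x1, y1, z1⟩ := d.exists_v 0 0 1 (map_zero σ) (map_one σ)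
    obtain ⟨y, hy, hya⟩ := H.act_Q.2 (d.Y v)
    obtain ⟨w1, w2, w3, w4⟩ := Co.exists_wb v1 ⟨hv1, x1, y1⟩ (H.Q_M hy) hya
    have h1 := H.comm_mem hv1 hy
    set w := v1 * (y * v1 * y⁻¹) with hw
    have h2 : w⁻¹ * v ∈ d.R0 := by
      refine ⟨V.mul_mem (V.inv_mem w1) hv.1, ?_, ?_⟩
      · rw [d.inv_eq w1, d.Y_mul w1 hv.1, w3, z1, mul_one, CharTwo.add_self_eq_zero]
      · rw [d.inv_eq w1, d.Z_mul w1 hv.1, w4, hv.2, add_zero]
    have h3 := (Q d O).mul_mem h1 (H.R0_Q h2)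
    rwa [mul_inv_cancel_left] at h3
  apply le_antisymm
  · rintro v ⟨hv, hvQ⟩
    refine ⟨hv, ?_⟩
    by_contra hz
    apply H.V_Q
    intro x hx
    -- `(0, 0, Z x) ∈ Q`
    obtain ⟨v', hv', x', y', z'⟩ := d.exists_v 0 0 (d.Z v) (map_zero σ) (d.sZ hv)
    have h1 : v' ∈ Q d O := by
      have h2 : v'⁻¹ * v ∈ d.E0 := by
        refine ⟨V.mul_mem (V.inv_mem hv') hv, ?_⟩
        rw [d.inv_eq hv', d.Z_mul hv' hv, z', CharTwo.add_self_eq_zero]
      have h3 := (Q d O).mul_mem hvQ ((Q d O).inv_mem (hE h2))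
      have e : v * (v'⁻¹ * v)⁻¹ = v' := by group
      rwa [e] at h3
    obtain ⟨v'', hv'', x'', y'', z''⟩ := d.exists_v 0 0 (d.Z x) (map_zero σ) (d.sZ hx)
    have h2 : v'' ∈ Q d O := by
      by_cases hx0 : d.Z x = 0
      · have : v'' ∈ d.E0 := ⟨hv'', by rw [z'', hx0]⟩
        exact hE this
      · obtain ⟨t, ht⟩ := d.exists_sqrt (d.Z v / d.Z x)
        have ht0 : t ≠ 0 := by
          rintro rfl
          rw [mul_zero] at ht
          exact (div_ne_zero hz hx0) ht.symm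
        have hst : σ t = t := by
          have h3 : σ t * σ t = t * t := by
            rw [← map_mul, ht, map_div₀, d.sZ hv, d.sZ hx]
          have h4 : (σ t - t) * (σ t - t) = 0 := by
            have h2 : (2 : K) = 0 := CharTwo.two_eq_zero
            linear_combination h3 + t * (t - σ t) * h2
          exact sub_eq_zero.mp (mul_self_eq_zero.mp h4)
        obtain ⟨g, hg, hga⟩ := d.exists_act (h t ht0)
        have h5 := H.conj_Q (d.h_R0 hg hga) h1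
        have h6 : g * v' * g⁻¹ = v'' := by
          apply d.ext (d.conj_mem' hg hv') hv''
          · rw [d.h_X hga hv', x', x'']; simp
          · rw [d.h_Y hga hv', y', y'']; simp
          · rw [d.h_Z hga hv', z', z'', hst]
            have h7 : d.Z v = t * t * d.Z x := by rw [ht, div_mul_cancel₀ _ hx0]
            rw [h7]
            field_simp
        rwa [h6] at h5
    have h3 : v''⁻¹ * x ∈ d.E0 := by
      refine ⟨V.mul_mem (V.inv_mem hv'') hx, ?_⟩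
      rw [d.inv_eq hv'', d.Z_mul hv'' hx, z'', CharTwo.add_self_eq_zero]
    have h4 := (Q d O).mul_mem h2 (hE h3)
    rwa [mul_inv_cancel_left] at h4
  · exact le_inf d.E0_le hE

/-- `y⁻¹ e y` and `y e y⁻¹` -/
theorem act_inv [Finite G] [Finite K] {y : G} (hy : y ∈ Q d O) {a : K} (ha : d.Act y (u a).1) :
    d.Act y⁻¹ (u a).1 := by
  have := ha.inv (H.Q_M hy)
  rwa [u_inv] at this

theorem EQ [Finite G] [Finite K] {e y : G} (he : e ∈ d.E0) (hy : y ∈ Q d O) :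
    e⁻¹ * y⁻¹ * e * y ∈ d.R0 := by
  obtain ⟨a, ha⟩ := H.act_Q.1 y hy
  have h1 := H.act_inv hy ha
  have hyM := M.inv_mem (H.Q_M hy)
  have h2 := d.conj_mem' hyM he.1
  have e1 : e⁻¹ * y⁻¹ * e * y = e⁻¹ * (y⁻¹ * e * y⁻¹⁻¹) := by group
  rw [e1, d.inv_eq he.1]
  refine ⟨V.mul_mem he.1 h2, ?_, ?_⟩
  · rw [d.Y_mul he.1 h2, d.u_Y h1 he.1, he.2, mul_zero, add_zero, CharTwo.add_self_eq_zero]
  · rw [d.Z_mul he.1 h2, d.u_Z h1 he.1, CharTwo.add_self_eq_zero]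

theorem mem_cen_iff {y : G} (hy : y ∈ Q d O) {a : K} (ha : d.Act y (u a).1) :
    y ∈ centralizer (V : Set G) ↔ a = 0 := by
  constructor
  · intro h1
    by_contra ha0
    have h2 : d.Act y (1 : Matrix.SpecialLinearGroup (Fin 2) K).1 := (act_one_iff (H.Q_M hy)).mpr h1
    exact one_ne_u ha0 (d.act_faithful ha h2 (H.Q_M hy))
  · rintro rfl
    rw [u_zero] at ha
    exact (act_one_iff (H.Q_M hy)).mp ha

theorem EQs [Finite G] [Finite K] {y : G} (hy : y ∈ Q d O) (hyV : y ∉ centralizer (V : Set G)) {r : G}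
    (hr : r ∈ d.R0) : ∃ e ∈ d.E0, e⁻¹ * y⁻¹ * e * y = r := by
  obtain ⟨a, ha⟩ := H.act_Q.1 y hy
  have ha0 : a ≠ 0 := fun h0 => hyV ((H.mem_cen_iff hy ha).mpr h0)
  obtain ⟨b, hb⟩ := d.exists_tr (d.X r) (d.sX hr.1) a ha0
  obtain ⟨e, he, x1, y1, z1⟩ := d.exists_v 0 b 0 (map_zero σ) (map_zero σ)
  refine ⟨e, ⟨he, z1⟩, ?_⟩
  have h1 := H.act_inv hy ha
  have hyM := M.inv_mem (H.Q_M hy)
  have h2 := d.conj_mem' hyM he
  have e1 : e⁻¹ * y⁻¹ * e * y = e⁻¹ * (y⁻¹ * e * y⁻¹⁻¹) := by group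
  rw [e1, d.inv_eq he]
  apply d.ext (V.mul_mem he h2) hr.1
  · rw [d.X_mul he h2, d.u_X h1 he, x1, y1, z1, ← hb]
    simp
  · rw [d.Y_mul he h2, d.u_Y h1 he, y1, z1, hr.2.1, mul_zero, add_zero, CharTwo.add_self_eq_zero]
  · rw [d.Z_mul he h2, d.u_Z h1 he, hr.2.2, CharTwo.add_self_eq_zero]

theorem cenR [Finite G] [Finite K] {v : G} (hv : v ∈ V) (hc : ∀ y ∈ Q d O, v * y = y * v) : v ∈ d.R0 := by
  apply d.mem_R0_of_fix hv
  intro a ha g hg hga
  obtain ⟨y, hy, hya⟩ := H.act_Q.2 a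
  rw [hga.eq hya hg (H.Q_M hy) hv, ← hc y hy, mul_inv_cancel_right]

theorem fixj [Finite G] [Finite K] {y : G} (hy : y ∈ Q d O) (hc : cj y d.Roo = d.Roo) :
    y ∈ centralizer (V : Set G) := by
  obtain ⟨a, ha⟩ := H.act_Q.1 y hy
  rw [H.mem_cen_iff hy ha]
  obtain ⟨v, hv, x1, y1, z1⟩ := d.exists_v 0 0 1 (map_zero σ) (map_one σ)
  have h1 : y * v * y⁻¹ ∈ d.Roo := by
    rw [← hc]; exact conj_mem_cj ⟨hv, x1, y1⟩
  have h2 := d.u_Y ha hv
  rw [h1.2.2, y1, z1, mul_one, zero_add] at h2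
  exact h2.symm

theorem tran [Finite G] [Finite K] {g : G} (hg : g ∈ M) (hne : cj g d.R0 ≠ d.R0) :
    ∃ y ∈ Q d O, cj y d.Roo = cj g d.R0 := by
  obtain ⟨κ, hκ⟩ := d.two_trans hg hne
  obtain ⟨y, hy, hya⟩ := H.act_Q.2 κ
  exact ⟨y, hy, (hκ y (H.Q_M hy) hya).symm⟩

theorem irr [Finite G] [Finite K] {N : Subgroup G} (hN : N ≤ Q d O)
    (hn : ∀ m ∈ M, m ∈ normalizer (d.R0 : Set G) → ∀ y ∈ N, m * y * m⁻¹ ∈ N)
    (hc : ¬ N ≤ centralizer (V : Set G)) {y : G} (hy : y ∈ Q d O) :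
    ∃ n ∈ N, y⁻¹ * n ∈ centralizer (V : Set G) := by
  obtain ⟨a, ha⟩ := H.act_Q.1 y hy
  by_cases ha0 : a = 0
  · refine ⟨1, N.one_mem, ?_⟩
    rw [mul_one]
    exact inv_mem ((H.mem_cen_iff hy ha).mpr ha0)
  · obtain ⟨n, hnN, hnC⟩ : ∃ n ∈ N, n ∉ centralizer (V : Set G) := by
      by_contra hcon
      push Not at hcon
      exact hc hcon
    obtain ⟨b, hb⟩ := H.act_Q.1 n (hN hnN)
    have hb0 : b ≠ 0 := fun h0 => hnC ((H.mem_cen_iff (hN hnN) hb).mpr h0)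
    obtain ⟨t, ht⟩ := d.exists_sqrt (a / b)
    have ht0 : t ≠ 0 := by
      rintro rfl
      rw [mul_zero] at ht
      exact (div_ne_zero ha0 hb0) ht.symm
    obtain ⟨g, hg, hga⟩ := d.exists_act (h t ht0)
    have h1 := hn g hg (mem_normalizer_iff_cj.mpr (d.h_R0 hg hga)) n hnN
    have h2 := (hga.mulS hb (H.Q_M (hN hnN))).mulS (hga.inv hg) (M.inv_mem hg)
    rw [Co.h_u, ht, div_mul_cancel₀ _ hb0] at h2
    refine ⟨_, h1, ?_⟩
    have h3 := (H.act_inv hy ha).mulS h2 (H.Q_M (hN h1))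
    rw [u_mul, CharTwo.add_self_eq_zero, u_zero] at h3
    exact (act_one_iff (M.mul_mem (M.inv_mem (H.Q_M hy)) (H.Q_M (hN h1)))).mp h3

/-- the parameter of an element of `Q` -/
noncomputable def par (d : Co K σ M V) (y : G) : K := by
  classical
  exact if hy : ∃ a, d.Act y (u a).1 then hy.choose else 0

omit H in
theorem par_act {y : G} {a : K} (hM : y ∈ M) (ha : d.Act y (u a).1) : par d y = a := by
  have hex : ∃ a, d.Act y (u a).1 := ⟨a, ha⟩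
  have h1 : d.Act y (u (par d y)).1 := by
    unfold par
    rw [dif_pos hex]
    exact hex.choose_spec
  exact Co.u_inj (congrArg Subtype.val (d.act_faithful h1 ha hM))

theorem cardQ [Finite G] [Finite K] : (centralizer (V : Set G)).relIndex (Q d O) = Nat.card K := by
  apply relIndex_eq_card (par d)
  · intro x hx y hy
    obtain ⟨a, ha⟩ := H.act_Q.1 x hx
    obtain ⟨b, hb⟩ := H.act_Q.1 y hy
    have h1 := ha.mulS hb (H.Q_M hy)
    rw [u_mul] at h1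
    rw [par_act (M.mul_mem (H.Q_M hx) (H.Q_M hy)) h1, par_act (H.Q_M hx) ha, par_act (H.Q_M hy) hb]
  · intro a
    obtain ⟨y, hy, hya⟩ := H.act_Q.2 a
    exact ⟨y, hy, par_act (H.Q_M hy) hya⟩
  · intro y hy
    obtain ⟨a, ha⟩ := H.act_Q.1 y hy
    rw [par_act (H.Q_M hy) ha]
    exact (H.mem_cen_iff hy ha).symm

omit H in
theorem cardE0 : d.R0.relIndex d.E0 = Nat.card K := by
  apply relIndex_eq_card d.Y
  · intro x hx y hy
    exact d.Y_mul hx.1 hy.1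
  · intro a
    obtain ⟨v, hv, x1, y1, z1⟩ := d.exists_v 0 a 0 (map_zero σ) (map_zero σ)
    exact ⟨v, ⟨hv, z1⟩, y1⟩
  · intro y hy
    constructor
    · intro h1
      exact ⟨hy.1, h1, hy.2⟩
    · intro h1
      exact h1.2.1

/-- **(v4)** -/
theorem alt [Finite G] [Finite K] (b : G → G) (hb : ∀ y ∈ Q d O, b y ∈ d.E0)
    (hm : ∀ y ∈ Q d O, ∀ y' ∈ Q d O, b (y * y') * (b y * b y')⁻¹ ∈ d.R0)
    (hc : ∀ y ∈ Q d O, b y * y = y * b y)
    (hC : ∀ y ∈ Q d O, y ∈ centralizer (V : Set G) → b y ∈ d.R0) :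
    ∃ r ∈ d.Roo, ∀ y ∈ Q d O, b y * (y⁻¹ * r⁻¹ * y * r)⁻¹ ∈ d.R0 := by
  have hmul : ∀ y ∈ Q d O, ∀ y' ∈ Q d O, d.Y (b (y * y')) = d.Y (b y) + d.Y (b y') := by
    intro y hy y' hy'
    have h1 := hm y hy y' hy'
    have h2 := (hb _ ((Q d O).mul_mem hy hy')).1
    have h3 := V.mul_mem (hb y hy).1 (hb y' hy').1
    have h4 := h1.2.1
    rw [d.inv_eq h3, d.Y_mul h2 h3, d.Y_mul (hb y hy).1 (hb y' hy').1] at h4
    have := CharTwo.add_self_eq_zero (d.Y (b y) + d.Y (b y'))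
    linear_combination h4 - this
  -- the parameter only depends on the action
  choose yy hyy hya using H.act_Q.2
  have hpar : ∀ y ∈ Q d O, ∀ a, d.Act y (u a).1 → d.Y (b y) = d.Y (b (yy a)) := by
    intro y hy a ha
    have h1 : (yy a)⁻¹ * y ∈ Q d O := (Q d O).mul_mem ((Q d O).inv_mem (hyy a)) hy
    have h2 : (yy a)⁻¹ * y ∈ centralizer (V : Set G) := by
      have h3 := (H.act_inv (hyy a) (hya a)).mulS ha (H.Q_M hy)
      rw [u_mul, CharTwo.add_self_eq_zero, u_zero] at h3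
      exact (act_one_iff (H.Q_M h1)).mp h3
    have h3 := hmul _ (hyy a) _ h1
    rw [mul_inv_cancel_left, (hC _ h1 h2).2.1, add_zero] at h3
    exact h3
  set β : K → K := fun a => d.Y (b (yy a)) with hβ
  have hadd : ∀ a a', β (a + a') = β a + β a' := by
    intro a a'
    have h1 : d.Act (yy a * yy a') (u (a + a')).1 := by
      rw [← u_mul]; exact (hya a).mulS (hya a') (H.Q_M (hyy a'))
    have h2 := hpar _ ((Q d O).mul_mem (hyy a) (hyy a')) _ h1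
    rw [hmul _ (hyy a) _ (hyy a')] at h2
    exact h2.symm
  have hzero : β 0 = 0 := by
    have h1 := hadd 0 0
    rw [add_zero] at h1
    exact left_eq_add.mp h1
  have hcomm : ∀ a, a * σ (β a) + β a * σ a = 0 := by
    intro a
    have h1 := hc _ (hyy a)
    have h2 : yy a * b (yy a) * (yy a)⁻¹ = b (yy a) := by rw [← h1, mul_inv_cancel_right]
    have h3 := d.u_X (hya a) (hb _ (hyy a)).1
    rw [h2, (hb _ (hyy a)).2, mul_zero, add_zero, add_assoc] at h3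
    exact left_eq_add.mp h3
  have hsh : ∀ a, a ≠ 0 → σ (β a / a) = β a / a := by
    intro a ha
    have hsa : σ a ≠ 0 := fun h0 => ha ((map_eq_zero σ).mp h0)
    rw [map_div₀, div_eq_div_iff hsa ha]
    have h1 := hcomm a
    have := CharTwo.add_self_eq_zero (β a * σ a)
    linear_combination h1 - this
  -- `β a / a` is constant
  have hind : ∀ a a', a ≠ 0 → a' ≠ 0 → σ (a / a') ≠ a / a' → β a / a = β a' / a' := by
    intro a a' ha ha' hne
    have haa : a + a' ≠ 0 := by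
      intro h0
      have h1 : a = -a' := eq_neg_of_add_eq_zero_left h0
      rw [CharTwo.neg_eq] at h1
      rw [h1, div_self ha', map_one] at hne
      exact hne rfl
    set p := β a / a with hp
    set q := β a' / a' with hq
    set r := β (a + a') / (a + a') with hr
    have h1 : r * (a + a') = p * a + q * a' := by
      rw [hr, hp, hq, div_mul_cancel₀ _ haa, div_mul_cancel₀ _ ha, div_mul_cancel₀ _ ha', hadd]
    have h2 : (r - p) * a = (q - r) * a' := by linear_combination h1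
    have hsp : σ p = p := hsh a ha
    have hsq : σ q = q := hsh a' ha'
    have hsr : σ r = r := hsh _ haa
    by_cases hrp : r - p = 0
    · rw [hrp, zero_mul] at h2
      have h3 := (mul_eq_zero.mp h2.symm).resolve_right ha'
      rw [← sub_eq_zero.mp hrp, sub_eq_zero.mp h3]
    · exfalso
      apply hne
      have h3 : a / a' = (q - r) / (r - p) := by
        rw [div_eq_div_iff ha' hrp]
        linear_combination h2
      rw [h3, map_div₀, map_sub, map_sub, hsp, hsq, hsr]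
  obtain ⟨κ, hκ⟩ := d.nt
  have hκ0 : κ ≠ 0 := by
    rintro rfl
    exact hκ (map_zero σ)
  have hconst : ∀ a, a ≠ 0 → β a = β 1 * a := by
    intro a ha
    suffices hs : β a / a = β 1 / 1 by
      rw [div_one] at hs
      rw [← hs, div_mul_cancel₀ _ ha]
    by_cases h1 : σ (a / 1) = a / 1
    · rw [div_one] at h1
      have e1 : β (κ * a) / (κ * a) = β a / a := by
        apply hind _ _ (mul_ne_zero hκ0 ha) ha
        rw [mul_div_cancel_right₀ _ ha]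
        exact hκ
      have e2 : β (κ * a) / (κ * a) = β 1 / 1 := by
        apply hind _ _ (mul_ne_zero hκ0 ha) one_ne_zero
        rw [div_one, map_mul, h1]
        intro h2
        exact hκ (mul_right_cancel₀ ha h2)
      rw [← e1, e2]
    · exact hind _ _ ha one_ne_zero h1
  have hsl : σ (β 1) = β 1 := by
    have := hsh 1 one_ne_zero
    rwa [div_one] at this
  obtain ⟨r, hr, x1, y1, z1⟩ := d.exists_v 0 0 (β 1) (map_zero σ) hsl
  refine ⟨r, ⟨hr, x1, y1⟩, ?_⟩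
  intro y hy
  obtain ⟨a, ha⟩ := H.act_Q.1 y hy
  have h1 := H.act_inv hy ha
  have hyM := M.inv_mem (H.Q_M hy)
  have h2 := d.conj_mem' hyM hr
  have e1 : y⁻¹ * r⁻¹ * y * r = (y⁻¹ * r * y⁻¹⁻¹) * r := by rw [d.inv_eq hr]; group
  have h3 := V.mul_mem h2 hr
  rw [e1, d.inv_eq h3]
  have h4 := (hb y hy).1
  refine ⟨V.mul_mem h4 h3, ?_, ?_⟩
  · rw [d.Y_mul h4 h3, d.Y_mul h2 hr, d.u_Y h1 hr, y1, z1, hpar y hy a ha]
    change β a + _ = 0
    by_cases ha0 : a = 0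
    · rw [ha0, hzero]; simp
    · rw [hconst a ha0]
      have := CharTwo.add_self_eq_zero (β 1 * a)
      linear_combination this
  · rw [d.Z_mul h4 h3, d.Z_mul h2 hr, d.u_Z h1 hr, (hb y hy).2, CharTwo.add_self_eq_zero, add_zero]

end Hyp

end Cfsg.Agent.Omega.NO1.Beta.Inst

end

section


/-!
# THEOREM BETA, part E: the structure `Beta` for the singular points of `V = O₄⁻(q)`

`Pt d` : the singular points; `Hyp.beta : Hyp d O → … → Beta M V (fun i : Pt d => i.1) (fun i => O (N(i.1)))`;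
`Hyp.VE`, `Hyp.tor` : the further input of `Meet.lean`; `Hyp.result` : THEOREM BETA for `V = O₄⁻(q)`.
-/

set_option autoImplicit false
set_option linter.unusedVariables false
set_option linter.unusedSectionVars false

open Subgroup
open scoped Pointwise

namespace Cfsg.Agent.Omega.NO1.Beta.Inst

open Co (u l h w u_zero u_mul u_inv one_ne_u act_one act_one_iff)

variable {G : Type*} [Group G] {K : Type*} [Field K] {σ : K ≃+* K} {M V : Subgroup G}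

/-- The singular points. -/
def Pt [CharP K 2] (d : Co K σ M V) : Type _ := {R : Subgroup G // ∃ g ∈ M, R = cj g d.R0}

namespace Hyp

variable [CharP K 2] {d : Co K σ M V} {O : Subgroup G → Subgroup G}

instance [Finite G] : Finite (Pt d) := by
  unfold Pt
  infer_instance

theorem cj_M {g : G} (hg : g ∈ M) : cj g M = M := by
  ext x
  rw [mem_cj]
  constructor
  · intro hx
    have := M.mul_mem (M.mul_mem hg hx) (M.inv_mem hg)
    have e : g * (g⁻¹ * x * g) * g⁻¹ = x := by group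
    rwa [e] at this
  · intro hx
    exact M.mul_mem (M.mul_mem (M.inv_mem hg) hx) hg

theorem cj_V {g : G} (d : Co K σ M V) (hg : g ∈ M) : cj g V = V :=
  mem_normalizer_iff_cj.mp (d.nor hg)

theorem mv_N {g : G} (hg : g ∈ M) :
    normalizer ((d.mv g hg).R0 : Set G) = cj g (normalizer (d.R0 : Set G)) := by
  rw [cj_normalizer, d.mv_R0 hg]

theorem mv_Q (hO : IsO O) {g : G} (hg : g ∈ M) : Q (d.mv g hg) O = cj g (Q d O) := by
  unfold Q
  rw [mv_N, hO.cj_eq]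

variable (H : Hyp d O)
include H

/-- the hypotheses for the moved coordinates -/
theorem mv {g : G} (hg : g ∈ M) : Hyp (d.mv g hg) O where
  isO := H.isO
  C_M := H.C_M
  Q_M := by
    have h1 : Q (d.mv g hg) O ≤ M := by
      rw [mv_Q H.isO hg]
      intro x hx
      have h2 := cj_mono (c := g) H.Q_M
      rw [cj_M hg] at h2
      exact h2 hx
    exact h1
  char2 := by
    intro x hx hc
    change x ∈ Q (d.mv g hg) O
    rw [mv_Q H.isO hg, mem_cj]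
    rw [mv_N hg, mem_cj] at hx
    apply H.char2 _ hx
    intro y hy
    have h1 : g * y * g⁻¹ ∈ Q (d.mv g hg) O := by
      rw [mv_Q H.isO hg]; exact conj_mem_cj hy
    have h2 := hc _ h1
    calc g⁻¹ * x * g * y = g⁻¹ * (x * (g * y * g⁻¹)) * g := by group
      _ = g⁻¹ * (g * y * g⁻¹ * x) * g := by rw [h2]
      _ = y * (g⁻¹ * x * g) := by group
  V_Q := by
    intro hV
    have h1 : V ≤ Q (d.mv g hg) O := hV
    rw [mv_Q H.isO hg] at h1
    have h2 := cj_mono (c := g⁻¹) h1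
    rw [cj_inv_cj, cj_V d (M.inv_mem hg)] at h2
    exact H.V_Q h2

omit H in
/-- coordinates with `i = (x, 0, 0)` -/
theorem one (i : Pt d) : ∃ (g : G) (hg : g ∈ M), i.1 = (d.mv g hg).R0 := by
  obtain ⟨g, hg, he⟩ := i.2
  exact ⟨g, hg, by rw [d.mv_R0 hg]; exact he⟩

omit H in
/-- coordinates with `i = (x, 0, 0)`, `j = (0, 0, z)` -/
theorem pair [Finite G] {i j : Pt d} (hij : i ≠ j) :
    ∃ (g : G) (hg : g ∈ M), i.1 = (d.mv g hg).R0 ∧ j.1 = (d.mv g hg).Roo := by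
  obtain ⟨g, hg, he⟩ := one i
  obtain ⟨g', hg', he'⟩ := j.2
  have hM : g' * g⁻¹ ∈ M := M.mul_mem hg' (M.inv_mem hg)
  have h1 : j.1 = cj (g' * g⁻¹) (d.mv g hg).R0 := by
    rw [cj_mul, d.mv_R0 hg, cj_inv_cj]; exact he'
  have h2 : cj (g' * g⁻¹) (d.mv g hg).R0 ≠ (d.mv g hg).R0 := by
    rw [← h1, ← he]
    intro h0
    exact hij (Subtype.ext h0.symm)
  obtain ⟨κ, hκ⟩ := (d.mv g hg).two_trans hM h2
  obtain ⟨k, hk, hka⟩ := (d.mv g hg).exists_act (u κ)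
  refine ⟨k * g, M.mul_mem hk hg, ?_, ?_⟩
  · rw [d.mv_R0, cj_mul, ← d.mv_R0 hg, Co.u_R0 hk hka]; exact he
  · rw [d.mv_Roo, cj_mul, ← d.mv_Roo hg, ← hκ k hk hka]; exact h1

omit H in
theorem ne_pt (g : G) (hg : g ∈ M) : (d.mv g hg).R0 ≠ (d.mv g hg).Roo := (d.mv g hg).R0_ne_Roo

omit H in
/-- `|R₀| < |K|` -/
theorem card_R0_lt [Finite K] (d : Co K σ M V) : Nat.card d.R0 < Nat.card K := by
  classical
  obtain ⟨κ, hκ⟩ := d.nt
  let f : d.R0 → K := fun v => d.X v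
  have hf : Function.Injective f := by
    intro v v' hvv
    apply Subtype.ext
    apply d.ext v.2.1 v'.2.1 hvv
    · rw [v.2.2.1, v'.2.2.1]
    · rw [v.2.2.2, v'.2.2.2]
  have hs : κ ∉ Set.range f := by
    rintro ⟨v, hv⟩
    apply hκ
    rw [← hv]
    exact d.sX v.2.1
  have h1 : Set.range f ≠ Set.univ := fun h0 => hs (h0 ▸ Set.mem_univ κ)
  have h2 : Nat.card (Set.range f) = Nat.card d.R0 := Nat.card_range_of_injective hf
  rw [← h2, Nat.card_coe_set_eq, ← Set.ncard_univ]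
  exact Set.ncard_lt_ncard (Set.ssubset_univ_iff.mpr h1) (Set.toFinite _)

omit H in
theorem card_Pt [Finite G] [Finite K] (d : Co K σ M V) : Nat.card K + 1 ≤ Nat.card (Pt d) := by
  classical
  choose k hk hka using fun a : K => d.exists_act (u a)
  obtain ⟨m, hm, hmR⟩ := Co.Roo_eq d
  let f : Option K → Pt d := fun o => match o with
    | none => ⟨d.R0, 1, M.one_mem, by rw [cj_one]⟩
    | some a => ⟨cj (k a) d.Roo, k a * m, M.mul_mem (hk a) hm, by rw [cj_mul, hmR]⟩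
  have hf : Function.Injective f := by
    obtain ⟨v, hv, x1, y1, z1⟩ := d.exists_v 0 0 1 (map_zero σ) (map_one σ)
    have hv' : v ∈ d.Roo := ⟨hv, x1, y1⟩
    have hz : ∀ a, k a * v * (k a)⁻¹ ∈ cj (k a) d.Roo := fun a => conj_mem_cj hv'
    have hZ : ∀ a, d.Z (k a * v * (k a)⁻¹) = 1 := fun a => by rw [d.u_Z (hka a) hv, z1]
    have hY : ∀ a, d.Y (k a * v * (k a)⁻¹) = a := fun a => by rw [d.u_Y (hka a) hv, z1, y1]; simp
    have hne : ∀ a, d.R0 ≠ cj (k a) d.Roo := by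
      intro a h0
      have h1 := hz a
      rw [← h0] at h1
      have h2 := h1.2.2
      rw [hZ a] at h2
      exact one_ne_zero h2
    intro o o' hoo
    match o, o', hoo with
    | none, none, _ => rfl
    | none, some a, hoo => exact absurd (congrArg Subtype.val hoo) (hne a)
    | some a, none, hoo => exact absurd (congrArg Subtype.val hoo).symm (hne a)
    | some a, some b, hoo =>
      have h0 : cj (k a) d.Roo = cj (k b) d.Roo := congrArg Subtype.val hoo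
      have h1 := hz a
      rw [h0, mem_cj] at h1
      -- the element `(k b)⁻¹ k a v …` of `Roo` has `Z = 1`
      have h2 := d.conj_mem' (hk a) hv
      have h3 := d.conj_mem' (M.inv_mem (hk b)) h2
      rw [inv_inv] at h3
      have hb' : d.Act (k b)⁻¹ (u b).1 := by
        have := (hka b).inv (hk b)
        rwa [u_inv] at this
      have h4 := d.u_Y hb' h2
      rw [inv_inv, h1.2.2, hY a, hZ a, mul_one] at h4
      have : a = b := by
        have h5 := eq_neg_of_add_eq_zero_left h4.symm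
        rwa [CharTwo.neg_eq] at h5
      rw [this]
  have h1 := Nat.card_le_card_of_injective f hf
  rwa [Finite.card_option] at h1

/-- **The instance of THEOREM BETA.** -/
theorem beta [Finite G] [Finite K]
    (meet : ∀ N : Subgroup G, IsPGroup 2 N → N ≤ M → (∀ m ∈ M, ∀ y ∈ N, m * y * m⁻¹ ∈ N) →
      N ⊓ V = ⊥ → N = ⊥) :
    Beta M V (fun i : Pt d => i.1) (fun i => O (normalizer (i.1 : Set G))) where
  C_M := H.C_M
  M_V := d.nor
  V_comm := fun a ha b hb => d.comm ha hb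
  V_sq := fun a ha => d.sq ha
  R_le := fun i => by
    obtain ⟨g, hg, hi⟩ := one i
    rw [hi]; exact Co.R0_le _
  R_Q := fun i => by
    obtain ⟨g, hg, hi⟩ := one i
    rw [hi]; exact (H.mv hg).R0_Q
  RQ := fun i r hr y hy => by
    obtain ⟨g, hg, hi⟩ := one i
    rw [hi] at hr hy
    exact (H.mv hg).R0_central hr hy
  ne := fun i => by
    obtain ⟨g, hg, hi⟩ := one i
    rw [hi]
    intro h0
    obtain ⟨v, hv, x1, y1, z1⟩ := (d.mv g hg).exists_v 1 0 0 (map_one σ) (map_zero σ)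
    have h1 : v ∈ (d.mv g hg).R0 := ⟨hv, y1, z1⟩
    rw [h0, mem_bot] at h1
    rw [h1, Co.X_one] at x1
    exact zero_ne_one x1
  disj := fun i j hij => by
    obtain ⟨g, hg, hi, hj⟩ := pair hij
    rw [hi, hj, eq_bot_iff_forall]
    rintro v ⟨h1, h2⟩
    apply (d.mv g hg).ext h1.1 V.one_mem
    · rw [h2.2.1, Co.X_one]
    · rw [h2.2.2, Co.Y_one]
    · rw [h1.2.2, Co.Z_one]
  two := fun i => H.isO.two _
  Q_M := fun i => by
    obtain ⟨g, hg, hi⟩ := one i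
    rw [hi]; exact (H.mv hg).Q_M
  V_Q := fun i => by
    obtain ⟨g, hg, hi⟩ := one i
    rw [hi]; exact (H.mv hg).V_Q
  nor := fun i c hc y hy => H.isO.nor _ c hc y hy
  perm := fun m hm i => by
    obtain ⟨g, hg, hi⟩ := i.2
    refine ⟨⟨cj m i.1, m * g, M.mul_mem hm hg, by rw [cj_mul, hi]⟩, rfl, ?_⟩
    change cj m (O (normalizer (i.1 : Set G))) = O (normalizer ((cj m i.1 : Subgroup G) : Set G))
    rw [H.isO.cj_eq, cj_normalizer]
  max := fun i N h1 h2 h3 => H.isO.max _ N h1 h2 h3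
  char2 := fun i => by
    obtain ⟨g, hg, hi⟩ := one i
    rw [hi]
    intro x hx
    have h1 : ∀ y ∈ O (normalizer ((d.mv g hg).R0 : Set G)), x * y = y * x := fun y hy =>
      (mem_centralizer_iff.mp hx y hy).symm
    apply (H.mv hg).char2 x _ h1
    rw [mem_normalizer_iff_cj]
    ext r
    rw [mem_cj]
    constructor
    · intro hr
      have h2 := h1 _ ((H.mv hg).R0_Q hr)
      have e : r = x * (x⁻¹ * r * x) * x⁻¹ := by group
      rw [e, h2, mul_inv_cancel_right]; exact hr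
    · intro hr
      have h2 := h1 _ ((H.mv hg).R0_Q hr)
      rw [mul_assoc, ← h2, inv_mul_cancel_left]; exact hr
  EQ := fun i e he y hy => by
    obtain ⟨g, hg, hi⟩ := one i
    rw [hi] at he hy ⊢
    have h1 : e ∈ V ⊓ Q (d.mv g hg) O := he
    rw [(H.mv hg).V_inf_Q] at h1
    exact (H.mv hg).EQ h1 hy
  EQs := fun i y hy hyV r hr => by
    obtain ⟨g, hg, hi⟩ := one i
    rw [hi] at hy hr ⊢
    change ∃ e ∈ V ⊓ Q (d.mv g hg) O, _
    rw [(H.mv hg).V_inf_Q]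
    exact (H.mv hg).EQs hy hyV hr
  cenR := fun i v hv hc => by
    obtain ⟨g, hg, hi⟩ := one i
    rw [hi] at hc ⊢
    exact (H.mv hg).cenR hv hc
  fixj := fun i j hij y hy hc => by
    obtain ⟨g, hg, hi, hj⟩ := pair hij
    rw [hi] at hy
    rw [hj] at hc
    exact (H.mv hg).fixj hy hc
  tran := fun i j k hj hk => by
    obtain ⟨g, hg, hi, hj'⟩ := pair hj.symm
    obtain ⟨g', hg', hk'⟩ := k.2
    rw [hi, hj']
    have h1 : k.1 = cj (g' * g⁻¹) (d.mv g hg).R0 := by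
      rw [cj_mul, d.mv_R0 hg, cj_inv_cj]; exact hk'
    have h2 : cj (g' * g⁻¹) (d.mv g hg).R0 ≠ (d.mv g hg).R0 := by
      rw [← h1, ← hi]
      intro h0
      exact hk (Subtype.ext h0)
    obtain ⟨y, hy, hyk⟩ := (H.mv hg).tran (M.mul_mem hg' (M.inv_mem hg)) h2
    exact ⟨y, hy, hyk.trans h1.symm⟩
  irr := fun i N hN hn hc y hy => by
    obtain ⟨g, hg, hi⟩ := one i
    rw [hi] at hN hn hy
    exact (H.mv hg).irr hN hn hc hy
  big := fun i => by
    obtain ⟨g, hg, hi⟩ := one i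
    have h1 := card_R0_lt (d.mv g hg)
    have h2 := card_Pt d
    change Nat.card i.1 + 1 < _
    rw [hi]
    omega
  cardE := fun i => by
    obtain ⟨g, hg, hi⟩ := one i
    rw [hi]
    change (centralizer (V : Set G)).relIndex (Q (d.mv g hg) O) =
      (d.mv g hg).R0.relIndex (V ⊓ Q (d.mv g hg) O)
    rw [(H.mv hg).V_inf_Q, (H.mv hg).cardQ, cardE0]
  meet := meet
  alt := fun i j hij b hb hm hc hC => by
    obtain ⟨g, hg, hi, hj⟩ := pair hij
    rw [hi] at hb hm hc hC ⊢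
    rw [hj]
    refine (H.mv hg).alt b (fun y hy => ?_) hm hc hC
    have h1 : b y ∈ V ⊓ Q (d.mv g hg) O := hb y hy
    rwa [(H.mv hg).V_inf_Q] at h1

end Hyp

end Cfsg.Agent.Omega.NO1.Beta.Inst

end

section


/-!
# THEOREM BETA, part E: the torus element and `Q i ⊓ Q j ≤ V`

`Hyp.VE` : `V ≤ (V ⊓ Q i) ⊔ R j`; `Hyp.tor` : a torus element `Meet.Tor`; `Hyp.mt` : the structure `Meet.Mt`;
`Hyp.meet_le` : `Q i ⊓ Q j ≤ V`.
-/

set_option autoImplicit false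
set_option linter.unusedVariables false
set_option linter.unusedSectionVars false

open Subgroup
open scoped Pointwise

namespace Cfsg.Agent.Omega.NO1.Beta.Inst

open Co (u l h w u_zero u_mul u_inv one_ne_u act_one act_one_iff)

variable {G : Type*} [Group G] {K : Type*} [Field K] {σ : K ≃+* K} {M V : Subgroup G}

namespace Co

variable [CharP K 2] (d : Co K σ M V)

include d in
/-- a nontrivial element of norm one -/
theorem exists_norm_one : ∃ t : K, t ≠ 0 ∧ t * σ t = 1 ∧ t ≠ 1 := by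
  obtain ⟨k, hk⟩ := d.nt
  have hk0 : k ≠ 0 := by
    rintro rfl
    exact hk (map_zero σ)
  have hs : σ k ≠ 0 := fun h0 => hk0 ((map_eq_zero σ).mp h0)
  refine ⟨k / σ k, div_ne_zero hk0 hs, ?_, ?_⟩
  · rw [map_div₀, d.inv]
    field_simp
  · intro h1
    rw [div_eq_one_iff_eq hs] at h1
    exact hk h1.symm

theorem l_X {g : G} {a : K} (hg : d.Act g (l a).1) {v : G} (hv : v ∈ V) :
    d.X (g * v * g⁻¹) = d.X v := by
  rw [hg.X hv]
  simp [l]

theorem l_Y {g : G} {a : K} (hg : d.Act g (l a).1) {v : G} (hv : v ∈ V) :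
    d.Y (g * v * g⁻¹) = d.Y v + d.X v * σ a := by
  rw [hg.Y hv]
  simp [l]
  ring

theorem l_Z {g : G} {a : K} (hg : d.Act g (l a).1) {v : G} (hv : v ∈ V) :
    d.Z (g * v * g⁻¹) = d.Z v + a * d.Y v + σ (d.Y v) * σ a + a * σ a * d.X v := by
  rw [hg.Z hv]
  simp [l]
  ring

theorem w_mul_w : (w * w : Matrix.SpecialLinearGroup (Fin 2) K) = 1 := by
  apply Subtype.ext
  simp only [Matrix.SpecialLinearGroup.coe_mul, Matrix.SpecialLinearGroup.coe_one]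
  ext i j
  fin_cases i <;> fin_cases j <;> simp [w, Matrix.mul_apply, Fin.sum_univ_two]

theorem w_inv : (w : Matrix.SpecialLinearGroup (Fin 2) K)⁻¹ = w := inv_eq_of_mul_eq_one_left w_mul_w

theorem w_u (a : K) : (w * u a * w : Matrix.SpecialLinearGroup (Fin 2) K) = l a := by
  apply Subtype.ext
  simp only [Matrix.SpecialLinearGroup.coe_mul]
  ext i j
  fin_cases i <;> fin_cases j <;> simp [w, u, l, Matrix.mul_apply, Fin.sum_univ_two]

theorem l_inv (a : K) : (l a : Matrix.SpecialLinearGroup (Fin 2) K)⁻¹ = l a := by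
  rw [← w_u, mul_inv_rev, mul_inv_rev, w_inv, u_inv, mul_assoc]

theorem tor_mul {t : K} (ht : t ≠ 0) :
    ((u t * l t⁻¹ * u t) * (u 1 * l 1 * u 1) : Matrix.SpecialLinearGroup (Fin 2) K) = h t ht := by
  apply Subtype.ext
  simp only [Matrix.SpecialLinearGroup.coe_mul]
  have t2 : (1 : K) + 1 = 0 := CharTwo.add_self_eq_zero 1
  ext i j
  fin_cases i <;> fin_cases j <;> simp [u, l, h, Matrix.mul_apply, Fin.sum_univ_two, ht, t2]

end Co

namespace Hyp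

variable [CharP K 2] {d : Co K σ M V} {O : Subgroup G → Subgroup G}

/-- `O₂(N(Roo))` -/
def Q' (d : Co K σ M V) (O : Subgroup G → Subgroup G) : Subgroup G := O (normalizer (d.Roo : Set G))

variable (H : Hyp d O)
include H

theorem Q'_eq {m : G} (hm : m ∈ M) (hw : d.Act m (w : Matrix.SpecialLinearGroup (Fin 2) K).1) :
    Q (d.mv m hm) O = Q' d O := by
  unfold Q Q'
  rw [d.mv_R0 hm, d.w_R0 hm hw]

/-- `O₂(N(Roo))` acts as the lower unitriangular matrices -/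
theorem act_Q' [Finite G] [Finite K] :
    (∀ y ∈ Q' d O, ∃ a, d.Act y (l a).1) ∧ ∀ a, ∃ y ∈ Q' d O, d.Act y (l a).1 := by
  obtain ⟨m, hm, hw⟩ := d.exists_act w
  have H' := H.mv hm
  have hmw := hw.inv hm
  rw [Co.w_inv] at hmw
  have key : ∀ {y : G}, y ∈ M → ∀ {a : K}, (d.mv m hm).Act y (u a).1 → d.Act y (l a).1 := by
    intro y hy a ha
    rw [d.mv_act hm] at ha
    have hM : m⁻¹ * y * m ∈ M := M.mul_mem (M.mul_mem (M.inv_mem hm) hy) hm
    have h1 := (hw.mulS ha hM).mulS hmw (M.inv_mem hm)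
    rw [Co.w_u] at h1
    have e : m * (m⁻¹ * y * m) * m⁻¹ = y := by group
    rwa [e] at h1
  have hle : ∀ {y : G}, y ∈ Q' d O → y ∈ M := by
    intro y hy
    rw [← H.Q'_eq hm hw] at hy
    exact H'.Q_M hy
  constructor
  · intro y hy
    have hyM := hle hy
    rw [← H.Q'_eq hm hw] at hy
    obtain ⟨a, ha⟩ := H'.act_Q.1 y hy
    exact ⟨a, key hyM ha⟩
  · intro a
    obtain ⟨y, hy, ha⟩ := H'.act_Q.2 a
    rw [H.Q'_eq hm hw] at hy
    exact ⟨y, hy, key (hle hy) ha⟩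

theorem Q'_M {y : G} (hy : y ∈ Q' d O) : y ∈ M := by
  obtain ⟨m, hm, hw⟩ := d.exists_act w
  rw [← H.Q'_eq hm hw] at hy
  exact (H.mv hm).Q_M hy

/-- (VE) in coordinates -/
theorem VE0 [Finite G] [Finite K] : V ≤ (V ⊓ Q d O) ⊔ d.Roo := by
  rw [H.V_inf_Q]
  intro v hv
  obtain ⟨r, hr, x1, y1, z1⟩ := d.exists_v 0 0 (d.Z v) (map_zero σ) (d.sZ hv)
  have h1 : v * r⁻¹ ∈ d.E0 := by
    refine ⟨V.mul_mem hv (V.inv_mem hr), ?_⟩
    rw [d.inv_eq hr, d.Z_mul hv hr, z1, CharTwo.add_self_eq_zero]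
  have h2 : r ∈ d.Roo := ⟨hr, x1, y1⟩
  have e : v = v * r⁻¹ * r := by group
  rw [e]
  exact mul_mem (mem_sup_left h1) (mem_sup_right h2)

omit H in
/-- `cj y Roo` for `y` acting as `u a` -/
theorem mem_cj_Roo {y : G} (hy : y ∈ M) {a : K} (ha : d.Act y (u a).1) {v : G} :
    v ∈ cj y d.Roo ↔ v ∈ V ∧ d.Y v = a * d.Z v ∧ d.X v = a * σ a * d.Z v := by
  rw [mem_cj]
  have ha' : d.Act y⁻¹ (u a).1 := by
    have := ha.inv hy
    rwa [u_inv] at this
  have t2 : (2 : K) = 0 := CharTwo.two_eq_zero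
  constructor
  · rintro ⟨h1, h2, h3⟩
    have hv : v ∈ V := by
      have := d.conj_mem' hy h1
      have e : y * (y⁻¹ * v * y) * y⁻¹ = v := by group
      rwa [e] at this
    have hX := d.u_X ha' hv
    have hY := d.u_Y ha' hv
    rw [inv_inv] at hX hY
    rw [h3] at hY
    rw [h2] at hX
    have hY' : d.Y v = a * d.Z v := by linear_combination (-1 : K) * hY - a * d.Z v * t2
    refine ⟨hv, hY', ?_⟩
    have hs : σ (d.Y v) = σ a * d.Z v := by rw [hY', map_mul, d.sZ hv]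
    rw [hs, hY'] at hX
    linear_combination (-1 : K) * hX - 2 * a * σ a * d.Z v * t2
  · rintro ⟨hv, hY', hX'⟩
    have hX := d.u_X ha' hv
    have hY := d.u_Y ha' hv
    have hs : σ (d.Y v) = σ a * d.Z v := by rw [hY', map_mul, d.sZ hv]
    have hc := d.conj_mem' (M.inv_mem hy) hv
    rw [inv_inv] at hX hY hc
    refine ⟨hc, ?_, ?_⟩
    · rw [hX, hs, hX', hY']
      linear_combination a * σ a * d.Z v * 2 * t2
    · rw [hY, hY']
      linear_combination a * d.Z v * t2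

omit H in
/-- `cj y R0` for `y` acting as `l a` -/
theorem mem_cj_R0 {y : G} (hy : y ∈ M) {a : K} (ha : d.Act y (l a).1) {v : G} :
    v ∈ cj y d.R0 ↔ v ∈ V ∧ d.Y v = σ a * d.X v ∧ d.Z v = a * σ a * d.X v := by
  rw [mem_cj]
  have ha' : d.Act y⁻¹ (l a).1 := by
    have := ha.inv hy
    rwa [Co.l_inv] at this
  have t2 : (2 : K) = 0 := CharTwo.two_eq_zero
  constructor
  · rintro ⟨h1, h2, h3⟩
    have hv : v ∈ V := by
      have := d.conj_mem' hy h1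
      have e : y * (y⁻¹ * v * y) * y⁻¹ = v := by group
      rwa [e] at this
    have hZ := d.l_Z ha' hv
    have hY := d.l_Y ha' hv
    rw [inv_inv] at hZ hY
    rw [h2] at hY
    rw [h3] at hZ
    have hY' : d.Y v = σ a * d.X v := by linear_combination (-1 : K) * hY - σ a * d.X v * t2
    refine ⟨hv, hY', ?_⟩
    have hs : σ (d.Y v) = a * d.X v := by rw [hY', map_mul, d.sX hv, d.inv]
    rw [hs, hY'] at hZ
    linear_combination (-1 : K) * hZ - 2 * a * σ a * d.X v * t2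
  · rintro ⟨hv, hY', hZ'⟩
    have hZ := d.l_Z ha' hv
    have hY := d.l_Y ha' hv
    have hs : σ (d.Y v) = a * d.X v := by rw [hY', map_mul, d.sX hv, d.inv]
    have hc := d.conj_mem' (M.inv_mem hy) hv
    rw [inv_inv] at hZ hY hc
    refine ⟨hc, ?_, ?_⟩
    · rw [hY, hY']
      linear_combination σ a * d.X v * t2
    · rw [hZ, hs, hZ', hY']
      linear_combination a * σ a * d.X v * 2 * t2

omit H in
/-- matching -/
theorem cj_match {y y' : G} (hy : y ∈ M) (hy' : y' ∈ M) {a : K} (ha0 : a ≠ 0) (ha : d.Act y (u a).1)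
    (ha' : d.Act y' (l a⁻¹).1) : cj y d.Roo = cj y' d.R0 := by
  have hs0 : σ a ≠ 0 := fun h0 => ha0 ((map_eq_zero σ).mp h0)
  ext v
  rw [mem_cj_Roo hy ha, mem_cj_R0 hy' ha']
  constructor
  · rintro ⟨h1, h2, h3⟩
    refine ⟨h1, ?_, ?_⟩
    · rw [h3, h2, map_inv₀]
      field_simp
    · rw [h3, map_inv₀]
      field_simp
  · rintro ⟨h1, h2, h3⟩
    refine ⟨h1, ?_, ?_⟩
    · rw [h3, h2, map_inv₀]
      field_simp
    · rw [h3, map_inv₀]
      field_simp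

/-- **the torus element, in coordinates** -/
theorem tor0 [Finite G] [Finite K] : ∃ y ∈ Q d O, ∃ y' ∈ Q' d O, ∃ z ∈ Q d O, ∃ z' ∈ Q' d O,
    cj y d.Roo = cj y' d.R0 ∧ cj z d.Roo = cj z' d.R0 ∧ cj y d.Roo ≠ cj z d.Roo ∧
    (∀ r ∈ d.R0, (y * y' * y) * (z * z' * z) * r = r * ((y * y' * y) * (z * z' * z))) ∧
    (∀ e ∈ V ⊓ Q d O, e⁻¹ * ((y * y' * y) * (z * z' * z) * e * ((y * y' * y) * (z * z' * z))⁻¹) ∈ d.R0 →
      e ∈ d.R0) ∧
    (∀ x ∈ Q d O, x⁻¹ * ((y * y' * y) * (z * z' * z) * x * ((y * y' * y) * (z * z' * z))⁻¹) ∈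
      centralizer (V : Set G) → x ∈ centralizer (V : Set G)) := by
  obtain ⟨t, ht0, ht1, ht⟩ := d.exists_norm_one
  obtain ⟨y, hy, ay⟩ := H.act_Q.2 t
  obtain ⟨y', hy', ay'⟩ := H.act_Q'.2 t⁻¹
  obtain ⟨z, hz, az⟩ := H.act_Q.2 1
  obtain ⟨z', hz', az'⟩ := H.act_Q'.2 1
  have yM := H.Q_M hy
  have yM' := H.Q'_M hy'
  have zM := H.Q_M hz
  have zM' := H.Q'_M hz'
  have hst : σ t ≠ 0 := fun h0 => ht0 ((map_eq_zero σ).mp h0)
  have hst' : (σ t)⁻¹ = t := inv_eq_of_mul_eq_one_left ht1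
  have htt : t * t ≠ 1 := by
    intro h1
    apply ht
    have : (t - 1) * (t - 1) = 0 := by
      have h2 : (2 : K) = 0 := CharTwo.two_eq_zero
      linear_combination h1 + (1 - t) * h2
    exact sub_eq_zero.mp (mul_self_eq_zero.mp this)
  have hmul : ∀ {x : K}, x + t * t * x = 0 → x = 0 := by
    intro x hx
    have h1 : (1 + t * t) * x = 0 := by linear_combination hx
    rcases mul_eq_zero.mp h1 with h2 | h2
    · exfalso
      apply htt
      have h3 := eq_neg_of_add_eq_zero_right h2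
      rwa [CharTwo.neg_eq] at h3
    · exact h2
  refine ⟨y, hy, y', hy', z, hz, z', hz', cj_match yM yM' ht0 ay ay', ?_, ?_, ?_⟩
  · apply cj_match zM zM' one_ne_zero az
    rwa [inv_one]
  · intro h0
    obtain ⟨v, hv, x1, y1, z1⟩ := d.exists_v 0 0 1 (map_zero σ) (map_one σ)
    have hvR : v ∈ d.Roo := ⟨hv, x1, y1⟩
    have h1 : y * v * y⁻¹ ∈ cj y d.Roo := conj_mem_cj hvR
    have h2 := ((mem_cj_Roo yM ay).mp h1)
    rw [h0] at h1
    have h3 := ((mem_cj_Roo zM az).mp h1)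
    have h4 := d.u_Z ay hv
    rw [z1] at h4
    have h5 := h2.2.1
    have h6 := h3.2.1
    rw [h5, h4, mul_one, mul_one] at h6
    exact ht h6
  -- `t` acts as `h t`
  set T : G := (y * y' * y) * (z * z' * z) with hT
  have TM : T ∈ M := M.mul_mem (M.mul_mem (M.mul_mem yM yM') yM) (M.mul_mem (M.mul_mem zM zM') zM)
  have aT : d.Act T (h t ht0).1 := by
    have h1 := (ay.mulS ay' yM').mulS ay yM
    have h2 := (az.mulS az' zM').mulS az zM
    have h3 := h1.mulS h2 (M.mul_mem (M.mul_mem zM zM') zM)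
    rwa [Co.tor_mul ht0] at h3
  refine ⟨?_, ?_, ?_⟩
  · intro r hr
    have h1 : T * r * T⁻¹ = r := by
      apply d.ext (d.conj_mem' TM hr.1) hr.1
      · rw [Co.h_X d aT hr.1]
        linear_combination d.X r * ht1
      · rw [Co.h_Y d aT hr.1, hr.2.1]; simp
      · rw [Co.h_Z d aT hr.1, hr.2.2]; simp
    calc T * r = T * r * T⁻¹ * T := by group
      _ = r * T := by rw [h1]
  · intro e he hE
    rw [H.V_inf_Q] at he
    have h1 := d.conj_mem' TM he.1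
    have h2 := hE.2.1
    rw [d.inv_eq he.1, d.Y_mul he.1 h1, Co.h_Y d aT he.1, hst'] at h2
    refine ⟨he.1, hmul ?_, he.2⟩
    linear_combination h2
  · intro x hx hc
    obtain ⟨a, ha⟩ := H.act_Q.1 x hx
    have xM := H.Q_M hx
    rw [H.mem_cen_iff hx ha]
    have h1 := (aT.mulS ha xM).mulS (aT.inv TM) (M.inv_mem TM)
    rw [Co.h_u] at h1
    have h2 := (H.act_inv hx ha).mulS h1 (M.mul_mem (M.mul_mem TM xM) (M.inv_mem TM))
    rw [u_mul] at h2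
    have h3 : d.Act (x⁻¹ * (T * x * T⁻¹)) (1 : Matrix.SpecialLinearGroup (Fin 2) K).1 :=
      (act_one_iff (M.mul_mem (M.inv_mem xM) (M.mul_mem (M.mul_mem TM xM) (M.inv_mem TM)))).mpr hc
    have h4 := d.act_faithful h2 h3 (M.mul_mem (M.inv_mem xM) (M.mul_mem (M.mul_mem TM xM) (M.inv_mem TM)))
    rw [← u_zero] at h4
    exact hmul (Co.u_inj (congrArg Subtype.val h4))

/-- **(VE)** -/
theorem VE [Finite G] [Finite K] (i j : Pt d) (hij : i ≠ j) :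
    V ≤ (V ⊓ O (normalizer (i.1 : Set G))) ⊔ j.1 := by
  obtain ⟨g, hg, hi, hj⟩ := pair hij
  rw [hi, hj]
  exact (H.mv hg).VE0

/-- **(Tor)** -/
theorem tor [Finite G] [Finite K] (i j : Pt d) (hij : i ≠ j) : ∃ y y' z z' : G,
    Meet.Tor V (fun i : Pt d => i.1) (fun i => O (normalizer (i.1 : Set G))) i j y y' z z' := by
  obtain ⟨g, hg, hi, hj⟩ := pair hij
  obtain ⟨y, hy, y', hy', z, hz, z', hz', h1, h2, h3, h4, h5, h6⟩ := (H.mv hg).tor0
  refine ⟨y, y', z, z', ?_, ?_, ?_, ?_, ?_, ?_, ?_, ?_, ?_, ?_⟩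
  · rw [hi]; exact hy
  · rw [hi]; exact hz
  · rw [hj]; exact hy'
  · rw [hj]; exact hz'
  · change cj y j.1 = cj y' i.1; rw [hi, hj]; exact h1
  · change cj z j.1 = cj z' i.1; rw [hi, hj]; exact h2
  · change cj y j.1 ≠ cj z j.1; rw [hj]; exact h3
  · rw [hi]; exact h4
  · rw [hi]; exact h5
  · change ∀ e ∈ O (normalizer (i.1 : Set G)), _ → _; rw [hi]; exact h6

/-- The structure `Mt` for the singular points. -/
theorem mt [Finite G] [Finite K]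
    (meet : ∀ N : Subgroup G, IsPGroup 2 N → N ≤ M → (∀ m ∈ M, ∀ y ∈ N, m * y * m⁻¹ ∈ N) →
      N ⊓ V = ⊥ → N = ⊥) :
    Meet.Mt V (fun i : Pt d => i.1) (fun i => O (normalizer (i.1 : Set G))) :=
  (H.beta meet).mt H.VE

/-- **`Q i ⊓ Q j ≤ V`** -/
theorem meet_le [Finite G] [Finite K]
    (meet : ∀ N : Subgroup G, IsPGroup 2 N → N ≤ M → (∀ m ∈ M, ∀ y ∈ N, m * y * m⁻¹ ∈ N) →
      N ⊓ V = ⊥ → N = ⊥) (i j : Pt d) (hij : i ≠ j) :
    O (normalizer (i.1 : Set G)) ⊓ O (normalizer (j.1 : Set G)) ≤ V := by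
  obtain ⟨y, y', z, z', T⟩ := H.tor i j hij
  exact (H.mt meet).meet_le hij T

end Hyp

end Cfsg.Agent.Omega.NO1.Beta.Inst

end

section


/-!
# Type (gamma), `V = O₄⁺(q)`, `q ≥ 4`: the interfaces of the G-side (plan: bb OMEGA, helper983, 04:35Z)

* `Grid V R Q` : the points `R i j` of `V` (rows `i : I`, columns `j : J`), `Q i j = O₂(N(R i j))`, THEOREM BETA and
  the facts on the action.  Producer: helper914.
* `RC R Q` : the output of (I1): `Q i j = A_i A^j`.  Producer: helper983 (`Grid.lean`).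
* `Gin` : the input of (I2), (I3).  Consumer: helper321.
-/

set_option autoImplicit false

open Subgroup
open scoped Pointwise

namespace Cfsg.Agent.Omega.NO1.Gamma

open Cfsg.Agent.Omega.NO1.Beta.Meet (cj)

variable {G : Type*} [Group G] {I J : Type*}

/-- **The grid of points of `V`.**  `cj c H = c H c⁻¹`. -/
structure Grid (V : Subgroup G) (R Q : I → J → Subgroup G) : Prop where
  comm : ∀ a ∈ V, ∀ b ∈ V, a * b = b * a
  V_sq : ∀ a ∈ V, a * a = 1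
  R_le : ∀ i j, R i j ≤ V
  ne : ∀ i j, R i j ≠ ⊥
  /-- `R i j ≤ R i l ^⊥` -/
  row : ∀ i j l, R i j ≤ Q i l
  /-- `R i j ≤ R k j ^⊥` -/
  col : ∀ i k j, R i j ≤ Q k j
  disj : ∀ i j k l, R i j ⊓ R k l ≠ ⊥ → i = k ∧ j = l
  -- THEOREM BETA
  QQ : ∀ i j, ∀ y ∈ Q i j, ∀ z ∈ Q i j, y * z * y⁻¹ * z⁻¹ ∈ R i j
  Qsq : ∀ i j, ∀ y ∈ Q i j, y * y ∈ R i j
  RQ : ∀ i j, ∀ r ∈ R i j, ∀ y ∈ Q i j, r * y = y * r
  cen : ∀ i j, ∀ y ∈ Q i j, (∀ z ∈ Q i j, y * z = z * y) → y ∈ R i j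
  Q_V : ∀ i j, Q i j ≤ normalizer (V : Set G)
  /-- `Q i j = O₂(N(R i j))` -/
  conj : ∀ (y : G) i j k l, cj y (R i j) = R k l → cj y (Q i j) = Q k l
  -- the action of `Q i j` on the points
  perm : ∀ i j, ∀ y ∈ Q i j, ∃ (σ : I → I) (τ : J → J), σ i = i ∧ τ j = j ∧
    ∀ k l, cj y (R k l) = R (σ k) (τ l)
  fix : ∀ i j k l, k ≠ i → l ≠ j → ∀ y ∈ Q i j, cj y (R k l) = R k l → y ∈ centralizer (V : Set G)
  tran : ∀ i j k l k' l', k ≠ i → k' ≠ i → l ≠ j → l' ≠ j → ∃ y ∈ Q i j, cj y (R k l) = R k' l'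
  /-- `Q i j ⊓ Q k l ≤ V` for opposite points -/
  meet : ∀ i j k l, k ≠ i → l ≠ j → Q i j ⊓ Q k l ≤ V
  RQj : ∀ i j k l, k ≠ i → l ≠ j → R i j ⊓ Q k l = ⊥
  VE₁ : ∀ i j l, j ≠ l → V ≤ (V ⊓ Q i j) ⊔ (V ⊓ Q i l)
  VE₂ : ∀ i k j, i ≠ k → V ≤ (V ⊓ Q i j) ⊔ (V ⊓ Q k j)
  VE : ∀ i j k l, i ≠ k → j ≠ l → V ≤ (V ⊓ Q i j) ⊔ (V ⊓ Q k l)
  /-- `V ⊓ Q i j = T_i T^j` -/
  EE : ∀ i j k l, k ≠ i → l ≠ j → V ⊓ Q i j ≤ (R i j ⊔ R i l) ⊔ R k j
  /-- three rows, three columns -/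
  threeI : ∀ i k : I, ∃ m, m ≠ i ∧ m ≠ k
  threeJ : ∀ j l : J, ∃ m, m ≠ j ∧ m ≠ l
  /-- the elements of `Q i j` fixing the columns induce on `V` a group which depends on `i` only -/
  act₁ : ∀ i j j', ∀ x ∈ Q i j, (∀ l, cj x (R i l) = R i l) →
    ∃ y ∈ Q i j', (∀ l, cj y (R i l) = R i l) ∧ y⁻¹ * x ∈ centralizer (V : Set G)
  act₂ : ∀ j i i', ∀ x ∈ Q i j, (∀ k, cj x (R k j) = R k j) →
    ∃ y ∈ Q i' j, (∀ k, cj y (R k j) = R k j) ∧ y⁻¹ * x ∈ centralizer (V : Set G)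
  /-- the torus `diag(y, y⁻¹) × 1`, `y² ≠ 1` -/
  tor₁ : ∀ i j, ∃ h ∈ ⨆ k, ⨆ l, Q k l, (∀ l, cj h (R i l) = R i l) ∧
    ∀ x ∈ Q i j, (∀ l, cj x (R i l) = R i l) → ∃ z ∈ Q i j, (∀ l, cj z (R i l) = R i l) ∧
      x⁻¹ * (h * z * h⁻¹ * z⁻¹) ∈ centralizer (V : Set G)
  /-- the torus `1 × diag(y, y⁻¹)` -/
  tor₂ : ∀ i j, ∃ h ∈ ⨆ k, ⨆ l, Q k l, (∀ k, cj h (R k j) = R k j) ∧
    ∀ x ∈ Q i j, (∀ k, cj x (R k j) = R k j) → ∃ z ∈ Q i j, (∀ k, cj z (R k j) = R k j) ∧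
      x⁻¹ * (h * z * h⁻¹ * z⁻¹) ∈ centralizer (V : Set G)

/-- the row group `A_i = ⋂ⱼ Q i j` -/
def rowG (Q : I → J → Subgroup G) (i : I) : Subgroup G := ⨅ j, Q i j

/-- the column group `A^j = ⋂ᵢ Q i j` -/
def colG (Q : I → J → Subgroup G) (j : J) : Subgroup G := ⨅ i, Q i j

/-- **The output of (I1).** -/
structure RC (V : Subgroup G) (R Q : I → J → Subgroup G) : Prop where
  row_eq : ∀ i j l, j ≠ l → Q i j ⊓ Q i l = rowG Q i
  col_eq : ∀ i k j, i ≠ k → Q i j ⊓ Q k j = colG Q j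
  sup : ∀ i j, Q i j = rowG Q i ⊔ colG Q j
  mul : ∀ i j, ∀ x ∈ Q i j, ∃ a ∈ rowG Q i, ∃ b ∈ colG Q j, x = a * b
  inf : ∀ i j, rowG Q i ⊓ colG Q j = R i j
  R_row : ∀ i j, R i j ≤ rowG Q i
  R_col : ∀ i j, R i j ≤ colG Q j
  row_comm : ∀ i, ∀ x ∈ rowG Q i, ∀ y ∈ rowG Q i, x * y = y * x
  col_comm : ∀ j, ∀ x ∈ colG Q j, ∀ y ∈ colG Q j, x * y = y * x
  row_sq : ∀ i, ∀ x ∈ rowG Q i, x * x = 1
  col_sq : ∀ j, ∀ x ∈ colG Q j, x * x = 1
  /-- `C_{Q i j}(A_i) = A_i` -/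
  row_cent : ∀ i j, ∀ x ∈ Q i j, (∀ y ∈ rowG Q i, x * y = y * x) → x ∈ rowG Q i
  col_cent : ∀ i j, ∀ x ∈ Q i j, (∀ y ∈ colG Q j, x * y = y * x) → x ∈ colG Q j
  /-- the row groups fix the columns and conversely -/
  row_fix : ∀ i, ∀ x ∈ rowG Q i, ∀ k l, ∃ k', cj x (R k l) = R k' l
  col_fix : ∀ j, ∀ x ∈ colG Q j, ∀ k l, ∃ l', cj x (R k l) = R k l'
  /-- `C_{A_i}(V)`, `C_{A^j}(V)` for different rows / columns commute -/
  row_row : ∀ i k, i ≠ k → ∀ x ∈ rowG Q i, x ∈ centralizer (V : Set G) → ∀ y ∈ rowG Q k,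
    y ∈ centralizer (V : Set G) → x * y = y * x
  col_col : ∀ j l, j ≠ l → ∀ x ∈ colG Q j, x ∈ centralizer (V : Set G) → ∀ y ∈ colG Q l,
    y ∈ centralizer (V : Set G) → x * y = y * x
  /-- `C_{Q i j}(V) = C_{A_i}(V) C_{A^j}(V)` -/
  cenV : ∀ i j, ∀ x ∈ Q i j, x ∈ centralizer (V : Set G) → ∃ a ∈ rowG Q i, ∃ b ∈ colG Q j,
    a ∈ centralizer (V : Set G) ∧ b ∈ centralizer (V : Set G) ∧ x = a * b
  /-- an element of `C_{Q i j}(V)` centralising `C_{Q k l}(V)` for all opposite points centralises `C_{Q i j}(V)` -/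
  opp : ∀ i j, ∀ x ∈ Q i j, x ∈ centralizer (V : Set G) →
    (∀ k l, k ≠ i → l ≠ j → ∀ y ∈ Q k l, y ∈ centralizer (V : Set G) → x * y = y * x) →
    ∀ y ∈ Q i j, y ∈ centralizer (V : Set G) → x * y = y * x

/-- **The input of (I2), (I3)** (proposal).  `V = {v a b c d}`, the `2 × 2`-matrices; `i0` = the row `c = d = 0`, `j0` = the
column `b = d = 0`; `p` moves the rows, `p'` the columns. -/
structure Gin (F : Type*) [Field F] (S : Sylow 2 G) (V : Subgroup G) (R Q : I → J → Subgroup G) (i0 i1 : I) (j0 j1 : J)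
    (v : F → F → F → F → G) (p p' : G → F) : Prop where
  grid : Grid V R Q
  rc : RC V R Q
  hi : i0 ≠ i1
  hj : j0 ≠ j1
  two : (2 : F) = 0
  four : ∃ a : F, a ≠ 0 ∧ a ≠ 1
  v_add : ∀ a b c d a' b' c' d', v (a + a') (b + b') (c + c') (d + d') = v a b c d * v a' b' c' d'
  v_inj : ∀ a b c d, v a b c d = 1 → a = 0 ∧ b = 0 ∧ c = 0 ∧ d = 0
  v_mem : ∀ a b c d, v a b c d ∈ V
  v_surj : ∀ x ∈ V, ∃ a b c d, v a b c d = x
  R00 : ∀ x, x ∈ R i0 j0 ↔ ∃ a, x = v a 0 0 0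
  R01 : ∀ x, x ∈ R i0 j1 ↔ ∃ b, x = v 0 b 0 0
  R10 : ∀ x, x ∈ R i1 j0 ↔ ∃ c, x = v 0 0 c 0
  R11 : ∀ x, x ∈ R i1 j1 ↔ ∃ d, x = v 0 0 0 d
  row_V : ∀ a b c d, v a b c d ∈ rowG Q i0 ↔ c = 0 ∧ d = 0
  col_V : ∀ a b c d, v a b c d ∈ colG Q j0 ↔ b = 0 ∧ d = 0
  V_Q : ∀ a b c d, v a b c d ∈ Q i0 j0 ↔ d = 0
  act : ∀ x ∈ Q i0 j0, ∀ a b c d, x * v a b c d * x⁻¹ =
    v (a + p' x * b + p x * c + p x * p' x * d) (b + p x * d) (c + p' x * d) d
  p_surj : ∀ s t, ∃ x ∈ Q i0 j0, p x = s ∧ p' x = t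
  row_p : ∀ x ∈ rowG Q i0, p' x = 0
  col_p : ∀ x ∈ colG Q j0, p x = 0
  /-- `h(y) = diag(y, y⁻¹) × diag(y⁻¹, y)`, centralises `R = R i0 j0` -/
  tor : ∀ y : F, y ≠ 0 → ∃ h ∈ normalizer (V : Set G), ∀ a b c d,
    h * v a b c d * h⁻¹ = v a (y ^ 2 * b) ((y ^ 2)⁻¹ * c) d
  /-- `diag(y, y⁻¹) × 1`, in the group generated by the row groups: trivial on `A^j / T^j` -/
  tor' : ∀ y : F, y ≠ 0 → ∃ h ∈ ⨆ k, rowG Q k, ∀ a b c d,
    h * v a b c d * h⁻¹ = v (y * a) (y * b) (y⁻¹ * c) (y⁻¹ * d)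
  /-- the reflection `1 × w` -/
  wey : ∃ w ∈ ⨆ l, colG Q l, ∀ a b c d, w * v a b c d * w⁻¹ = v b a d c
  /-- the reflection `w × 1` -/
  wey' : ∃ w ∈ ⨆ k, rowG Q k, ∀ a b c d, w * v a b c d * w⁻¹ = v c d a b
  swap : ∃ s ∈ S, cj s V = V ∧ cj s (R i0 j0) = R i0 j0 ∧ cj s (rowG Q i0) = colG Q j0 ∧
    cj s (colG Q j0) = rowG Q i0
  norm : ∀ g : G, cj g V = V → cj g (R i0 j0) = R i0 j0 →
    (cj g (rowG Q i0) = rowG Q i0 ∧ cj g (colG Q j0) = colG Q j0) ∨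
      (cj g (rowG Q i0) = colG Q j0 ∧ cj g (colG Q j0) = rowG Q i0)
  /-- an element of `N(V)` which is unipotent for the flag `R < E < V` and trivial on `E/R` acts as an element of `Q` -/
  actU : ∀ g ∈ normalizer (V : Set G), (∀ a, g * v a 0 0 0 * g⁻¹ = v a 0 0 0) →
    (∀ b c, ∃ a, g * v 0 b c 0 * g⁻¹ = v a b c 0) → (∀ d, ∃ a b c, g * v 0 0 0 d * g⁻¹ = v a b c d) →
    ∃ x ∈ Q i0 j0, g * x⁻¹ ∈ centralizer (V : Set G)
  Q_two : IsPGroup 2 (Q i0 j0)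
  /-- `Q i0 j0 = O₂(C(R i0 j0))` -/
  max : ∀ N : Subgroup G, IsPGroup 2 N → N ≤ centralizer (R i0 j0 : Set G) →
    (∀ c ∈ centralizer (R i0 j0 : Set G), ∀ x ∈ N, c * x * c⁻¹ ∈ N) → N ≤ Q i0 j0
  char2 : centralizer (Q i0 j0 : Set G) ≤ Q i0 j0
  S_V : (S : Subgroup G) ≤ normalizer (V : Set G)
  S_R : (S : Subgroup G) ≤ normalizer (R i0 j0 : Set G)

/-- **The output of helper914** (`GinOf.lean`, helper983: `Gin0 → Gin`). -/
structure Gin0 (F : Type*) [Field F] (S : Sylow 2 G) (V : Subgroup G) (R Q : I → J → Subgroup G) (i0 i1 : I) (j0 j1 : J)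
    (v : F → F → F → F → G) (p p' : G → F) : Prop where
  grid : Grid V R Q
  hi : i0 ≠ i1
  hj : j0 ≠ j1
  two : (2 : F) = 0
  four : ∃ a : F, a ≠ 0 ∧ a ≠ 1
  v_add : ∀ a b c d a' b' c' d', v (a + a') (b + b') (c + c') (d + d') = v a b c d * v a' b' c' d'
  v_inj : ∀ a b c d, v a b c d = 1 → a = 0 ∧ b = 0 ∧ c = 0 ∧ d = 0
  v_mem : ∀ a b c d, v a b c d ∈ V
  v_surj : ∀ x ∈ V, ∃ a b c d, v a b c d = x
  R00 : ∀ x, x ∈ R i0 j0 ↔ ∃ a, x = v a 0 0 0
  R01 : ∀ x, x ∈ R i0 j1 ↔ ∃ b, x = v 0 b 0 0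
  R10 : ∀ x, x ∈ R i1 j0 ↔ ∃ c, x = v 0 0 c 0
  R11 : ∀ x, x ∈ R i1 j1 ↔ ∃ d, x = v 0 0 0 d
  V_Q : ∀ a b c d, v a b c d ∈ Q i0 j0 ↔ d = 0
  act : ∀ x ∈ Q i0 j0, ∀ a b c d, x * v a b c d * x⁻¹ =
    v (a + p' x * b + p x * c + p x * p' x * d) (b + p x * d) (c + p' x * d) d
  p_surj : ∀ s t, ∃ x ∈ Q i0 j0, p x = s ∧ p' x = t
  /-- the opposite point -/
  act' : ∀ s t, ∃ x ∈ Q i1 j1, ∀ a b c d, x * v a b c d * x⁻¹ =
    v a (b + t * a) (c + s * a) (d + s * b + t * c + s * t * a)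
  tor : ∀ y : F, y ≠ 0 → ∃ h ∈ normalizer (V : Set G), ∀ a b c d,
    h * v a b c d * h⁻¹ = v a (y ^ 2 * b) ((y ^ 2)⁻¹ * c) d
  /-- `S` normalises `V` and `R i0 j0` and contains an element interchanging rows and columns -/
  swap : ∃ s ∈ S, ∃ (σ : J → I) (τ : I → J), ∀ i j, cj s (R i j) = R (σ j) (τ i)
  /-- `N(V)` permutes the rows and the columns or interchanges them -/
  norm : ∀ g : G, cj g V = V → (∃ (σ : I → I) (τ : J → J), ∀ i j, cj g (R i j) = R (σ i) (τ j)) ∨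
    ∃ (σ : J → I) (τ : I → J), ∀ i j, cj g (R i j) = R (σ j) (τ i)
  actU : ∀ g ∈ normalizer (V : Set G), (∀ a, g * v a 0 0 0 * g⁻¹ = v a 0 0 0) →
    (∀ b c, ∃ a, g * v 0 b c 0 * g⁻¹ = v a b c 0) → (∀ d, ∃ a b c, g * v 0 0 0 d * g⁻¹ = v a b c d) →
    ∃ x ∈ Q i0 j0, g * x⁻¹ ∈ centralizer (V : Set G)
  Q_two : IsPGroup 2 (Q i0 j0)
  max : ∀ N : Subgroup G, IsPGroup 2 N → N ≤ centralizer (R i0 j0 : Set G) →
    (∀ c ∈ centralizer (R i0 j0 : Set G), ∀ x ∈ N, c * x * c⁻¹ ∈ N) → N ≤ Q i0 j0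
  char2 : centralizer (Q i0 j0 : Set G) ≤ Q i0 j0
  S_V : (S : Subgroup G) ≤ normalizer (V : Set G)
  S_R : (S : Subgroup G) ≤ normalizer (R i0 j0 : Set G)

/-- **The output of (I2), (I3)**, `A = rowG Q i0`, `B = colG Q j0`, `R = R i0 j0`. -/
structure POut (V R A B : Subgroup G) : Prop where
  /-- `N_G(R)` permutes `{A, B}` -/
  perm : ∀ g : G, cj g R = R → (cj g A = A ∧ cj g B = B) ∨ (cj g A = B ∧ cj g B = A)
  /-- commuting pairs are conjugate into `V` -/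
  tran : ∀ x ∈ A, x ∉ R → ∀ y ∈ B, y ∉ R → x * y = y * x → ∃ g : G, cj g R = R ∧ cj g A = A ∧ cj g B = B ∧
    g * x * g⁻¹ ∈ V ∧ g * y * g⁻¹ ∈ V
  tranA : ∀ x ∈ A, x ∉ R → ∃ g : G, cj g R = R ∧ cj g A = A ∧ cj g B = B ∧ g * x * g⁻¹ ∈ V
  tranB : ∀ y ∈ B, y ∉ R → ∃ g : G, cj g R = R ∧ cj g A = A ∧ cj g B = B ∧ g * y * g⁻¹ ∈ V

/-- **The input of (I5)** (`Bip.lean`, helper749): contradictory. -/
structure Bip (R A B : Subgroup G) : Prop where
  ne : R ≠ ⊥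
  ti : ∀ g : G, R ⊓ cj g R ≠ ⊥ → cj g R = R
  inf : A ⊓ B = R
  comA : ∀ x ∈ A, ∀ y ∈ A, x * y = y * x
  comB : ∀ x ∈ B, ∀ y ∈ B, x * y = y * x
  comm : ∀ x ∈ A, ∀ y ∈ B, x * y * x⁻¹ * y⁻¹ ∈ R
  nor : ∀ g : G, cj g R = R → (cj g A = A ∧ cj g B = B) ∨ (cj g A = B ∧ cj g B = A)
  cenA : ∀ x ∈ A, (∀ y ∈ B, x * y = y * x) → x ∈ R
  cenB : ∀ y ∈ B, (∀ x ∈ A, x * y = y * x) → y ∈ R
  covA : ∀ x ∈ A, ∃ g : G, cj g A = A ∧ g * x * g⁻¹ ∈ R
  covB : ∀ y ∈ B, ∃ g : G, cj g B = B ∧ g * y * g⁻¹ ∈ R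
  big : Nat.card R ^ 2 < Nat.card B
  swap : ∃ s : G, cj s R = R ∧ cj s A = B ∧ cj s B = A
  key : ∀ m n : G, cj m B = B → cj n A = A → cj m R ≠ R → cj n R ≠ R →
    (∀ x ∈ cj m R, ∀ y ∈ cj n R, x * y = y * x) → ∃ g : G, cj m A = cj g A ∧ cj n B = cj g B
  gen : normalizer (A : Set G) ⊔ normalizer (B : Set G) = ⊤

end Cfsg.Agent.Omega.NO1.Gamma

end

section


/-!
# THEOREM BETA, PART F (the application, field-free)

`V` elementary abelian (only `R ≤ V` and "involutions" are used), `Z ≤ R ≤ V`, `Qt = O₂(C(Z))` contains its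
centraliser in `C(Z)`, `Qt` centralises `R`, and every involution `y` of `Z(Qt)` centralises `V`.  Then
`V ≤ O₂(N(R))` forces `V ≤ Qt`.
-/

set_option autoImplicit false
set_option linter.dupNamespace false
set_option linter.unusedSectionVars false
set_option linter.unusedVariables false

open Subgroup
open scoped Pointwise

namespace Cfsg.Agent.Omega.NO1.Beta.App

variable {G : Type*} [Group G]

/-- The core: `K = ⟨V^{C}⟩` for `C = C(Z)` centralises the involutions of `Z(Qt)`. -/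
theorem closure_comm {C V Qt : Subgroup G}
    (nor : ∀ c ∈ C, ∀ y ∈ Qt, c * y * c⁻¹ ∈ Qt)
    (hY : ∀ y ∈ Qt, (∀ x ∈ Qt, x * y = y * x) → y * y = 1 → ∀ v ∈ V, v * y = y * v)
    {k : G} (hk : k ∈ closure {x : G | ∃ c ∈ C, ∃ v ∈ V, x = c * v * c⁻¹}) :
    ∀ y ∈ Qt, (∀ x ∈ Qt, x * y = y * x) → y * y = 1 → k * y = y * k := by
  refine closure_induction (p := fun k _ => ∀ y ∈ Qt, (∀ x ∈ Qt, x * y = y * x) → y * y = 1 →
    k * y = y * k) ?_ ?_ ?_ ?_ hk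
  · rintro x ⟨c, hc, v, hv, rfl⟩ y hy hyc hy2
    have nor' : ∀ x ∈ Qt, c⁻¹ * x * c ∈ Qt := by
      intro x hx
      simpa using nor c⁻¹ (inv_mem hc) x hx
    have h1 : c⁻¹ * y * c ∈ Qt := nor' y hy
    have h2 : ∀ x ∈ Qt, x * (c⁻¹ * y * c) = (c⁻¹ * y * c) * x := by
      intro x hx
      have h3 := hyc _ (nor c hc x hx)
      calc x * (c⁻¹ * y * c) = c⁻¹ * (c * x * c⁻¹ * y) * c := by group
        _ = c⁻¹ * (y * (c * x * c⁻¹)) * c := by rw [h3]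
        _ = (c⁻¹ * y * c) * x := by group
    have h3 : (c⁻¹ * y * c) * (c⁻¹ * y * c) = 1 := by
      calc (c⁻¹ * y * c) * (c⁻¹ * y * c) = c⁻¹ * (y * y) * c := by group
        _ = 1 := by rw [hy2]; group
    have h4 := hY _ h1 h2 h3 v hv
    calc c * v * c⁻¹ * y = c * (v * (c⁻¹ * y * c)) * c⁻¹ := by group
      _ = c * ((c⁻¹ * y * c) * v) * c⁻¹ := by rw [h4]
      _ = y * (c * v * c⁻¹) := by group
  · intro y _ _ _; simp
  · intro a b _ _ ha hb y hy hyc hy2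
    rw [mul_assoc, hb y hy hyc hy2, ← mul_assoc, ha y hy hyc hy2, mul_assoc]
  · intro a _ ha y hy hyc hy2
    have := ha y hy hyc hy2
    calc a⁻¹ * y = a⁻¹ * (y * a) * a⁻¹ := by group
      _ = a⁻¹ * (a * y) * a⁻¹ := by rw [this]
      _ = y * a⁻¹ := by group

/-- **PART F.**  `C` plays `C(Z)` (only `V ≤ C`, `Qt` normal in `C` and maximal are used), `Qt = O₂(C)`,
`Q` = a 2-subgroup normalised by `N(R)`. -/
theorem le_of_le [Finite G] {C V R Qt Q : Subgroup G}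
    (V_C : V ≤ C)
    (nor : ∀ c ∈ C, ∀ y ∈ Qt, c * y * c⁻¹ ∈ Qt)
    (max : ∀ N : Subgroup G, IsPGroup 2 N → N ≤ C → (∀ c ∈ C, ∀ y ∈ N, c * y * c⁻¹ ∈ N) → N ≤ Qt)
    (char2 : ∀ c ∈ C, (∀ x ∈ Qt, x * c = c * x) → c ∈ Qt)
    (R_V : R ≤ V) (R_sq : ∀ r ∈ R, r * r = 1)
    (cenR : ∀ r ∈ R, ∀ x ∈ Qt, x * r = r * x)
    (hY : ∀ y ∈ Qt, (∀ x ∈ Qt, x * y = y * x) → y * y = 1 → ∀ v ∈ V, v * y = y * v)
    (two : IsPGroup 2 Q)
    (norQ : ∀ c ∈ normalizer (R : Set G), ∀ y ∈ Q, c * y * c⁻¹ ∈ Q)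
    (hVQ : V ≤ Q) : V ≤ Qt := by
  let K : Subgroup G := closure {x : G | ∃ c ∈ C, ∃ v ∈ V, x = c * v * c⁻¹}
  have hKc : ∀ k ∈ K, ∀ y ∈ Qt, (∀ x ∈ Qt, x * y = y * x) → y * y = 1 → k * y = y * k :=
    fun k hk => closure_comm nor hY hk
  have hKR : ∀ k ∈ K, ∀ r ∈ R, k * r = r * k := by
    intro k hk r hr
    exact hKc k hk r (char2 r (V_C (R_V hr)) (cenR r hr)) (cenR r hr) (R_sq r hr)
  have hKN : K ≤ normalizer (R : Set G) := by
    intro k hk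
    rw [mem_normalizer_iff]
    intro r
    constructor
    · intro hr
      have h1 := hKR k hk r hr
      have h2 : k * r * k⁻¹ = r := by rw [h1]; group
      rw [h2]; exact hr
    · intro hr
      have h1 := hKR k hk _ hr
      have h2 : r = k⁻¹ * (k * r * k⁻¹ * k) := by group
      have h3 : r = k * r * k⁻¹ := by
        calc r = k⁻¹ * (k * r * k⁻¹ * k) := h2
          _ = k⁻¹ * (k * (k * r * k⁻¹)) := by rw [h1]
          _ = k * r * k⁻¹ := by group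
      rw [h3]; exact hr
  have hKC : K ≤ C := by
    rw [closure_le]
    rintro x ⟨c, hc, v, hv, rfl⟩
    exact mul_mem (mul_mem hc (V_C hv)) (inv_mem hc)
  have hKnor : ∀ c ∈ C, ∀ k ∈ K, c * k * c⁻¹ ∈ K := by
    intro c hc k hk
    refine closure_induction (p := fun k _ => c * k * c⁻¹ ∈ K) ?_ ?_ ?_ ?_ hk
    · rintro x ⟨d, hd, v, hv, rfl⟩
      refine subset_closure ⟨c * d, mul_mem hc hd, v, hv, ?_⟩
      group
    · simp
    · intro a b _ _ ha hb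
      have h1 := mul_mem ha hb
      have h2 : c * (a * b) * c⁻¹ = c * a * c⁻¹ * (c * b * c⁻¹) := by group
      rw [h2]; exact h1
    · intro a _ ha
      have h1 := inv_mem ha
      have h2 : c * a⁻¹ * c⁻¹ = (c * a * c⁻¹)⁻¹ := by group
      rw [h2]; exact h1
  obtain ⟨N, hN2, hNK, hNn, hNmax⟩ := exists_two_core K
  have hNC : ∀ c ∈ C, ∀ y ∈ N, c * y * c⁻¹ ∈ N := by
    intro c hc y hy
    have h1 : N.map (MulAut.conj c).toMonoidHom ≤ N := by
      apply hNmax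
      · exact hN2.map _
      · rintro x ⟨w, hw, rfl⟩
        exact hKnor c hc w (hNK hw)
      · rintro b hb x ⟨w, hw, rfl⟩
        refine ⟨(c⁻¹ * b * c) * w * (c⁻¹ * b * c)⁻¹, ?_, ?_⟩
        · have h2 : c⁻¹ * b * c ∈ K := by simpa using hKnor c⁻¹ (inv_mem hc) b hb
          exact hNn _ h2 w hw
        · simp only [MulEquiv.coe_toMonoidHom, MulAut.conj_apply]
          group
    exact h1 ⟨y, hy, rfl⟩
  have hNQ : N ≤ Qt := max N hN2 (le_trans hNK hKC) hNC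
  have hVK : V ≤ K := fun v hv => subset_closure ⟨1, C.one_mem, v, hv, by group⟩
  have hV0 : Q ⊓ K ≤ N := by
    apply hNmax
    · exact two.to_le inf_le_left
    · exact inf_le_right
    · intro k hk y hy
      exact ⟨norQ k (hKN hk) y hy.1, K.mul_mem (K.mul_mem hk hy.2) (K.inv_mem hk)⟩
  exact fun v hv => hNQ (hV0 ⟨hVQ hv, hVK hv⟩)

end Cfsg.Agent.Omega.NO1.Beta.App

end
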