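import Cfsg.Agent.Mrg.Omega.NO1.Beta.Meet
import Cfsg.Agent.Mrg.Omega.Transv.Basic


/-!
# THEOREM BETA, part F: the application

`Sy d O S Z` : `d` coordinates on `V = O₄⁻(q)`, `S ≤ M` a Sylow 2-subgroup, `Z = Ω₁(Z(S)) ≤ V`, the relevant local
subgroups are of characteristic 2, `V ≰ O₂(C(Z))`.  Then (`Sy.main`) after moving the coordinates, `S` fixes `R₀`,
`Z ≤ R₀` and `Hyp d O` holds: `V ≰ O₂(N(R₀))`.
-/

set_option autoImplicit false
set_option linter.unusedVariables false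
set_option linter.unusedSectionVars false

open Subgroup
open scoped Pointwise

namespace Cfsg.Agent.Omega.NO1.Beta.Inst

open Co (u l h w u_zero u_mul u_inv one_ne_u act_one act_one_iff)

variable {G : Type*} [Group G]

section sylow

variable [Finite G] (S : Sylow 2 G)

/-- 2-elements of `L ≥ S` are conjugate into `S`. -/
theorem exists_conj_mem {L : Subgroup G} (hS : (S : Subgroup G) ≤ L) {g : G} (hg : g ∈ L) {n : ℕ}
    (hn : g ^ 2 ^ n = 1) : ∃ l ∈ L, l * g * l⁻¹ ∈ (S : Subgroup G) := by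
  have : Fact (Nat.Prime 2) := ⟨Nat.prime_two⟩
  let g' : L := ⟨g, hg⟩
  have h1 : IsPGroup 2 (zpowers g') := by
    rw [IsPGroup.iff_card]
    have h2 : orderOf g' ∣ 2 ^ n := orderOf_dvd_of_pow_eq_one (Subtype.ext (by simpa using hn))
    obtain ⟨k, -, hk⟩ := (Nat.dvd_prime_pow Nat.prime_two).mp h2
    exact ⟨k, by rw [Nat.card_zpowers, hk]⟩
  obtain ⟨P, hP⟩ := h1.exists_le_sylow
  obtain ⟨l, hl⟩ := MulAction.exists_smul_eq L P (S.subtype hS)
  refine ⟨l, l.2, ?_⟩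
  have h3 : l * g' * l⁻¹ ∈ ((l • P : Sylow 2 L) : Subgroup L) := by
    rw [Sylow.coe_subgroup_smul]
    exact Subgroup.smul_mem_pointwise_smul g' (MulAut.conj l) _ (hP (mem_zpowers g'))
  rw [hl] at h3
  exact h3

/-- a normal 2-subgroup of `L ≥ S` lies in `S` -/
theorem le_sylow {L N : Subgroup G} (hS : (S : Subgroup G) ≤ L) (hN : IsPGroup 2 N)
    (hn : ∀ c ∈ L, ∀ y ∈ N, c * y * c⁻¹ ∈ N) : N ≤ S := by
  have h1 : (S : Subgroup G) ≤ normalizer (N : Set G) := by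
    intro s hs
    rw [mem_normalizer_iff]
    intro y
    refine ⟨fun hy => hn s (hS hs) y hy, fun hy => ?_⟩
    have := hn s⁻¹ (inv_mem (hS hs)) _ hy
    have e : s⁻¹ * (s * y * s⁻¹) * s⁻¹⁻¹ = y := by group
    rwa [e] at this
  have h2 : IsPGroup 2 ↥((S : Subgroup G) ⊔ N) := S.isPGroup'.to_sup_of_normal_right' hN h1
  have h3 := S.is_maximal' h2 le_sup_left
  calc N ≤ (S : Subgroup G) ⊔ N := le_sup_right
    _ = S := h3

end sylow

variable {K : Type*} [Field K] {σ : K ≃+* K} {M V : Subgroup G} [CharP K 2]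

/-! ### the number of points is odd -/

theorem two_dvd_card [Finite K] : 2 ∣ Nat.card K := by
  have h1 : addOrderOf (1 : K) = 2 := CharP.eq K (by
    have := CharP.addOrderOf_one K
    infer_instance) inferInstance
  rw [← h1]
  exact addOrderOf_dvd_natCard 1

theorem card_Pt_eq [Finite G] [Finite K] (d : Co K σ M V) : Nat.card (Pt d) = Nat.card K + 1 := by
  classical
  apply le_antisymm _ (Hyp.card_Pt d)
  choose k hk hka using fun a : K => d.exists_act (u a)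
  obtain ⟨m, hm, hmR⟩ := Co.Roo_eq d
  let f : Option K → Pt d := fun o => match o with
    | none => ⟨d.R0, 1, M.one_mem, by rw [cj_one]⟩
    | some a => ⟨cj (k a) d.Roo, k a * m, M.mul_mem (hk a) hm, by rw [cj_mul, hmR]⟩
  have hf : Function.Surjective f := by
    rintro ⟨R, g, hg, rfl⟩
    by_cases h0 : cj g d.R0 = d.R0
    · exact ⟨none, Subtype.ext h0.symm⟩
    · obtain ⟨κ, hκ⟩ := d.two_trans hg h0
      exact ⟨some κ, Subtype.ext (hκ _ (hk κ) (hka κ)).symm⟩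
  have h1 := Nat.card_le_card_of_surjective f hf
  rwa [Finite.card_option] at h1

/-- the action of `S ≤ M` on the points -/
@[instance_reducible] def actPt (d : Co K σ M V) {S : Subgroup G} (hS : S ≤ M) : MulAction S (Pt d) where
  smul s i := ⟨cj (s : G) i.1, by
    obtain ⟨g, hg, he⟩ := i.2
    exact ⟨s * g, M.mul_mem (hS s.2) hg, by rw [cj_mul, he]⟩⟩
  one_smul i := Subtype.ext (cj_one _)
  mul_smul s t i := Subtype.ext (cj_mul _ _ _)

/-- `S` fixes a point -/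
theorem exists_fixed_pt [Finite G] [Finite K] (d : Co K σ M V) {S : Subgroup G} (hS : S ≤ M)
    (h2 : IsPGroup 2 S) : ∃ (g : G) (hg : g ∈ M), ∀ s ∈ S, cj s (d.mv g hg).R0 = (d.mv g hg).R0 := by
  have : Fact (Nat.Prime 2) := ⟨Nat.prime_two⟩
  let _ := actPt d hS
  have h1 : ¬ 2 ∣ Nat.card (Pt d) := by
    rw [card_Pt_eq]
    have := two_dvd_card (K := K)
    omega
  obtain ⟨i, hi⟩ := h2.nonempty_fixed_point_of_prime_not_dvd_card (Pt d) h1
  obtain ⟨g, hg, he⟩ := i.2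
  refine ⟨g, hg, fun s hs => ?_⟩
  rw [d.mv_R0 hg, ← he]
  have h3 := hi ⟨s, hs⟩
  exact congrArg Subtype.val h3

/-! ### `S` covers `U₀` -/

/-- the elements inducing elements of `U₀` -/
def Wg (d : Co K σ M V) : Subgroup G where
  carrier := {g | g ∈ M ∧ ∃ a, d.Act g (u a).1}
  one_mem' := ⟨M.one_mem, 0, by rw [u_zero]; exact act_one⟩
  mul_mem' := by
    rintro y y' ⟨hy, a, hya⟩ ⟨hy', b, hyb⟩
    exact ⟨M.mul_mem hy hy', a + b, by rw [← u_mul]; exact hya.mulS hyb hy'⟩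
  inv_mem' := by
    rintro y ⟨hy, a, hya⟩
    exact ⟨M.inv_mem hy, a, by rw [← u_inv]; exact hya.inv hy⟩

/-- the stabiliser of `R₀` in `M` normalises `Wg` -/
theorem norm_Wg [Finite G] (d : Co K σ M V) {s g : G} (hs : s ∈ M) (hsR : cj s d.R0 = d.R0) (hg : g ∈ Wg d) :
    s * g * s⁻¹ ∈ Wg d := by
  obtain ⟨hgM, a, ha⟩ := hg
  have hM : s * g * s⁻¹ ∈ M := M.mul_mem (M.mul_mem hs hgM) (M.inv_mem hs)
  obtain ⟨B, hB⟩ := d.conj_act hs hgM ha
  refine ⟨hM, ?_⟩
  -- `B² = 1`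
  have h2 : d.Act (g * g) (1 : Matrix.SpecialLinearGroup (Fin 2) K).1 := by
    have := ha.mulS ha hgM
    rwa [u_mul, CharTwo.add_self_eq_zero, u_zero] at this
  have h3 : g * g ∈ centralizer (V : Set G) := (act_one_iff (M.mul_mem hgM hgM)).mp h2
  have h4 := d.cen_conj hs h3
  have hM2 : s * (g * g) * s⁻¹ ∈ M := M.mul_mem (M.mul_mem hs (M.mul_mem hgM hgM)) (M.inv_mem hs)
  have h5 : d.Act (s * (g * g) * s⁻¹) (1 : Matrix.SpecialLinearGroup (Fin 2) K).1 :=
    (act_one_iff hM2).mpr h4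
  have h6 := hB.mulS hB hM
  have e : s * g * s⁻¹ * (s * g * s⁻¹) = s * (g * g) * s⁻¹ := by group
  rw [e] at h6
  have h7 : B * B = 1 := d.act_faithful h6 h5 hM2
  -- `B` fixes `R₀`
  have h8 : B.1 1 0 = 0 := by
    obtain ⟨v, hv, x1, y1, z1⟩ := d.exists_v 1 0 0 (map_one σ) (map_zero σ)
    have f1 : v ∈ d.R0 := ⟨hv, y1, z1⟩
    have f2 : s * g * s⁻¹ * v * (s * g * s⁻¹)⁻¹ ∈ d.R0 := by
      have g1 : s⁻¹ * v * s ∈ d.R0 := by
        rw [← mem_cj, hsR]; exact f1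
      have g2 := d.fix_of_mem_R0 g1 hgM ha
      have e : s * g * s⁻¹ * v * (s * g * s⁻¹)⁻¹ = s * (g * (s⁻¹ * v * s) * g⁻¹) * s⁻¹ := by group
      rw [e, g2]
      have e2 : s * (s⁻¹ * v * s) * s⁻¹ = v := by group
      rw [e2]; exact f1
    have f3 := hB.Z hv
    rw [f2.2.2, x1, y1, z1] at f3
    simp only [map_zero, mul_zero, mul_one, add_zero, zero_mul] at f3
    rcases mul_eq_zero.mp f3.symm with h | h
    · exact h
    · exact (map_eq_zero σ).mp h
  by_cases hB1 : B = 1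
  · exact ⟨0, by rw [u_zero, ← hB1]; exact hB⟩
  · rcases Co.invol_cases B h7 hB1 with ⟨b, hb, rfl⟩ | ⟨κ, b, hb, hBe⟩
    · exact ⟨b, hB⟩
    · exfalso
      have h9 := h8
      rw [hBe] at h9
      have e1 : (u κ * w : Matrix.SpecialLinearGroup (Fin 2) K)⁻¹ = w * u κ := by
        rw [inv_eq_iff_mul_eq_one]
        apply Subtype.ext
        simp only [Matrix.SpecialLinearGroup.coe_mul, Matrix.SpecialLinearGroup.coe_one]
        ext i j
        fin_cases i <;> fin_cases j <;>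
          simp [u, w, Matrix.mul_apply, Fin.sum_univ_two, CharTwo.add_self_eq_zero]
      rw [e1] at h9
      simp only [Matrix.SpecialLinearGroup.coe_mul] at h9
      simp [u, w, Matrix.mul_apply, Fin.sum_univ_two] at h9
      exact hb h9

/-- **`S` covers `U₀`** -/
theorem cover_S [Finite G] (d : Co K σ M V) (S : Sylow 2 G) (hS : (S : Subgroup G) ≤ M)
    (hR : ∀ s ∈ (S : Subgroup G), cj s d.R0 = d.R0) (a : K) :
    ∃ s ∈ (S : Subgroup G), d.Act s (u a).1 := by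
  obtain ⟨g, hg, hga⟩ := d.exists_act (u a)
  -- a 2-element
  obtain ⟨m, n, hm, hmn⟩ : ∃ m n : ℕ, Odd m ∧ (g ^ m) ^ 2 ^ n = 1 := by
    have h0 : orderOf g ≠ 0 := (orderOf_pos g).ne'
    obtain ⟨n, m, hm, he⟩ := Nat.exists_eq_two_pow_mul_odd h0
    refine ⟨m, n, hm, ?_⟩
    rw [← pow_mul, mul_comm m, ← he]
    exact pow_orderOf_eq_one g
  have hpow : ∀ k : ℕ, (u a : Matrix.SpecialLinearGroup (Fin 2) K) ^ (2 * k) = 1 := by
    intro k
    rw [pow_mul, pow_two, u_mul, CharTwo.add_self_eq_zero, u_zero, one_pow]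
  have h1 : d.Act (g ^ m) (u a).1 := by
    obtain ⟨k, rfl⟩ := hm
    have := hga.pow hg (2 * k + 1)
    rwa [pow_succ (u a), hpow k, one_mul] at this
  have h1M : g ^ m ∈ M := M.pow_mem hg m
  have h1W : g ^ m ∈ Wg d := ⟨h1M, a, h1⟩
  have hSW : (S : Subgroup G) ≤ normalizer (Wg d : Set G) := by
    intro s hs
    rw [mem_normalizer_iff]
    intro y
    refine ⟨fun hy => norm_Wg d (hS hs) (hR s hs) hy, fun hy => ?_⟩
    have := norm_Wg d (inv_mem (hS hs)) (hR s⁻¹ (inv_mem hs)) hy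
    have e : s⁻¹ * (s * y * s⁻¹) * s⁻¹⁻¹ = y := by group
    rwa [e] at this
  obtain ⟨l, hl, hlS⟩ := exists_conj_mem S (L := (S : Subgroup G) ⊔ Wg d) le_sup_left
    (mem_sup_right h1W) hmn
  rw [← SetLike.mem_coe, Subgroup.coe_mul_of_left_le_normalizer_right _ _ hSW, Set.mem_mul] at hl
  obtain ⟨s, hs, x, hx, rfl⟩ := hl
  obtain ⟨hxM, b, hxb⟩ := hx
  have h2 : x * g ^ m * x⁻¹ ∈ (S : Subgroup G) := by
    have h3 := (S : Subgroup G).mul_mem ((S : Subgroup G).mul_mem ((S : Subgroup G).inv_mem hs) hlS) hs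
    have e : s⁻¹ * (s * x * g ^ m * (s * x)⁻¹) * s = x * g ^ m * x⁻¹ := by group
    rwa [e] at h3
  refine ⟨_, h2, ?_⟩
  have h4 := (hxb.mulS h1 h1M).mulS (hxb.inv hxM) (M.inv_mem hxM)
  rw [u_inv, u_mul, u_mul] at h4
  have e : b + a + b = a := by
    have := CharTwo.add_self_eq_zero b
    linear_combination this
  rwa [e] at h4

/-! ### the application -/

/-- The hypotheses of the application: `O H = O₂(H)`, `Z = Ω₁(Z(S)) ≤ V`. -/
structure Sy (d : Co K σ M V) (O : Subgroup G → Subgroup G) (S Z : Subgroup G) : Prop where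
  isO : IsO O
  C_M : centralizer (V : Set G) ≤ M
  S_M : S ≤ M
  Z_V : Z ≤ V
  Z_S : ∀ z ∈ Z, ∀ s ∈ S, z * s = s * z
  Z_max : ∀ x ∈ S, x * x = 1 → (∀ s ∈ S, x * s = s * x) → x ∈ Z
  char2N : ∀ R : Subgroup G, R ≠ ⊥ → R ≤ V → S ≤ normalizer (R : Set G) →
    ∀ x ∈ normalizer (R : Set G), (∀ y ∈ O (normalizer (R : Set G)), x * y = y * x) →
      x ∈ O (normalizer (R : Set G))
  char2C : ∀ x ∈ centralizer (Z : Set G), (∀ y ∈ O (centralizer (Z : Set G)), x * y = y * x) →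
    x ∈ O (centralizer (Z : Set G))
  V_Qt : ¬ V ≤ O (centralizer (Z : Set G))

namespace Sy

variable {d : Co K σ M V} {O : Subgroup G → Subgroup G} {S : Sylow 2 G} {Z : Subgroup G}

theorem mv (H : Sy d O S Z) {g : G} (hg : g ∈ M) : Sy (d.mv g hg) O S Z :=
  ⟨H.isO, H.C_M, H.S_M, H.Z_V, H.Z_S, H.Z_max, H.char2N, H.char2C, H.V_Qt⟩

/-- `N ∩ V = 1` implies `N = 1` for normal 2-subgroups `N` of `M` -/
theorem meet [Finite G] (H : Sy d O S Z) (N : Subgroup G) (hN : IsPGroup 2 N) (hNM : N ≤ M)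
    (hn : ∀ m ∈ M, ∀ y ∈ N, m * y * m⁻¹ ∈ N) (hNV : N ⊓ V = ⊥) : N = ⊥ := by
  have : Fact (Nat.Prime 2) := ⟨Nat.prime_two⟩
  have hNS : N ≤ S := le_sylow S H.S_M hN hn
  by_contra hne
  obtain ⟨n0, hn0, hn1⟩ : ∃ n ∈ N, n ≠ 1 := by
    by_contra hcon
    push Not at hcon
    exact hne ((eq_bot_iff_forall _).2 hcon)
  obtain ⟨n, hnN, hn1, hnc⟩ := GTwoFour.Tools.exists_fixed_mod (Y := (S : Subgroup G)) (N := N)
    (M := ⊥) S.isPGroup' hNS (fun y hy n hn' => hn y (H.S_M hy) n hn')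
    (fun y hy m hm => by rw [mem_bot] at hm ⊢; rw [hm]; group) ⟨n0, hn0, hn1⟩
  have hcen : ∀ s ∈ (S : Subgroup G), n * s = s * n := by
    intro s hs
    have h1 := hnc s hs
    rw [mem_bot, commutatorElement_eq_one_iff_mul_comm] at h1
    exact h1.symm
  -- a power of `n` is an involution
  have hne1 : n ≠ 1 := fun h0 => hn1 (by rw [h0]; exact Subgroup.one_mem _)
  obtain ⟨k, hk⟩ := hN ⟨n, hnN⟩
  have hk' : n ^ 2 ^ k = 1 := by simpa using congrArg Subtype.val hk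
  have hex : ∃ k, n ^ 2 ^ k = 1 := ⟨k, hk'⟩
  classical
  have hf := Nat.find_spec hex
  set j := Nat.find hex with hj
  have hj0 : j ≠ 0 := by
    intro h0
    rw [h0, pow_zero, pow_one] at hf
    exact hne1 hf
  obtain ⟨i, hi⟩ := Nat.exists_eq_succ_of_ne_zero hj0
  have hlt : n ^ 2 ^ i ≠ 1 := Nat.find_min hex (by omega)
  have hz : n ^ 2 ^ i ∈ Z := by
    apply H.Z_max _ (hNS (N.pow_mem hnN _))
    · rw [← pow_add, ← two_mul, ← pow_succ', ← Nat.succ_eq_add_one, ← hi]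
      exact hf
    · intro s hs
      exact (Commute.pow_left (hcen s hs) _)
  apply hlt
  have : n ^ 2 ^ i ∈ N ⊓ V := mem_inf.mpr ⟨N.pow_mem hnN _, H.Z_V hz⟩
  rw [hNV, mem_bot] at this
  exact this

/-- `Z ≤ R₀` if `S` fixes `R₀` -/
theorem Z_R0 [Finite G] (H : Sy d O S Z) (hR : ∀ s ∈ (S : Subgroup G), cj s d.R0 = d.R0) : Z ≤ d.R0 := by
  intro z hz
  apply d.mem_R0_of_fix (H.Z_V hz)
  intro a ha g hg hga
  obtain ⟨s, hs, hsa⟩ := cover_S d S H.S_M hR a
  rw [hga.eq hsa hg (H.S_M hs) (H.Z_V hz), ← H.Z_S z hz s hs, mul_inv_cancel_right]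

/-- **the main step**: `Hyp` holds at the point fixed by `S` -/
theorem hyp [Finite G] [Finite K] (H : Sy d O S Z) (hR : ∀ s ∈ (S : Subgroup G), cj s d.R0 = d.R0) :
    Hyp d O := by
  have hZR := H.Z_R0 hR
  set C : Subgroup G := centralizer (Z : Set G) with hC
  set Qt : Subgroup G := O C with hQt
  have hSC : (S : Subgroup G) ≤ C := by
    intro s hs
    rw [hC, mem_centralizer_iff]
    intro z hz
    exact H.Z_S z hz s hs
  have hVC : V ≤ C := by
    intro v hv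
    rw [hC, mem_centralizer_iff]
    intro z hz
    exact d.comm (H.Z_V hz) hv
  have hQtS : Qt ≤ S := le_sylow S hSC (H.isO.two C) (H.isO.nor C)
  have hQtM : Qt ≤ M := hQtS.trans H.S_M
  have hR0ne : d.R0 ≠ ⊥ := by
    intro h0
    obtain ⟨v, hv, x1, y1, z1⟩ := d.exists_v 1 0 0 (map_one σ) (map_zero σ)
    have h1 : v ∈ d.R0 := ⟨hv, y1, z1⟩
    rw [h0, mem_bot] at h1
    rw [h1, Co.X_one] at x1
    exact zero_ne_one x1
  have hSN : (S : Subgroup G) ≤ normalizer (d.R0 : Set G) := fun s hs => mem_normalizer_iff_cj.mpr (hR s hs)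
  have hnorC : ∀ c ∈ C, c ∈ normalizer (Qt : Set G) := by
    intro c hc
    rw [mem_normalizer_iff]
    intro y
    refine ⟨fun hy => H.isO.nor C c hc y hy, fun hy => ?_⟩
    have h1 := H.isO.nor C c⁻¹ (inv_mem hc) _ hy
    have e : c⁻¹ * (c * y * c⁻¹) * c⁻¹⁻¹ = y := by group
    rwa [e] at h1
  -- elements fixing `R₀` pointwise
  have hcen : ∀ g : G, (∀ v ∈ d.R0, g * v * g⁻¹ = v) → g ∈ C := by
    intro g hg
    rw [hC, mem_centralizer_iff]
    intro z hz
    have h1 := hg z (hZR hz)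
    calc z * g = (g * z * g⁻¹) * g := by rw [h1]
      _ = g * z := by group
  have hσ : σ ≠ RingEquiv.refl K := by
    obtain ⟨x, hx⟩ := d.nt
    intro h0
    apply hx
    rw [h0]; rfl
  -- `Qt` induces `U₀`
  have hact := d.cover (X := Qt) (T := {t : K | t * σ t = 1}) (H.isO.two C) hQtM
    (fun y hy => hR y (hQtS hy))
    (by
      intro hc
      apply H.V_Qt
      intro v hv
      apply H.char2C v (hVC hv)
      intro y hy
      exact mem_centralizer_iff.mp (hc hy) v hv)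
    (fun B hB hB0 => HermField.closed_eq_top' hσ d.inv B (fun t ht b hb => hB t ht b hb) hB0)
    (by
      rintro t ht rfl
      rw [Set.mem_ofPred_eq, zero_mul] at ht
      exact zero_ne_one ht)
    (fun g hg a ha => hnorC g (hcen g fun v hv => d.fix_of_mem_R0 hv hg ha))
    (fun t ht htT g hg hga => hnorC g (hcen g fun v hv => by
      apply d.ext (d.conj_mem' hg hv.1) hv.1
      · rw [d.h_X hga hv.1]
        have h1 : t * σ t = 1 := htT
        linear_combination d.X v * h1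
      · rw [d.h_Y hga hv.1, hv.2.1]; simp
      · rw [d.h_Z hga hv.1, hv.2.2]; simp))
  have hcenR : ∀ r ∈ d.R0, ∀ x ∈ Qt, x * r = r * x := by
    intro r hr x hx
    obtain ⟨a, ha⟩ := hact.1 x hx
    have h1 := d.fix_of_mem_R0 hr (hQtM hx) ha
    calc x * r = (x * r * x⁻¹) * x := by group
      _ = r * x := by rw [h1]
  refine ⟨H.isO, H.C_M, ?_, H.char2N _ hR0ne d.R0_le hSN, ?_⟩
  · exact (le_sylow S hSN (H.isO.two _) (H.isO.nor _)).trans H.S_M
  · intro hVQ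
    apply H.V_Qt
    refine App.le_of_le (C := C) (R := d.R0) hVC (H.isO.nor C) (H.isO.max C)
      (fun c hc hx => H.char2C c hc fun y hy => (hx y hy).symm) d.R0_le (fun r hr => d.sq hr.1) hcenR
      ?_ (H.isO.two (normalizer (d.R0 : Set G))) (H.isO.nor _) hVQ
    -- an involution `y` of `Z(Qt)` centralises `V`
    intro y hy hyc _ v hv
    obtain ⟨a, ha⟩ := hact.1 y hy
    obtain ⟨v1, hv1, x1, y1, z1⟩ := d.exists_v 0 0 1 (map_zero σ) (map_one σ)
    have h2 := d.conj_mem' (hQtM hy) hv1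
    have h3 : v1 * (y * v1 * y⁻¹) ∈ d.R0 := by
      apply d.mem_R0_of_fix (V.mul_mem hv1 h2)
      intro b hb g hg hgb
      obtain ⟨x, hx, hxb⟩ := hact.2 b
      rw [hgb.eq hxb hg (hQtM hx) (V.mul_mem hv1 h2)]
      -- `[v1, y]` is central in `Qt`
      have h4 : ∀ x ∈ Qt, x * (v1 * y * v1⁻¹) = (v1 * y * v1⁻¹) * x := by
        intro x hx
        have h5 : v1⁻¹ * x * v1 ∈ Qt := by
          have := H.isO.nor C v1⁻¹ (inv_mem (hVC hv1)) x hx
          rwa [inv_inv] at this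
        have h6 := hyc _ h5
        calc x * (v1 * y * v1⁻¹) = v1 * ((v1⁻¹ * x * v1) * y) * v1⁻¹ := by group
          _ = v1 * (y * (v1⁻¹ * x * v1)) * v1⁻¹ := by rw [h6]
          _ = (v1 * y * v1⁻¹) * x := by group
      have h7 : v1 * (y * v1 * y⁻¹) = (v1 * y * v1⁻¹) * y⁻¹ := by rw [d.inv_eq hv1]; group
      have h8 : x * ((v1 * y * v1⁻¹) * y⁻¹) = ((v1 * y * v1⁻¹) * y⁻¹) * x := by
        have h9 : x * y⁻¹ = y⁻¹ * x := by
          have := hyc x hx
          calc x * y⁻¹ = y⁻¹ * (y * x) * y⁻¹ := by group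
            _ = y⁻¹ * (x * y) * y⁻¹ := by rw [this]
            _ = y⁻¹ * x := by group
        calc x * ((v1 * y * v1⁻¹) * y⁻¹) = (x * (v1 * y * v1⁻¹)) * y⁻¹ := by group
          _ = ((v1 * y * v1⁻¹) * x) * y⁻¹ := by rw [h4 x hx]
          _ = (v1 * y * v1⁻¹) * (x * y⁻¹) := by group
          _ = (v1 * y * v1⁻¹) * (y⁻¹ * x) := by rw [h9]
          _ = _ := by group
      rw [h7, h8, mul_inv_cancel_right]
    have h4 := h3.2.1
    rw [d.Y_mul hv1 h2, d.u_Y ha hv1, y1, z1, mul_one, zero_add, zero_add] at h4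
    rw [h4, u_zero] at ha
    have h5 := (act_one_iff (hQtM hy)).mp ha
    exact mem_centralizer_iff.mp h5 v hv

/-- **THEOREM BETA, part F.** -/
theorem main [Finite G] [Finite K] (H : Sy d O S Z) :
    ∃ (g : G) (hg : g ∈ M), (S : Subgroup G) ≤ normalizer ((d.mv g hg).R0 : Set G) ∧
      Z ≤ (d.mv g hg).R0 ∧ Hyp (d.mv g hg) O := by
  obtain ⟨g, hg, hR⟩ := exists_fixed_pt d H.S_M S.isPGroup'
  exact ⟨g, hg, fun s hs => mem_normalizer_iff_cj.mpr (hR s hs), (H.mv hg).Z_R0 hR, (H.mv hg).hyp hR⟩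

end Sy

end Cfsg.Agent.Omega.NO1.Beta.Inst
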